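import Groth.Agent.Sga7.H761.BaseChg
import Groth.Agent.Sga7.H761.TransSig
import Groth.Agent.Grpsch.CubePush
import Groth.Agent.Grpsch.Cube
import Groth.Agent.Etcore.DimBaseChange

/-!
# Base change of abelian varieties to a field extension and Galois conjugation

`bc Ω X` is the base change of `X / k` to `Ω`, `pr : (bc Ω X).left ⟶ X.left` the projection,
`bcHom u` the base change of a morphism, `ptE : Pt (bc Ω X) ≃* SGA7.Pts Ω X` the points,
`conj σ : (bc Ω X).left ⟶ (bc Ω X).left` the Galois conjugation.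
-/

set_option autoImplicit false
universe u

open CategoryTheory CategoryTheory.Limits MonoidalCategory CartesianMonoidalCategory
  AlgebraicGeometry MonObj
open Groth.Agent.Sga7.H761.BaseChg Groth.Agent.Sga7.H761.TransSig Groth.Agent.Grpsch.PicGrp
  Groth.Agent.Sga67.TorsionLift Groth.Agent.Grpsch.Cube

noncomputable section

namespace K515.Bc

variable {k : Type u} [Field k] (Ω : Type u) [Field Ω] [Algebra k Ω]

/-- The base change to `Ω`. -/
abbrev bc (X : Over (Spec (CommRingCat.of k))) : Over (Spec (CommRingCat.of Ω)) := bcA Ω X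

variable (X Y Z : Over (Spec (CommRingCat.of k)))

scoped instance instGrp [GrpObj X] : GrpObj (bc Ω X) := grpBc Ω X

scoped instance instProper [IsProper X.hom] : IsProper (bc Ω X).hom :=
  inferInstanceAs (IsProper (pullback.snd X.hom (fKL k Ω)))

scoped instance instGeom [GeometricallyIntegral X.hom] : GeometricallyIntegral (bc Ω X).hom :=
  inferInstanceAs (GeometricallyIntegral (pullback.snd X.hom (fKL k Ω)))

scoped instance instIntegral [GeometricallyIntegral X.hom] [LocallyOfFiniteType X.hom] :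
    AlgebraicGeometry.IsIntegral (bc Ω X).left :=
  GeometricallyIntegral.isIntegral_of_subsingleton (bc Ω X).hom

scoped instance instComm [GrpObj X] [IsProper X.hom] [GeometricallyIntegral X.hom] :
    IsCommMonObj (bc Ω X) :=
  isCommMonObj_of_isProper_of_geometricallyIntegral (bc Ω X)

lemma dim_bc [IsProper X.hom] :
    topologicalKrullDim (bc Ω X).left = topologicalKrullDim X.left :=
  Groth.Agent.Etcore.DimBaseChange.topologicalKrullDim_eq (Field.toIsField k) (Field.toIsField Ω)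
    X.hom (bc Ω X).hom (pullback.fst _ _) (fKL k Ω) (IsPullback.of_hasPullback _ _)

/-- The projection. -/
abbrev pr : (bc Ω X).left ⟶ X.left := pullback.fst X.hom (fKL k Ω)

lemma isPullback_pr : IsPullback (pr Ω X) (bc Ω X).hom X.hom (fKL k Ω) :=
  IsPullback.of_hasPullback _ _

variable {X Y Z}

/-- Base change of a morphism. -/
abbrev bcHom (u : X ⟶ Y) : bc Ω X ⟶ bc Ω Y := (Over.pullback (fKL k Ω)).map u

scoped instance [GrpObj X] [GrpObj Y] (u : X ⟶ Y) [IsMonHom u] : IsMonHom (bcHom Ω u) :=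
  inferInstanceAs (IsMonHom ((Over.pullback (fKL k Ω)).map u))

lemma bcHom_comp (u : X ⟶ Y) (v : Y ⟶ Z) : bcHom Ω (u ≫ v) = bcHom Ω u ≫ bcHom Ω v :=
  Functor.map_comp _ _ _

lemma bcHom_pr (u : X ⟶ Y) : (bcHom Ω u).left ≫ pr Ω Y = pr Ω X ≫ u.left :=
  pullback.lift_fst _ _ _

/-- `X_Ω` as a `k`-scheme with its projection to `X`. -/
def adjn {T : Over (Spec (CommRingCat.of Ω))} (a : T ⟶ bc Ω X) :
    (Over.map (fKL k Ω)).obj T ⟶ X := ((Over.mapPullbackAdj (fKL k Ω)).homEquiv T X).symm a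

lemma adjn_left {T : Over (Spec (CommRingCat.of Ω))} (a : T ⟶ bc Ω X) :
    (adjn Ω a).left = a.left ≫ pr Ω X := by
  unfold adjn
  rw [Over.mapPullbackAdj, Adjunction.mkOfHomEquiv_homEquiv]
  rfl

lemma adjn_mul [GrpObj X] {T : Over (Spec (CommRingCat.of Ω))} (a b : T ⟶ bc Ω X) :
    adjn Ω (a * b) = adjn Ω a * adjn Ω b := homEquiv_symm_mul _ a b

lemma adjn_comp {T T' : Over (Spec (CommRingCat.of Ω))} (c : T' ⟶ T) (a : T ⟶ bc Ω X) :
    adjn Ω (c ≫ a) = (Over.map (fKL k Ω)).map c ≫ adjn Ω a :=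
  (Over.mapPullbackAdj (fKL k Ω)).homEquiv_naturality_left_symm c a

/-- morphisms to the base change are determined by their adjoints -/
lemma adjn_injective {T : Over (Spec (CommRingCat.of Ω))} {a b : T ⟶ bc Ω X}
    (h : a.left ≫ pr Ω X = b.left ≫ pr Ω X) : a = b := by
  ext1
  apply pullback.hom_ext h
  exact (Over.w a).trans (Over.w b).symm

/-- Points of the base change. -/
def ptE [GrpObj X] : Pt (bc Ω X) ≃* SGA7.Pts Ω X := ptEquiv Ω X

lemma ptE_left [GrpObj X] (w : Pt (bc Ω X)) : (ptE Ω w).left = w.left ≫ pr Ω X := by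
  have h : ptE Ω w = (ptIso Ω).hom ≫ adjn Ω w := rfl
  rw [h, Over.comp_left, adjn_left]
  exact Category.id_comp _

lemma ptE_comp [GrpObj X] [GrpObj Y] (u : X ⟶ Y) (w : Pt (bc Ω X)) :
    ptE Ω (w ≫ bcHom Ω u) = ptE Ω w ≫ u := by
  ext1
  rw [ptE_left, Over.comp_left, Over.comp_left, Category.assoc, bcHom_pr, ptE_left,
    Category.assoc]

variable {Ω}

/-- Galois conjugation on the base change. -/
def conj (σ : Ω ≃ₐ[k] Ω) (X : Over (Spec (CommRingCat.of k))) :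
    (bc Ω X).left ⟶ (bc Ω X).left :=
  pullback.lift (pr Ω X) ((bc Ω X).hom ≫ Spec.map (CommRingCat.ofHom (σ : Ω →+* Ω))) (by
    rw [Category.assoc, SGA7.spec_map_algEquiv_comp]
    exact pullback.condition)

lemma conj_pr (σ : Ω ≃ₐ[k] Ω) : conj σ X ≫ pr Ω X = pr Ω X := pullback.lift_fst _ _ _

lemma conj_hom (σ : Ω ≃ₐ[k] Ω) :
    conj σ X ≫ (bc Ω X).hom = (bc Ω X).hom ≫ Spec.map (CommRingCat.ofHom (σ : Ω →+* Ω)) :=
  pullback.lift_snd _ _ _

lemma conj_comp (σ τ : Ω ≃ₐ[k] Ω) : conj σ X ≫ conj τ X = conj (σ * τ) X := by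
  apply pullback.hom_ext
  · change (conj σ X ≫ conj τ X) ≫ pr Ω X = conj (σ * τ) X ≫ pr Ω X
    rw [Category.assoc, conj_pr, conj_pr, conj_pr]
  · change (conj σ X ≫ conj τ X) ≫ (bc Ω X).hom = conj (σ * τ) X ≫ (bc Ω X).hom
    rw [Category.assoc, conj_hom, conj_hom, reassoc_of% conj_hom, ← Spec.map_comp]
    rfl

lemma conj_one : conj (1 : Ω ≃ₐ[k] Ω) X = 𝟙 _ := by
  apply pullback.hom_ext
  · change conj (1 : Ω ≃ₐ[k] Ω) X ≫ pr Ω X = 𝟙 _ ≫ pr Ω X
    rw [conj_pr, Category.id_comp]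
  · change conj (1 : Ω ≃ₐ[k] Ω) X ≫ (bc Ω X).hom = 𝟙 _ ≫ (bc Ω X).hom
    rw [conj_hom, Category.id_comp]
    have : CommRingCat.ofHom ((1 : Ω ≃ₐ[k] Ω) : Ω →+* Ω) = 𝟙 (CommRingCat.of Ω) := rfl
    rw [this, Spec.map_id, Category.comp_id]

instance isIso_conj (σ : Ω ≃ₐ[k] Ω) : IsIso (conj σ X) :=
  ⟨conj σ⁻¹ X, by rw [conj_comp, mul_inv_cancel, conj_one],
    by rw [conj_comp, inv_mul_cancel, conj_one]⟩

lemma conj_bcHom (σ : Ω ≃ₐ[k] Ω) (u : X ⟶ Y) :
    conj σ X ≫ (bcHom Ω u).left = (bcHom Ω u).left ≫ conj σ Y := by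
  apply pullback.hom_ext
  · change (conj σ X ≫ (bcHom Ω u).left) ≫ pr Ω Y = ((bcHom Ω u).left ≫ conj σ Y) ≫ pr Ω Y
    rw [Category.assoc, Category.assoc, bcHom_pr, conj_pr, bcHom_pr, ← Category.assoc, conj_pr]
  · change (conj σ X ≫ (bcHom Ω u).left) ≫ (bc Ω Y).hom =
      ((bcHom Ω u).left ≫ conj σ Y) ≫ (bc Ω Y).hom
    rw [Category.assoc, Category.assoc, Over.w, conj_hom, conj_hom, ← Category.assoc, Over.w]

/-- `X_Ω` over `k`, and conjugation over `k`. -/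
def conjK (σ : Ω ≃ₐ[k] Ω) (X : Over (Spec (CommRingCat.of k))) :
    (Over.map (fKL k Ω)).obj (bc Ω X) ⟶ (Over.map (fKL k Ω)).obj (bc Ω X) :=
  Over.homMk (conj σ X) (by
    change conj σ X ≫ (bc Ω X).hom ≫ fKL k Ω = (bc Ω X).hom ≫ fKL k Ω
    rw [← Category.assoc, conj_hom, Category.assoc, SGA7.spec_map_algEquiv_comp])

/-- The conjugate of a rational point: `ptE (gal σ w) = galAct σ (ptE w)`. -/
def gal [GrpObj X] (σ : Ω ≃ₐ[k] Ω) (w : Pt (bc Ω X)) : Pt (bc Ω X) :=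
  (ptE Ω).symm (SGA7.galAct σ (ptE Ω w))

lemma ptE_gal [GrpObj X] (σ : Ω ≃ₐ[k] Ω) (w : Pt (bc Ω X)) :
    ptE Ω (gal σ w) = SGA7.galAct σ (ptE Ω w) := MulEquiv.apply_symm_apply _ _

/-- Translations and Galois conjugation. -/
lemma t_conj [GrpObj X] (σ : Ω ≃ₐ[k] Ω) (w : Pt (bc Ω X)) :
    (t w).left ≫ conj σ X = conj σ X ≫ (t (gal σ⁻¹ w)).left := by
  have key : ∀ w : Pt (bc Ω X), adjn Ω (t w) = adjn Ω (𝟙 (bc Ω X)) *
      (Over.homMk (bc Ω X).hom : (Over.map (fKL k Ω)).obj (bc Ω X) ⟶ SGA7.pt Ω) ≫ ptE Ω w := by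
    intro w
    rw [t, adjn_mul]
    congr 1
  apply pullback.hom_ext
  · change ((t w).left ≫ conj σ X) ≫ pr Ω X = (conj σ X ≫ (t (gal σ⁻¹ w)).left) ≫ pr Ω X
    rw [Category.assoc, Category.assoc, conj_pr, ← adjn_left, ← adjn_left]
    have h1 : conj σ X ≫ (adjn Ω (t (gal σ⁻¹ w))).left =
        (conjK σ X ≫ adjn Ω (t (gal σ⁻¹ w))).left := rfl
    rw [h1, key, key, MonObj.comp_mul, ptE_gal]
    have h2 : conjK σ X ≫ adjn Ω (𝟙 (bc Ω X)) = adjn Ω (𝟙 (bc Ω X)) := by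
      ext1
      rw [Over.comp_left, adjn_left]
      exact (congrArg (fun f => conj σ X ≫ f) (Category.id_comp _)).trans
        ((conj_pr σ).trans (Category.id_comp _).symm)
    rw [h2]
    congr 2
    ext1
    rw [SGA7.galAct, Over.comp_left, Over.comp_left, Over.comp_left, Over.comp_left]
    change (bc Ω X).hom ≫ (ptE Ω w).left = conj σ X ≫ (bc Ω X).hom ≫
      Spec.map (CommRingCat.ofHom ((σ⁻¹ : Ω ≃ₐ[k] Ω) : Ω →+* Ω)) ≫ (ptE Ω w).left
    rw [reassoc_of% conj_hom, ← Spec.map_comp_assoc]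
    have h3 : CommRingCat.ofHom ((σ⁻¹ : Ω ≃ₐ[k] Ω) : Ω →+* Ω) ≫
        CommRingCat.ofHom (σ : Ω →+* Ω) = 𝟙 (CommRingCat.of Ω) := by
      ext x
      exact σ.apply_symm_apply x
    rw [h3, Spec.map_id, Category.id_comp]
  · change ((t w).left ≫ conj σ X) ≫ (bc Ω X).hom =
      (conj σ X ≫ (t (gal σ⁻¹ w)).left) ≫ (bc Ω X).hom
    rw [Category.assoc, Category.assoc, conj_hom, Over.w, conj_hom, ← Category.assoc, Over.w]

end K515.Bc
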