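import Groth.Agent.KoszSh.K880.Acyclic
import Groth.Agent.CurvesB.HZero
import Groth.Agent.Sga67.CohBasic
import Groth.Agent.AbSch.K451.DetPic

/-!
# The direct image on the spectrum of a field

`isFinLocFreeOfRank_push` : for `f : X ⟶ Spec k` quasi-compact and quasi-separated and `M` quasi-coherent with
`H^0(X, M)` of finite dimension, `f_* M` is finite locally free of rank `dim H^0(X, M)`.
-/

set_option autoImplicit false
universe u

open CategoryTheory CategoryTheory.Limits AlgebraicGeometry Opposite TopologicalSpace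
open Groth.Agent Groth.Agent.Sga67.Sec Groth.Agent.Sga67.LocBasis

namespace K515.PushRank

variable {k : Type u} [Field k] {X : Scheme.{u}}

/-- The ring isomorphism `k = Γ(Spec k, O)`. -/
noncomputable def rho (k : Type u) [Field k] : k ≃+* Γ(Spec (CommRingCat.of k), ⊤) :=
  (Scheme.ΓSpecIso (CommRingCat.of k)).symm.commRingCatIsoToRingEquiv

/-- A basis of `Γ(f_* M)` over `Γ(Spec k, O)`. -/
theorem exists_basis (f : X ⟶ Spec (CommRingCat.of k)) (M : X.Modules) (r : ℕ)
    (hfin : @Module.Finite k (Coh.HH X M 0) _ _ (@Coh.moduleOver k _ X ⟨f⟩ M 0))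
    (hr : @Module.finrank k (Coh.HH X M 0) _ _ (@Coh.moduleOver k _ X ⟨f⟩ M 0) = r) :
    Nonempty (Module.Basis (Fin r) Γ(Spec (CommRingCat.of k), ⊤)
      Γ((Scheme.Modules.pushforward f).obj M, ⊤)) := by
  let _ : X.Over (Spec (CommRingCat.of k)) := ⟨f⟩
  have : Module.Finite k (Coh.HH X M 0) := hfin
  have hr' : Module.finrank k (Coh.HH X M 0) = r := hr
  let b := Module.finBasisOfFinrankEq k (Coh.HH X M 0) hr'
  let e : Coh.HH X M 0 ≃+ Γ((Scheme.Modules.pushforward f).obj M, ⊤) := CurvesB.HZero.equivAdd M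
  have he : ∀ (t : k) (x : Coh.HH X M 0), e (t • x) = rho k t • e x := by
    intro t x
    exact CurvesB.HZero.equivAdd_smul_over M t x
  let _ : Module k Γ((Scheme.Modules.pushforward f).obj M, ⊤) :=
    Module.compHom _ (rho k).toRingHom
  let e' : Coh.HH X M 0 ≃ₗ[k] Γ((Scheme.Modules.pushforward f).obj M, ⊤) :=
    { e with map_smul' := he }
  exact ⟨(b.map e').mapCoeffs (rho k) (fun c x => rfl)⟩

theorem isFinLocFreeOfRank_push (f : X ⟶ Spec (CommRingCat.of k)) [QuasiCompact f] [QuasiSeparated f]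
    (M : X.Modules) (hM : Coh.IsQCoh M) (r : ℕ)
    (hfin : @Module.Finite k (Coh.HH X M 0) _ _ (@Coh.moduleOver k _ X ⟨f⟩ M 0))
    (hr : @Module.finrank k (Coh.HH X M 0) _ _ (@Coh.moduleOver k _ X ⟨f⟩ M 0) = r) :
    FlatMod.IsFinLocFreeOfRank r ((Scheme.Modules.pushforward f).obj M) := by
  obtain ⟨b⟩ := exists_basis f M r hfin hr
  have hq := Groth.Agent.Sga67.CohBasic.isQCoh_push f hM
  have h1 := K880.Acyclic.isLocBasis_of_isQCoh hq (isAffineOpen_top (Spec (CommRingCat.of k))) b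
  intro x
  exact ⟨⊤, trivial, nonempty_restrict_iso_iff.mpr ⟨_, h1⟩⟩

end K515.PushRank
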