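import Groth.Agent.AbVar.K515.FF
import Groth.Agent.Grpsch.PicGrp

/-!
# Cartier cocycles of classes in the Picard group
-/

set_option autoImplicit false
universe u

open AlgebraicGeometry CategoryTheory CategoryTheory.Limits TopologicalSpace Opposite
open Groth.Agent.Dix.Center Groth.Agent.Grpsch.GrowthFF Groth.Agent.Fdesc.LocGen
  Groth.Agent.Lefpen.H725.CocDef Groth.Agent.Lefpen.H521.CartierCoc K515.FF
  Groth.Agent.Grpsch.PicGrp

namespace K515.Coc

variable {X Y : Scheme.{u}} [AlgebraicGeometry.IsIntegral X] [AlgebraicGeometry.IsIntegral Y]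

/-- `a` is a Cartier cocycle of the class `L`. -/
def IsCoc (L : Pic X) (a : X → X.functionField) : Prop :=
  ∃ (M : X.Modules) (hM : PicF.IsInvertible M), mk M hM = L ∧ HasCoc M a

theorem exists_isCoc (L : Pic X) : ∃ a, IsCoc L a := by
  obtain ⟨M, hM, rfl⟩ := exists_mk L
  obtain ⟨a, ha⟩ := exists_hasCoc hM
  exact ⟨a, M, hM, rfl, ha⟩

variable {L M : Pic X} {a b : X → X.functionField}

theorem IsCoc.ne (h : IsCoc L a) : ∀ x, a x ≠ 0 := by
  obtain ⟨N, hN, -, h⟩ := h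
  exact h.1

theorem hasCoc_of_iso {N N' : X.Modules} (φ : N ≅ N') (h : HasCoc N a) : HasCoc N' a := by
  obtain ⟨h0, U, hxU, e, he, h⟩ := h
  refine ⟨h0, U, hxU, fun x => φ.hom.app (U x) (e x), fun x => (he x).app φ.hom, fun x y => ?_⟩
  obtain ⟨g, hη, hg, ha⟩ := h x y
  refine ⟨g, hη, ?_, ha⟩
  rw [← app_res, ← app_res, hg, Scheme.Modules.Hom.app_smul]

theorem IsCoc.hasCoc {N : X.Modules} {hN : PicF.IsInvertible N} (h : IsCoc (mk N hN) a) :
    HasCoc N a := by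
  obtain ⟨N', hN', he, h⟩ := h
  obtain ⟨φ⟩ := (mk_eq_iff _ _).mp he
  exact hasCoc_of_iso φ h

theorem IsCoc.mul (h : IsCoc L a) (h' : IsCoc M b) : IsCoc (L * M) (fun x => a x * b x) := by
  obtain ⟨N, hN, rfl, h⟩ := h
  obtain ⟨N', hN', rfl, h'⟩ := h'
  exact ⟨_, isInvertible_tensorMod hN hN', rfl, hasCoc_tensor h h'⟩

theorem IsCoc.pow (h : IsCoc L a) (n : ℕ) : IsCoc (L ^ n) (fun x => a x ^ n) := by
  obtain ⟨N, hN, rfl, h⟩ := h
  exact ⟨_, isInvertible_tensorPow hN n, mk_tensorPow hN n, hasCoc_pow h n⟩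

theorem IsCoc.pull (f : X ⟶ Y) (hη : f (genericPoint X) = genericPoint Y) {L : Pic Y}
    {a : Y → Y.functionField} (h : IsCoc L a) :
    IsCoc (pull f L) (fun x => fm f hη (a (f x))) := by
  obtain ⟨N, hN, rfl, h⟩ := h
  exact ⟨_, isInvertible_pullback f hN, rfl, hasCoc_pullback f hη h⟩

/-- Two cocycles define the same class iff they are proportional up to local units. -/
theorem eq_iff (h : IsCoc L a) (h' : IsCoc M b) :
    L = M ↔ ∃ c : X.functionField, c ≠ 0 ∧ ∀ x, UnitAt x (c * a x / b x) := by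
  obtain ⟨N, hN, rfl, h⟩ := h
  obtain ⟨N', hN', rfl, h'⟩ := h'
  rw [mk_eq_iff]
  exact ⟨fun e => exists_const_of_nonempty_iso h h' e, fun ⟨c, hc, hc'⟩ => hasCoc_iso h h' c hc hc'⟩

theorem IsCoc.change (h : IsCoc L a) (c : X.functionField) (hc : c ≠ 0)
    (hab : ∀ x, UnitAt x (b x / (c * a x))) : IsCoc L b := by
  obtain ⟨N, hN, rfl, h⟩ := h
  -- the family `c * a`
  have h1 : HasCoc N (fun x => c * a x) := by
    obtain ⟨h0, U, hxU, e, he, h⟩ := h
    refine ⟨fun x => mul_ne_zero hc (h0 x), U, hxU, e, he, fun x y => ?_⟩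
    obtain ⟨g, hη, hg, ha⟩ := h x y
    refine ⟨g, hη, hg, ?_⟩
    change c * a x = _ * (c * a y)
    rw [ha]; ring
  exact ⟨N, hN, rfl, hasCoc_change h1 hab⟩

/-- a cocycle of the trivial class -/
theorem isCoc_one : IsCoc (1 : Pic X) (fun _ => 1) := by
  have h := (exists_isCoc (1 : Pic X))
  obtain ⟨a, ha⟩ := h
  have h0 := ha.pow 0
  rw [pow_zero] at h0
  simpa using h0

theorem eq_one_iff (h : IsCoc L a) :
    L = 1 ↔ ∃ c : X.functionField, c ≠ 0 ∧ ∀ x, UnitAt x (c * a x) := by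
  rw [eq_iff h isCoc_one]
  simp only [div_one]

end K515.Coc
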