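import Groth.Agent.AbVar.K515.FF
import Groth.Agent.Picfga.GaloisDescent
import Mathlib.AlgebraicGeometry.Morphisms.Finite
import Mathlib.AlgebraicGeometry.Morphisms.Flat
import Mathlib.Algebra.BigOperators.Field

/-!
# Descent of invertible modules along a finite quotient which is free on closed points

`exists_descent`: `π : X ⟶ Y` finite flat surjective between integral schemes, `H` a finite group of
automorphisms of `X` over `Y`, free and transitive on the fibres through closed points, with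
`K(X)^H = K(Y)`. A Cartier cocycle of `L` which is `H`-invariant up to local units descends.
-/

set_option autoImplicit false
universe u

open AlgebraicGeometry CategoryTheory CategoryTheory.Limits TopologicalSpace Opposite
open Groth.Agent.Dix.Center Groth.Agent.Grpsch.GrowthFF Groth.Agent.Fdesc.LocGen
  Groth.Agent.Lefpen.H725.CocDef Groth.Agent.Lefpen.H521.CartierCoc K515.FF

namespace K515.Desc

variable {X Y : Scheme.{u}} [AlgebraicGeometry.IsIntegral X] [AlgebraicGeometry.IsIntegral Y]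

/-- Rational functions vanishing at `x`. -/
def VanAt (x : X) (φ : X.functionField) : Prop :=
  ∃ a ∈ IsLocalRing.maximalIdeal (X.presheaf.stalk x), toK X x a = φ

theorem vanAt_add {x : X} {φ ψ : X.functionField} (h : VanAt x φ) (h' : VanAt x ψ) :
    VanAt x (φ + ψ) := by
  obtain ⟨a, ha, rfl⟩ := h
  obtain ⟨b, hb, rfl⟩ := h'
  exact ⟨a + b, Ideal.add_mem _ ha hb, map_add _ _ _⟩

theorem vanAt_zero (x : X) : VanAt x (0 : X.functionField) := ⟨0, Ideal.zero_mem _, map_zero _⟩

theorem vanAt_sum {ι : Type*} (s : Finset ι) {x : X} {φ : ι → X.functionField}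
    (h : ∀ i ∈ s, VanAt x (φ i)) : VanAt x (∑ i ∈ s, φ i) := by
  classical
  induction s using Finset.induction_on with
  | empty => rw [Finset.sum_empty]; exact vanAt_zero x
  | insert i s hi ih =>
    rw [Finset.sum_insert hi]
    exact vanAt_add (h i (Finset.mem_insert_self _ _))
      (ih fun j hj => h j (Finset.mem_insert_of_mem hj))

theorem vanAt_mul_mem {x : X} {φ ψ : X.functionField} (h : VanAt x φ) (h' : ψ ∈ O X x) :
    VanAt x (φ * ψ) := by
  obtain ⟨a, ha, rfl⟩ := h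
  obtain ⟨b, rfl⟩ := h'
  exact ⟨a * b, Ideal.mul_mem_right _ _ ha, map_mul _ _ _⟩

theorem unitAt_add_vanAt {x : X} {φ ψ : X.functionField} (h : UnitAt x φ) (h' : VanAt x ψ) :
    UnitAt x (φ + ψ) := by
  rw [unitAt_iff] at h
  obtain ⟨b, hb, rfl⟩ := h'
  obtain ⟨h0, ⟨a, rfl⟩, h2⟩ := h
  have ha : IsUnit a := (isUnit_iff h0).mpr h2
  have hab : IsUnit (a + b) := by
    by_contra hcon
    have h3 : a + b ∈ IsLocalRing.maximalIdeal (X.presheaf.stalk x) :=
      (IsLocalRing.mem_maximalIdeal _).mpr hcon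
    have h4 : a ∈ IsLocalRing.maximalIdeal (X.presheaf.stalk x) := by
      have := Ideal.sub_mem _ h3 hb
      rwa [add_sub_cancel_right] at this
    exact (IsLocalRing.mem_maximalIdeal _).mp h4 ha
  rw [← map_add, unitAt_iff]
  have hne : toK X x (a + b) ≠ 0 := (hab.map (toK X x)).ne_zero
  exact ⟨hne, toK_mem_O _, (isUnit_iff hne).mp hab⟩

theorem vanAt_fm (f : X ⟶ Y) (hη : f (genericPoint X) = genericPoint Y) {x : X}
    {φ : Y.functionField} (h : VanAt (f x) φ) : VanAt x (fm f hη φ) := by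
  obtain ⟨a, ha, rfl⟩ := h
  refine ⟨f.stalkMap x a, ?_, (fm_toK f hη x a).symm⟩
  rw [IsLocalRing.mem_maximalIdeal, mem_nonunits_iff] at ha ⊢
  exact fun h => ha (isUnit_of_map_unit (f.stalkMap x).hom a h)

/-- The rational function of a section over `V`, relative to a Cartier cocycle. -/
theorem exists_rational {L : X.Modules} {a : X → X.functionField} (h : HasCoc L a) {V : X.Opens}
    {p : X} (hp : p ∈ V) (m : Γ(L, V)) :
    ∃ t : X.functionField, (∀ x ∈ V, t / a x ∈ O X x) ∧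
      (Groth.Agent.Picfga.GaloisDescent.GenAt m p → UnitAt p (t / a p)) := by
  obtain ⟨h0, U, hxU, e, he, h⟩ := h
  have h1 : ∀ x, ∃ g : Γ(X, U x ⊓ V), res L inf_le_right m = g • res L inf_le_left (e x) :=
    fun x => ((he x).res (inf_le_left : U x ⊓ V ≤ U x)).exists_eq _
  choose g hg using h1
  have hηV : genericPoint X ∈ V := gen_mem hp
  have hη : ∀ x, genericPoint X ∈ U x ⊓ V := fun x => ⟨gen_mem (hxU x), hηV⟩
  have key : ∀ x, ff (U x ⊓ V) (hη x) (g x) * a x = ff (U p ⊓ V) (hη p) (g p) * a p := by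
    intro x
    obtain ⟨c, hc, hres, hac⟩ := h x p
    have k0 : U x ⊓ U p ⊓ V ≤ U x ⊓ V := inf_le_inf_right V inf_le_left
    have k1 : U x ⊓ U p ⊓ V ≤ U p ⊓ V := inf_le_inf_right V inf_le_right
    have k2 : U x ⊓ U p ⊓ V ≤ U x ⊓ U p := inf_le_left
    have e1 := congrArg (res L k0) (hg x)
    have e2 := congrArg (res L k1) (hg p)
    have e3 := congrArg (res L k2) hres
    simp only [res_smul, res_res] at e1 e2 e3
    have e4 : ores k0 (g x) * ores k2 c = ores k1 (g p) :=
      ((he p).res (k1.trans inf_le_left)).ext (by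
        rw [mul_smul, ← e3, ← e1, e2])
    have hη3 : genericPoint X ∈ U x ⊓ U p ⊓ V := ⟨hc, hηV⟩
    have e5 := congrArg (ff (U x ⊓ U p ⊓ V) hη3) e4
    rw [map_mul, ff_ores, ff_ores, ff_ores] at e5
    rw [hac, ← mul_assoc, e5]
  refine ⟨ff (U p ⊓ V) (hη p) (g p) * a p, fun x hx => ?_, fun hgen => ?_⟩
  · rw [← key x, mul_div_assoc, div_self (h0 x), mul_one]
    exact germ_mem_O (U := U x ⊓ V) (show x ∈ U x ⊓ V from ⟨hxU x, hx⟩) (hη x) (g x)
  · rw [mul_div_assoc, div_self (h0 p), mul_one]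
    obtain ⟨W, hWV, hpW, hW⟩ := hgen
    have k0 : W ⊓ U p ≤ U p ⊓ V := le_inf inf_le_right (inf_le_left.trans hWV)
    have e1 := congrArg (res L k0) (hg p)
    simp only [res_smul, res_res] at e1
    have hu : IsUnit (ores k0 (g p)) :=
      ((he p).res (inf_le_right : W ⊓ U p ≤ U p)).isUnit_of_smul (by
        rw [← e1]
        have := hW.res (inf_le_left : W ⊓ U p ≤ W)
        rwa [res_res] at this)
    refine ⟨W ⊓ U p, ⟨hpW, hxU p⟩, ⟨gen_mem hpW, gen_mem (hxU p)⟩, ores k0 (g p), hu, ff_ores _ _ _⟩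

/-- the open set where `φ` generates relative to a cocycle -/
theorem isOpen_unitAt {L : X.Modules} {a : X → X.functionField} (h : HasCoc L a)
    (φ : X.functionField) : IsOpen {x : X | UnitAt x (φ / a x)} := by
  rw [isOpen_iff_forall_mem_open]
  intro x hx
  obtain ⟨U, hxU, hU⟩ := hasCoc_loc h x
  obtain ⟨V, hxV, hV⟩ := unitAt_nhds hx
  refine ⟨(U ⊓ V : X.Opens), fun y hy => ?_, (U ⊓ V).isOpen, ⟨hxU, hxV⟩⟩
  refine unitAt_congr (unitAt_mul (hV y hy.2) (hU y hy.1)) ?_
  rw [div_mul_div_cancel₀ (h.1 x)]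

variable (π : X ⟶ Y) (hπ : π (genericPoint X) = genericPoint Y)

/-- **Descent of invertible modules.** -/
theorem exists_descent [IsFinite π] [Flat π] [Surjective π] [CompactSpace X]
    {H : Type*} [Group H] [Finite H] (ρ : H → (X ⟶ X)) [∀ h, IsIso (ρ h)]
    (hρη : ∀ h, ρ h (genericPoint X) = genericPoint X)
    (hρ1 : ρ 1 = 𝟙 X) (hρmul : ∀ v w, ρ (v * w) = ρ v ≫ ρ w) (hρπ : ∀ h, ρ h ≫ π = π)
    (hfix : ∀ φ : X.functionField, (∀ h, fm (ρ h) (hρη h) φ = φ) → ∃ ψ, fm π hπ ψ = φ)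
    (hfib : ∀ p p' : X, IsClosed {p} → π p' = π p → ∃ h, ρ h p = p')
    (hfree : ∀ p : X, IsClosed {p} → ∀ h : H, h ≠ 1 → ρ h p ≠ p)
    {L : X.Modules} {a : X → X.functionField} (ha : HasCoc L a) (hL : PicF.IsInvertible L)
    (hinv : ∀ h x, UnitAt x (a x / fm (ρ h) (hρη h) (a (ρ h x)))) :
    ∃ M : Y.Modules, PicF.IsInvertible M ∧ Nonempty ((Scheme.Modules.pullback π).obj M ≅ L) := by
  classical
  have := Fintype.ofFinite H
  have ha0 := ha.1
  have hτmul : ∀ v w φ, fm (ρ (v * w)) (hρη _) φ = fm (ρ v) (hρη v) (fm (ρ w) (hρη w) φ) := by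
    intro v w φ
    have hη' : (ρ v ≫ ρ w) (genericPoint X) = genericPoint X := (hρmul v w) ▸ hρη (v * w)
    rw [fm_congr _ _ (hρmul v w) hη', fm_comp _ (hρη v) _ (hρη w)]
  -- local existence
  have local_ex : ∀ y : Y, ∃ b : Y.functionField, b ≠ 0 ∧
      ∀ x, π x = y → UnitAt x (fm π hπ b / a x) := by
    intro y
    obtain ⟨x₀, rfl⟩ := π.surjective y
    obtain ⟨p, hp, hpc⟩ := (isClosed_closure (s := {x₀})).exists_closed_singleton
      ⟨x₀, subset_closure rfl⟩
    have hspec : x₀ ⤳ p := specializes_iff_mem_closure.mpr hp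
    -- an affine neighbourhood
    obtain ⟨V, hV, hyV, -⟩ := exists_isAffineOpen_mem_and_subset (U := (⊤ : Y.Opens))
      (show π p ∈ (⊤ : Y.Opens) from trivial)
    have hV' : IsAffineOpen (π ⁻¹ᵁ V) := hV.preimage π
    have hρV : ∀ h, ρ h p ∈ π ⁻¹ᵁ V := by
      intro h
      change π (ρ h p) ∈ V
      rw [← Scheme.Hom.comp_apply, hρπ]
      exact hyV
    have hpV : p ∈ π ⁻¹ᵁ V := hyV
    have hρc : ∀ h, IsClosed {ρ h p} := by
      intro h
      have h1 : IsClosedMap (ρ h) := (Scheme.Hom.homeomorph (ρ h)).isClosedMap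
      have := h1 _ hpc
      rwa [Set.image_singleton] at this
    -- a function which is a unit at `p` and vanishes at the other points of the orbit
    let Q : Set X := ⋃ h ∈ {h : H | h ≠ 1}, {ρ h p}
    have hQ : IsClosed Q := (Set.toFinite {h : H | h ≠ 1}).isClosed_biUnion fun h _ => hρc h
    have hpQ : p ∉ Q := by
      intro hp'
      simp only [Q, Set.mem_iUnion, Set.mem_singleton_iff, exists_prop] at hp'
      obtain ⟨h, hh, hh'⟩ := hp'
      exact hfree p hpc h hh hh'.symm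
    obtain ⟨s, hsle, hps⟩ := hV'.exists_basicOpen_le (V := (⟨Qᶜ, hQ.isOpen_compl⟩ : X.Opens))
      ⟨p, hpQ⟩ hpV
    obtain ⟨m, hm⟩ := Groth.Agent.Picfga.GaloisDescent.exists_genAt hL hV' hpV
    obtain ⟨t, ht, htp⟩ := exists_rational ha hpV m
    have htp := htp hm
    have hηV : genericPoint X ∈ π ⁻¹ᵁ V := gen_mem hpV
    let s' : X.functionField := ff (π ⁻¹ᵁ V) hηV s
    have hs'p : UnitAt p s' := by
      rw [unitAt_iff]
      have hu : IsUnit (X.presheaf.germ (π ⁻¹ᵁ V) p hpV s) := (Scheme.mem_basicOpen _ _ _ hpV).mp hps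
      have e1 : toK X p (X.presheaf.germ (π ⁻¹ᵁ V) p hpV s) = s' := toK_germ hpV s hηV
      have hne : s' ≠ 0 := by rw [← e1]; exact (hu.map (toK X p)).ne_zero
      refine ⟨hne, e1 ▸ toK_mem_O _, ?_⟩
      rw [← e1]
      rw [← e1] at hne
      exact (isUnit_iff hne).mp hu
    have hs'q : ∀ h : H, h ≠ 1 → VanAt (ρ h p) s' := by
      intro h hh
      refine ⟨X.presheaf.germ (π ⁻¹ᵁ V) (ρ h p) (hρV h) s, ?_, toK_germ (hρV h) s hηV⟩
      rw [IsLocalRing.mem_maximalIdeal, mem_nonunits_iff, ← Scheme.mem_basicOpen _ _ _ (hρV h)]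
      intro hcon
      have h1 := hsle hcon
      apply h1
      simp only [Q, Set.mem_iUnion, Set.mem_singleton_iff, exists_prop]
      exact ⟨h, hh, rfl⟩
    -- the invariant element
    let β : X.functionField := ∑ h : H, fm (ρ h) (hρη h) (s' * t)
    have hβinv : ∀ k, fm (ρ k) (hρη k) β = β := by
      intro k
      change fm (ρ k) (hρη k) (∑ h : H, fm (ρ h) (hρη h) (s' * t)) = _
      rw [map_sum]
      refine Fintype.sum_equiv (Equiv.mulLeft k) _ _ fun h => ?_
      rw [← hτmul]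
      rfl
    have hβp : UnitAt p (β / a p) := by
      have e1 : β / a p = s' * t / a p +
          ∑ h ∈ Finset.univ.erase (1 : H), fm (ρ h) (hρη h) (s' * t) / a p := by
        change (∑ h : H, fm (ρ h) (hρη h) (s' * t)) / a p = _
        rw [← Finset.add_sum_erase _ _ (Finset.mem_univ (1 : H)), add_div, Finset.sum_div]
        congr 2
        have hη' : (𝟙 X : X ⟶ X) (genericPoint X) = genericPoint X := hρ1 ▸ hρη 1
        rw [fm_congr _ _ hρ1 hη', fm_id]
      rw [e1]
      refine unitAt_add_vanAt ?_ (vanAt_sum _ fun h hh => ?_)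
      · rw [mul_div_assoc]
        exact unitAt_mul hs'p htp
      · have hh1 : h ≠ 1 := (Finset.mem_erase.mp hh).1
        have e2 : VanAt (ρ h p) (s' * (t / a (ρ h p))) := vanAt_mul_mem (hs'q h hh1) (ht _ (hρV h))
        have e3 := vanAt_fm (ρ h) (hρη h) e2
        have e4 := (unitAt_iff.mp (unitAt_inv (hinv h p))).2.1
        have hne : fm (ρ h) (hρη h) (a (ρ h p)) ≠ 0 := (map_ne_zero _).mpr (ha0 _)
        have e5 : fm (ρ h) (hρη h) (s' * t) / a p = fm (ρ h) (hρη h) (s' * (t / a (ρ h p))) *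
            (a p / fm (ρ h) (hρη h) (a (ρ h p)))⁻¹ := by
          rw [map_mul, map_mul, map_div₀, inv_div]
          have := ha0 p
          field_simp
        rw [e5]
        exact vanAt_mul_mem e3 e4
    obtain ⟨b, hb⟩ := hfix β hβinv
    have hβ0 : β ≠ 0 := by
      intro h0
      rw [h0, zero_div] at hβp
      exact (unitAt_iff.mp hβp).1 rfl
    have hb0 : b ≠ 0 := by
      rintro rfl
      exact hβ0 (by rw [← hb, map_zero])
    -- good at all points of the fibre of `π p`
    have hgood : ∀ x, π x = π p → UnitAt x (fm π hπ b / a x) := by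
      intro x hx
      obtain ⟨h, rfl⟩ := hfib p x hpc hx
      rw [hb]
      apply unitAt_of_fm (ρ h) (hρη h)
      refine unitAt_congr (unitAt_mul hβp (hinv h p)) ?_
      rw [map_div₀, hβinv, div_mul_div_cancel₀ (ha0 p)]
    -- spread out
    have hW := isOpen_unitAt ha (fm π hπ b)
    have hcl : IsClosed (π '' {x : X | UnitAt x (fm π hπ b / a x)}ᶜ) :=
      π.isClosedMap _ hW.isClosed_compl
    refine ⟨b, hb0, fun x hx => ?_⟩
    by_contra hcon
    have h1 : π x ∈ π '' {x : X | UnitAt x (fm π hπ b / a x)}ᶜ := ⟨x, hcon, rfl⟩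
    have h2 : π x₀ ⤳ π p := hspec.map π.continuous
    rw [hx] at h1
    obtain ⟨z, hz, hz'⟩ := h2.mem_closed hcl h1
    exact hz (hgood z hz')
  choose b hb0 hb using local_ex
  obtain ⟨M, hM, hMb⟩ := exists_of_loc b hb0 (by
    intro y
    have hW := isOpen_unitAt ha (fm π hπ (b y))
    have hcl : IsClosed (π '' {x : X | UnitAt x (fm π hπ (b y) / a x)}ᶜ) :=
      π.isClosedMap _ hW.isClosed_compl
    refine ⟨⟨_, hcl.isOpen_compl⟩, ?_, fun y' hy' => ?_⟩
    · rintro ⟨x, hx, hx'⟩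
      exact hx (hb y x hx')
    · obtain ⟨x, rfl⟩ := π.surjective y'
      apply unitAt_of_fm π hπ
      have h1 : UnitAt x (fm π hπ (b y) / a x) := by
        by_contra hcon
        exact hy' ⟨x, hcon, rfl⟩
      refine unitAt_congr (unitAt_div h1 (hb (π x) x rfl)) ?_
      rw [map_div₀, div_div_div_cancel_right₀ (ha0 x)])
  refine ⟨M, hM, ?_⟩
  refine hasCoc_iso (hasCoc_pullback π hπ hMb) ha 1 one_ne_zero fun x => ?_
  rw [one_mul]
  exact hb (π x) x rfl

end K515.Desc
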