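import Groth.Agent.Lefpen.H521.CartierCoc
import Groth.Agent.Lefpen.H718.CocIso
import Groth.Agent.Fdesc.LocGenPullback
import Groth.Agent.Grpsch.GrowthFF
import Mathlib.RingTheory.Flat.FaithfullyFlat.Algebra
import Mathlib.AlgebraicGeometry.Morphisms.Flat

/-!
# Function fields: pullback along morphisms compatible with generic points

* `fm f hη : K(Y) →+* K(X)` for `f : X ⟶ Y` mapping the generic point to the generic point;
* `unitAt_iff`: `UnitAt` in terms of the local rings `O X x` in the function field;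
* `hasCoc_pullback`: Cartier cocycles of pullbacks.
-/

set_option autoImplicit false
universe u

open AlgebraicGeometry CategoryTheory CategoryTheory.Limits TopologicalSpace Opposite
open Groth.Agent.Dix.Center Groth.Agent.Grpsch.GrowthFF Groth.Agent.Fdesc.LocGen
  Groth.Agent.Lefpen.H725.CocDef Groth.Agent.Lefpen.H521.CartierCoc

namespace K515.FF

variable {X Y Z : Scheme.{u}} [AlgebraicGeometry.IsIntegral X] [AlgebraicGeometry.IsIntegral Y]
  [AlgebraicGeometry.IsIntegral Z]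

/-! ### Units -/

theorem regAt_iff {x : X} {φ : X.functionField} : RegAt x φ ↔ φ ∈ O X x := by
  constructor
  · rintro ⟨U, hx, hη, g, rfl⟩
    exact germ_mem_O hx hη g
  · rintro ⟨a, rfl⟩
    obtain ⟨V, hxV, s, rfl⟩ := X.presheaf.exists_germ_eq a
    exact ⟨V, hxV, genericPoint_mem hxV, s, (toK_germ hxV s _).symm⟩

theorem unitAt_iff {x : X} {φ : X.functionField} :
    UnitAt x φ ↔ φ ≠ 0 ∧ φ ∈ O X x ∧ φ⁻¹ ∈ O X x := by
  constructor
  · intro h
    exact ⟨unitAt_ne_zero h, regAt_iff.mp (unitAt_regAt h),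
      regAt_iff.mp (unitAt_regAt (unitAt_inv h))⟩
  · rintro ⟨h0, h1, h2⟩
    obtain ⟨U, hx, hη, g, hg⟩ := regAt_iff.mpr h1
    obtain ⟨V, hx', hη', g', hg'⟩ := regAt_iff.mpr h2
    refine ⟨U ⊓ V, ⟨hx, hx'⟩, ⟨hη, hη'⟩, ores inf_le_left g, ?_, by rw [ff_ores, hg]⟩
    refine IsUnit.of_mul_eq_one (ores inf_le_right g') (ff_injective (U ⊓ V) ⟨hη, hη'⟩ ?_)
    rw [map_mul, ff_ores, ff_ores, hg, hg', map_one, mul_inv_cancel₀ h0]

theorem unitAt_one (x : X) : UnitAt x (1 : X.functionField) :=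
  ⟨⊤, trivial, trivial, 1, isUnit_one, map_one _⟩

theorem unitAt_nhds {x : X} {φ : X.functionField} (h : UnitAt x φ) :
    ∃ U : X.Opens, x ∈ U ∧ ∀ y ∈ U, UnitAt y φ := by
  obtain ⟨U, hx, hη, g, hg, rfl⟩ := h
  exact ⟨U, hx, fun y hy => ⟨U, hy, hη, g, hg, rfl⟩⟩

theorem unitAt_congr {x : X} {φ ψ : X.functionField} (h : UnitAt x φ) (e : φ = ψ) : UnitAt x ψ :=
  e ▸ h

theorem unitAt_pow {x : X} {φ : X.functionField} (h : UnitAt x φ) (n : ℕ) : UnitAt x (φ ^ n) := by
  induction n with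
  | zero => rw [pow_zero]; exact unitAt_one x
  | succ n ih => rw [pow_succ]; exact unitAt_mul ih h

/-! ### Pullback of rational functions -/

section fm

variable (f : X ⟶ Y) (hη : f (genericPoint X) = genericPoint Y)

/-- Pullback of rational functions. -/
noncomputable def fm : Y.functionField →+* X.functionField :=
  toKY f (genericPoint Y) (specializes_of_eq hη)

lemma fm_toK (p : X) (a : Y.presheaf.stalk (f p)) :
    fm f hη (toK Y (f p) a) = toK X p (f.stalkMap p a) := by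
  rw [toK_stalkMap f p ((genericPoint_specializes X p).map f.continuous)]
  have := Y.presheaf.stalkSpecializes_comp (specializes_of_eq hη) (genericPoint_specializes Y (f p))
  exact congrArg (f.stalkMap (genericPoint X)) (DFunLike.congr_fun (congrArg CommRingCat.Hom.hom this) a)

lemma fm_germ (U : Y.Opens) (hU : genericPoint Y ∈ U) (hU' : genericPoint X ∈ f ⁻¹ᵁ U) (s : Γ(Y, U)) :
    fm f hη (ff U hU s) = ff (f ⁻¹ᵁ U) hU' (f.app U s) := by
  have hfη : f (genericPoint X) ∈ U := hU'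
  have h1 : Y.presheaf.stalkSpecializes (specializes_of_eq hη) (Y.presheaf.germ U (genericPoint Y) hU s) =
      Y.presheaf.germ U (f (genericPoint X)) hfη s :=
    TopCat.Presheaf.germ_stalkSpecializes_apply Y.presheaf hU (specializes_of_eq hη) s
  have h2 : fm f hη (Y.presheaf.germ U (genericPoint Y) hU s) =
      f.stalkMap (genericPoint X) (Y.presheaf.stalkSpecializes (specializes_of_eq hη)
        (Y.presheaf.germ U (genericPoint Y) hU s)) := rfl
  change fm f hη (Y.presheaf.germ U (genericPoint Y) hU s) = _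
  rw [h2, h1]
  exact f.germ_stalkMap_apply U (genericPoint X) hfη s

lemma fm_mem_O {p : X} {φ : Y.functionField} (h : φ ∈ O Y (f p)) : fm f hη φ ∈ O X p := by
  obtain ⟨a, rfl⟩ := h
  rw [fm_toK]
  exact toK_mem_O _

lemma fm_unitAt {p : X} {φ : Y.functionField} (h : UnitAt (f p) φ) : UnitAt p (fm f hη φ) := by
  rw [unitAt_iff] at h ⊢
  exact ⟨(map_ne_zero _).mpr h.1, fm_mem_O f hη h.2.1, by
    rw [← map_inv₀]; exact fm_mem_O f hη h.2.2⟩

lemma fm_congr {g : X ⟶ Y} (h : f = g) (hη' : g (genericPoint X) = genericPoint Y)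
    (φ : Y.functionField) : fm f hη φ = fm g hη' φ := by
  subst h; rfl

lemma exists_germ (φ : X.functionField) : ∃ (U : X.Opens) (hU : genericPoint X ∈ U)
    (s : Γ(X, U)), ff U hU s = φ := by
  obtain ⟨U, hU, s, hs⟩ := X.presheaf.exists_germ_eq φ
  exact ⟨U, hU, s, hs⟩

lemma fm_id (h : (𝟙 X : X ⟶ X) (genericPoint X) = genericPoint X) (φ : X.functionField) :
    fm (𝟙 X) h φ = φ := by
  obtain ⟨U, hU, s, rfl⟩ := exists_germ φ
  rw [fm_germ (𝟙 X) h U hU hU s, Scheme.Hom.id_app]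
  rfl

lemma fm_comp (g : Y ⟶ Z) (hg : g (genericPoint Y) = genericPoint Z)
    (hfg : (f ≫ g) (genericPoint X) = genericPoint Z) (φ : Z.functionField) :
    fm (f ≫ g) hfg φ = fm f hη (fm g hg φ) := by
  obtain ⟨U, hU, s, rfl⟩ := exists_germ φ
  have h1 : genericPoint Y ∈ g ⁻¹ᵁ U := by
    change g (genericPoint Y) ∈ U
    rw [hg]; exact hU
  have h2 : genericPoint X ∈ f ⁻¹ᵁ (g ⁻¹ᵁ U) := by
    change f (genericPoint X) ∈ g ⁻¹ᵁ U
    rw [hη]; exact h1
  rw [fm_germ (f ≫ g) hfg U hU h2, fm_germ g hg U hU h1, fm_germ f hη (g ⁻¹ᵁ U) h1 h2,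
    Scheme.Hom.comp_app]
  rfl

/-- Faithfully flat descent of regularity at a point. -/
lemma mem_O_of_fm_mem [Flat f] {p : X} {φ : Y.functionField} (h : fm f hη φ ∈ O X p) :
    φ ∈ O Y (f p) := by
  obtain ⟨a, b, hb, rfl⟩ := toK_frac Y (f p) φ
  obtain ⟨c, hc⟩ := h
  have hbK : toK Y (f p) b ≠ 0 := by
    intro h0
    exact hb (toK_injective Y (f p) (h0.trans (map_zero _).symm))
  have h1 : f.stalkMap p a = c * f.stalkMap p b := by
    apply toK_injective X p
    rw [map_mul, hc, map_div₀, fm_toK, fm_toK, div_mul_cancel₀]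
    rw [← fm_toK f hη]
    exact (map_ne_zero _).mpr hbK
  let _ : Algebra (Y.presheaf.stalk (f p)) (X.presheaf.stalk p) := (f.stalkMap p).hom.toAlgebra
  have hflat : Module.Flat (Y.presheaf.stalk (f p)) (X.presheaf.stalk p) := Flat.stalkMap f p
  have hloc : IsLocalHom (algebraMap (Y.presheaf.stalk (f p)) (X.presheaf.stalk p)) :=
    inferInstanceAs (IsLocalHom (f.stalkMap p).hom)
  have hff : Module.FaithfullyFlat (Y.presheaf.stalk (f p)) (X.presheaf.stalk p) :=
    Module.FaithfullyFlat.of_flat_of_isLocalHom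
  have h2 : a ∈ ((Ideal.span {b}).map (algebraMap (Y.presheaf.stalk (f p)) (X.presheaf.stalk p))).comap
      (algebraMap (Y.presheaf.stalk (f p)) (X.presheaf.stalk p)) := by
    rw [Ideal.mem_comap, Ideal.map_span, Set.image_singleton, Ideal.mem_span_singleton]
    exact ⟨c, h1.trans (mul_comm _ _)⟩
  rw [Ideal.comap_map_eq_self_of_faithfullyFlat, Ideal.mem_span_singleton] at h2
  obtain ⟨d, rfl⟩ := h2
  rw [map_mul, mul_div_cancel_left₀ _ hbK]
  exact toK_mem_O d

lemma unitAt_of_fm [Flat f] {p : X} {φ : Y.functionField} (h : UnitAt p (fm f hη φ)) :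
    UnitAt (f p) φ := by
  rw [unitAt_iff] at h ⊢
  refine ⟨fun h0 => h.1 (by rw [h0, map_zero]), mem_O_of_fm_mem f hη h.2.1,
    mem_O_of_fm_mem f hη ?_⟩
  rw [map_inv₀]
  exact h.2.2

/-- The Cartier cocycle of a pullback. -/
theorem hasCoc_pullback {M : Y.Modules} {b : Y → Y.functionField} (h : HasCoc M b) :
    HasCoc ((Scheme.Modules.pullback f).obj M) (fun x => fm f hη (b (f x))) := by
  obtain ⟨h0, U, hxU, e, he, h⟩ := h
  refine ⟨fun x => (map_ne_zero _).mpr (h0 _), fun x => f ⁻¹ᵁ (U (f x)), fun x => hxU (f x),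
    fun x => pullSec f (e (f x)), fun x => (he (f x)).pullSec f, fun x y => ?_⟩
  obtain ⟨g, hg, hres, hb⟩ := h (f x) (f y)
  have hη' : genericPoint X ∈ f ⁻¹ᵁ (U (f x) ⊓ U (f y)) := by
    change f (genericPoint X) ∈ U (f x) ⊓ U (f y)
    rw [hη]; exact hg
  refine ⟨f.app _ g, hη', ?_, ?_⟩
  · have h1 := congrArg (pullSec f) hres
    rw [pullSec_smul, ← res_pullSec, ← res_pullSec] at h1
    exact h1
  · beta_reduce
    rw [hb, map_mul, fm_germ f hη _ hg hη']
    rfl

end fm

/-- An isomorphism of the modules of two cocycles. -/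
theorem exists_const_of_nonempty_iso {L M : X.Modules} {a b : X → X.functionField}
    (h : HasCoc L a) (h' : HasCoc M b) (φ : Nonempty (L ≅ M)) :
    ∃ c : X.functionField, c ≠ 0 ∧ ∀ x, UnitAt x (c * a x / b x) := by
  obtain ⟨φ⟩ := φ
  exact Groth.Agent.Lefpen.H718.CocIso.exists_const_of_iso h h' φ

end K515.FF
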