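import Groth.Agent.AbVar.K515.Isotrop
import Groth.Agent.AbVar.K817.FiniteAV
import Groth.Agent.AbVar.K511.AmpleVan
import Groth.Agent.AbVar.K512.AV
import Groth.Agent.S7858
import Groth.Agent.S7859
import Groth.Agent.S7813

/-!
# Finiteness of abelian varieties of bounded degree over a finite field
-/

set_option autoImplicit false
universe u

open CategoryTheory CategoryTheory.Limits MonoidalCategory CartesianMonoidalCategory
  AlgebraicGeometry MonObj

namespace K515.FinAVk

theorem stmt14124 : K817.FiniteAV.Stmt14124.{u} := by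
  intro k _ _ A _ _ _ _ L hL
  have hgi : GeometricallyIntegral A.hom := K512.AV.geometricallyIntegral A
  refine ⟨fun j hj => K511.AmpleVan.vanish A L hL j hj, ?_⟩
  obtain ⟨n, hn1, -, hv, h0⟩ := K511.AmpleVan.exists_good A L hL
  obtain ⟨g, hg⟩ := Groth.Agent.Sga7.H742.P1Dim.exists_dim A
  obtain ⟨h1, h2, h3⟩ := Groth.Agent.S1842.pos_case k A g hg n hn1
  exact K511.AmpleVan.nontrivial_of_euler A L hL n (n ^ (2 * g)) hv h0
    (Groth.Agent.S7859.result k A A (𝟙 A ^ n) (n ^ (2 * g)) h3 L
      (K511.AmpleVan.isCoh_of_isInvertible A hL.1))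

/-- (FIN) over a finite field. -/
theorem finAV (k : Type u) [Field k] [Finite k] (g : ℕ) (c : ℤ) : K515.Isotrop.FinAV k g c :=
  K817.FiniteAV.finite_av_of Groth.Agent.S7858.result.{u} Groth.Agent.S7813.result.{u}
    stmt14124.{u} k g c

end K515.FinAVk
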