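import Groth.Agent.AbVar.K515.GeoMul
import Mathlib.FieldTheory.Galois.Basic

/-!
# Fixed fields of kernels of isogenies dividing `n`
-/

set_option autoImplicit false
universe u

open CategoryTheory Limits MonoidalCategory CartesianMonoidalCategory AlgebraicGeometry
open scoped MonObj
open Groth.Agent.Dix.Center Groth.Agent.Grpsch.GrowthFF Groth.Agent.Grpsch.GrowthPull
open Groth.Agent.Grpsch.GrowthMain
open Groth.Agent.Sga7.H761.FunSig Groth.Agent.Sga7.H761.PairCore Groth.Agent.Sga7.H761.TransSig
open Groth.Agent.Sga7.H761.WeilGeom Groth.Agent.Sga7.H761.WeilMain Groth.Agent.Sga7.H761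

namespace K515.FixInt

open K515.FF

/-- If a finite group `H` of automorphisms of `F` over `σ(F)` has order at least `[F : σ(F)]`, then
an intermediate field `κ(E) ⊇ σ(F)` is the fixed field of the subgroup fixing it. -/
theorem exists_preimage {F E H : Type*} [Field F] [Field E] [Finite H] (σ : F →+* F)
    (ρ : H → (F ≃+* F)) (hρ : Function.Injective ρ) (hρσ : ∀ h φ, ρ h (σ φ) = σ φ)
    (hfin : 0 < Module.finrank σ.fieldRange F)
    (hcard : Module.finrank σ.fieldRange F ≤ Nat.card H) (κ : E →+* F)
    (hκ : ∀ x, ∃ y, κ y = σ x) (φ : F)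
    (hφ : ∀ h, (∀ x, ρ h (κ x) = κ x) → ρ h φ = φ) : ∃ ψ, κ ψ = φ := by
  have hfd : FiniteDimensional σ.fieldRange F := Module.finite_of_finrank_pos hfin
  let r : H → (F ≃ₐ[σ.fieldRange] F) := fun h =>
    AlgEquiv.ofRingEquiv (f := ρ h) (by
      rintro ⟨_, x, rfl⟩
      exact hρσ h x)
  have hr : Function.Injective r := by
    intro a b hab
    apply hρ
    ext x
    exact DFunLike.congr_fun hab x
  have h1 : Nat.card (F ≃ₐ[σ.fieldRange] F) ≤ Module.finrank σ.fieldRange F := by
    rw [Nat.card_eq_fintype_card]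
    exact AlgEquiv.card_le
  have h2 : Nat.card H ≤ Nat.card (F ≃ₐ[σ.fieldRange] F) := Nat.card_le_card_of_injective r hr
  have h3 : Function.Bijective r := (Function.Injective.bijective_of_nat_card_le hr (h1.trans hcard))
  have h4 : IsGalois σ.fieldRange F := by
    apply IsGalois.of_card_aut_eq_finrank
    exact le_antisymm h1 (hcard.trans h2)
  let M : IntermediateField σ.fieldRange F :=
    { κ.fieldRange with
      algebraMap_mem' := by
        rintro ⟨_, x, rfl⟩
        exact hκ x }
  have h5 : φ ∈ M := by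
    rw [← IsGalois.fixedField_fixingSubgroup M]
    rw [IntermediateField.mem_fixedField_iff]
    intro g hg
    obtain ⟨h, rfl⟩ := h3.2 g
    refine hφ h fun x => ?_
    rw [IntermediateField.mem_fixingSubgroup_iff] at hg
    exact hg (κ x) ⟨x, rfl⟩
  exact h5

variable {K : Type u} [Field K] {A : Over (Spec (CommRingCat.of K))} [GrpObj A] [IsProper A.hom]
  [GeometricallyIntegral A.hom] [AlgebraicGeometry.IsIntegral A.left] [IsCommMonObj A]
  {B : Over (Spec (CommRingCat.of K))} [GrpObj B] [IsProper B.hom]
  [GeometricallyIntegral B.hom] [AlgebraicGeometry.IsIntegral B.left] [IsCommMonObj B]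

attribute [local instance] overA kAlg

theorem point_eq_of_generic {X S T : Scheme.{u}} [AlgebraicGeometry.IsIntegral X]
    [AlgebraicGeometry.IsIntegral T] (s : T ⟶ S) [IsSeparated s] (f g : X ⟶ T)
    (hs : f ≫ s = g ≫ s)
    (hf : f (genericPoint X) = genericPoint T) (hg : g (genericPoint X) = genericPoint T)
    (h : ∀ φ, fm f hf φ = fm g hg φ) : f = g := by
  have h1 : X.fromSpecStalk (genericPoint X) ≫ f = X.fromSpecStalk (genericPoint X) ≫ g := by
    rw [← SpecMap_toKY f (genericPoint T) (specializes_of_eq hf),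
      ← SpecMap_toKY g (genericPoint T) (specializes_of_eq hg)]
    congr 2
    ext φ
    exact h φ
  have hdom : IsDominant (X.fromSpecStalk (genericPoint X)) := by
    constructor
    rw [DenseRange, Scheme.range_fromSpecStalk]
    have h3 : genericPoint X ∈ {y | y ⤳ genericPoint X} := specializes_rfl
    rw [dense_iff_closure_eq, Set.eq_univ_iff_forall]
    intro x
    exact (closure_mono (Set.singleton_subset_iff.mpr h3))
      (((genericPoint_spec X).symm ▸ trivial : x ∈ closure {genericPoint X}))
  exact ext_of_isDominant_of_isSeparated s hs (X.fromSpecStalk (genericPoint X)) h1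

/-- The fixed field of the kernel of a homomorphism dividing `[n]`. -/
theorem exists_preimage_hom (g : ℕ) (hg : topologicalKrullDim A.left = g) (n : ℕ)
    (hn : 1 ≤ n) (hcard : Nat.card {w : Pt A // w ^ n = 1} = n ^ (2 * g))
    (q : A ⟶ B) [IsMonHom q] [Surjective q.left]
    (hη : q.left (genericPoint A.left) = genericPoint B.left)
    (v : B ⟶ A) (hqv : q ≫ v = 𝟙 A ^ n)
    (φ : A.left.functionField) (hφ : ∀ y : Pt A, y ≫ q = 1 → τM y φ = φ) :
    ∃ ψ, fm q.left hη ψ = φ := by
  obtain ⟨M, hM, hs⟩ := Groth.Agent.Grpsch.MulFin.exists_symm_ample A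
  have e := Groth.Agent.Grpsch.MulFin.nonempty_iso_of_symm A M hM.1 hs n
  have hfin := Groth.Agent.Grpsch.MulFin.isFinite_pow A n hn
  have hsur := Groth.Agent.Grpsch.MulFin.surjective_pow A n hn
  have h1 := finrank_stalkMap_eq K A.left A.hom g hg M hM (𝟙 A ^ n).left (Over.w _) n hn e
  have hpos : 0 < n ^ (2 * g) := Nat.pow_pos hn
  have : Finite {w : Pt A // w ^ n = 1} := Nat.finite_of_card_ne_zero (by rw [hcard]; omega)
  have hη' := pow_generic A n hn
  have hrange : ∀ x : A.left.functionField,
      x ∈ ((𝟙 A ^ n).left.stalkMap (genericPoint A.left)).hom.range ↔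
        x ∈ (sig (𝟙 A ^ n).left hη').range := by
    intro x
    let i := (A.left.presheaf.stalkCongr (.of_eq hη'.symm)).commRingCatIsoToRingEquiv
    constructor
    · rintro ⟨y, rfl⟩
      refine ⟨i.symm y, ?_⟩
      have h2 : sig (𝟙 A ^ n).left hη' (i.symm y) =
        (𝟙 A ^ n).left.stalkMap (genericPoint A.left) (i (i.symm y)) := rfl
      rw [h2, i.apply_symm_apply]
    · rintro ⟨y, rfl⟩
      exact ⟨i y, rfl⟩
  have hinj : Function.Injective ((𝟙 A ^ n).left.stalkMap (genericPoint A.left)).hom := by
    have h2 : Function.Injective (sig (𝟙 A ^ n).left hη') := RingHom.injective _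
    let i := (A.left.presheaf.stalkCongr (.of_eq hη'.symm)).commRingCatIsoToRingEquiv
    have h3 : ∀ y, ((𝟙 A ^ n).left.stalkMap (genericPoint A.left)).hom y =
        sig (𝟙 A ^ n).left hη' (i.symm y) := by
      intro y
      have h2 : sig (𝟙 A ^ n).left hη' (i.symm y) =
        (𝟙 A ^ n).left.stalkMap (genericPoint A.left) (i (i.symm y)) := rfl
      rw [h2, i.apply_symm_apply]
    intro a b hab
    rw [h3, h3] at hab
    exact i.symm.injective (h2 hab)
  have h2 := FixField.finrank_fieldRange _ hinj (sig (𝟙 A ^ n).left hη') hrange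
  have h3 : Module.finrank (sig (𝟙 A ^ n).left hη').fieldRange A.left.functionField = n ^ (2 * g) :=
    h2.symm.trans h1
  -- `v` maps the generic point to the generic point
  have hvη : v.left (genericPoint B.left) = genericPoint A.left := by
    rw [← hη, ← Scheme.Hom.comp_apply, ← Over.comp_left, hqv, hη']
  refine exists_preimage (sig (𝟙 A ^ n).left hη')
    (fun y : {w : Pt A // w ^ n = 1} => (τM y.1 : A.left.functionField ≃ₐ[K] _).toRingEquiv) ?_ ?_
    (by rw [h3]; exact hpos) (by rw [h3, hcard]) (fm q.left hη) ?_ φ ?_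
  · intro a b hab
    have h4 : (τM a.1 : A.left.functionField ≃ₐ[K] _) = τM b.1 := by
      ext x
      exact DFunLike.congr_fun hab x
    have h5 : a.1 * b.1⁻¹ = 1 := by
      apply τM_injective
      intro φ
      rw [map_mul, map_inv, h4, mul_inv_cancel]
      rfl
    exact Subtype.ext (mul_inv_eq_one.mp h5)
  · intro y φ
    exact τ_σn A n hn y.1 y.2 φ
  · intro x
    refine ⟨fm v.left hvη x, ?_⟩
    have h6 : (q.left ≫ v.left) (genericPoint A.left) = genericPoint A.left := by
      rw [Scheme.Hom.comp_apply, hη, hvη]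
    rw [← fm_comp _ _ _ _ h6]
    have h7 : q.left ≫ v.left = (𝟙 A ^ n).left := by rw [← Over.comp_left, hqv]
    exact fm_congr _ h6 h7 hη' x
  · intro y hy
    apply hφ
    -- `t y ≫ q = q`
    have h6 : ((t y.1).left ≫ q.left) (genericPoint A.left) = genericPoint B.left := by
      rw [Scheme.Hom.comp_apply, t_generic, hη]
    have h7 : (t y.1).left ≫ q.left = q.left := by
      refine point_eq_of_generic B.hom _ _ ?_ h6 hη fun ψ => ?_
      · rw [Category.assoc, Over.w q, Over.w (t y.1)]
      · rw [fm_comp _ (t_generic y.1) _ hη]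
        exact hy ψ
    have h8 : t y.1 ≫ q = q := by
      ext1
      exact h7
    have h9 := congrArg (fun f => (1 : Pt A) ≫ f) h8
    beta_reduce at h9
    rw [← Category.assoc, pt_comp_t, one_mul, MonObj.one_comp] at h9
    exact h9

end K515.FixInt
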