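import Mathlib.NumberTheory.Padics.RingHoms
import Mathlib.GroupTheory.OrderOfElement
import Mathlib.LinearAlgebra.BilinearMap

/-!
# `l`-adic bilinear forms from compatible pairings with values in roots of unity
-/

set_option autoImplicit false

namespace K515.FormLim

variable {l : ℕ} [hl : Fact l.Prime]

theorem toZModPow_appr (n : ℕ) (a : ℤ_[l]) : PadicInt.toZModPow n a = (a.appr n : ZMod (l ^ n)) := rfl

/-- Additive maps into `ℤ_l` are linear. -/
theorem map_smul_of_add {T : Type*} [AddCommGroup T] [Module ℤ_[l] T] (f : T →+ ℤ_[l]) (a : ℤ_[l])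
    (x : T) : f (a • x) = a * f x := by
  apply PadicInt.ext_of_toZModPow.mp
  intro n
  obtain ⟨b, hb⟩ := Ideal.mem_span_singleton'.mp (PadicInt.appr_spec n a)
  have h1 : a = (a.appr n : ℤ_[l]) + (l : ℤ_[l]) ^ n * b := by
    rw [mul_comm, hb]; ring
  have h2 : a • x = (a.appr n) • x + (l ^ n) • (b • x) := by
    conv_lhs => rw [h1]
    rw [add_smul, mul_smul, Nat.cast_smul_eq_nsmul, ← Nat.cast_pow, Nat.cast_smul_eq_nsmul]
  have h3 : ((l ^ n : ℕ) : ZMod (l ^ n)) = 0 := ZMod.natCast_self _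
  rw [h2, map_add, map_nsmul, map_nsmul, map_add, nsmul_eq_mul, nsmul_eq_mul, map_mul, map_mul,
    map_natCast, map_natCast, h3, zero_mul, add_zero, map_mul, toZModPow_appr n a]

variable {G : Type*} [CommGroup G] {ζ : ℕ → G}

theorem pow_appr_inj (hζ : ∀ n, orderOf (ζ n) = l ^ n) {z z' : ℤ_[l]}
    (h : ∀ n, ζ n ^ z.appr n = ζ n ^ z'.appr n) : z = z' := by
  apply PadicInt.ext_of_toZModPow.mp
  intro n
  rw [toZModPow_appr, toZModPow_appr, ZMod.natCast_eq_natCast_iff, ← hζ n]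
  exact pow_eq_pow_iff_modEq.mp (h n)

theorem pow_appr_add (hζ : ∀ n, orderOf (ζ n) = l ^ n) (z z' : ℤ_[l]) (n : ℕ) :
    ζ n ^ (z + z').appr n = ζ n ^ z.appr n * ζ n ^ z'.appr n := by
  rw [← pow_add, pow_eq_pow_iff_modEq, hζ n, ← ZMod.natCast_eq_natCast_iff, Nat.cast_add,
    ← toZModPow_appr, ← toZModPow_appr, ← toZModPow_appr, map_add]

theorem exists_lim (hζ : ∀ n, orderOf (ζ n) = l ^ n) (hζ' : ∀ n, ζ (n + 1) ^ l = ζ n) (e : ℕ → G)
    (he : ∀ n, e n ∈ Subgroup.zpowers (ζ n)) (he' : ∀ n, e (n + 1) ^ l = e n) :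
    ∃ z : ℤ_[l], ∀ n, e n = ζ n ^ z.appr n := by
  choose f hf using fun n => Subgroup.mem_zpowers_iff.mp (he n)
  have hi : ∀ i, (l : ℤ) ^ i ∣ f (i + 1) - f i := by
    intro i
    have h1 : ζ i ^ f (i + 1) = ζ i ^ f i := by
      rw [hf i, ← he' i, ← hf (i + 1), ← hζ' i]
      rw [← zpow_natCast, ← zpow_natCast, ← zpow_mul, ← zpow_mul, mul_comm]
    have h2 := (zpow_eq_zpow_iff_modEq.mp h1)
    rw [hζ i] at h2
    have h3 := h2.symm.dvd
    push_cast at h3
    exact h3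
  refine ⟨PadicInt.ofIntSeq _ (PadicInt.isCauSeq_padicNorm_of_pow_dvd_sub f l hi), fun n => ?_⟩
  have h1 := PadicInt.toZModPow_ofIntSeq_of_pow_dvd_sub f l hi n
  rw [toZModPow_appr, ← Int.cast_natCast, ZMod.intCast_eq_intCast_iff] at h1
  rw [← hf n, ← zpow_natCast]
  apply zpow_eq_zpow_iff_modEq.mpr
  rw [hζ n]
  exact h1.symm

variable {T T' : Type*} [AddCommGroup T] [Module ℤ_[l] T] [AddCommGroup T'] [Module ℤ_[l] T']

/-- The `l`-adic form of a compatible system of pairings. -/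
theorem exists_form (hζ : ∀ n, orderOf (ζ n) = l ^ n) (hζ' : ∀ n, ζ (n + 1) ^ l = ζ n)
    (E : ℕ → T → T' → G) (hE : ∀ n x y, E n x y ∈ Subgroup.zpowers (ζ n))
    (hE' : ∀ n x y, E (n + 1) x y ^ l = E n x y)
    (hadd : ∀ n x x' y, E n (x + x') y = E n x y * E n x' y)
    (hadd' : ∀ n x y y', E n x (y + y') = E n x y * E n x y') :
    ∃ B : T →ₗ[ℤ_[l]] T' →ₗ[ℤ_[l]] ℤ_[l], ∀ n x y, E n x y = ζ n ^ (B x y).appr n := by
  choose b hb using fun x y => exists_lim hζ hζ' (fun n => E n x y) (fun n => hE n x y)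
    (fun n => hE' n x y)
  have h1 : ∀ x x' y, b (x + x') y = b x y + b x' y := fun x x' y => pow_appr_inj hζ fun n => by
    rw [← hb, hadd, pow_appr_add hζ, ← hb, ← hb]
  have h2 : ∀ x y y', b x (y + y') = b x y + b x y' := fun x y y' => pow_appr_inj hζ fun n => by
    rw [← hb, hadd', pow_appr_add hζ, ← hb, ← hb]
  refine ⟨LinearMap.mk₂ ℤ_[l] b h1 (fun a x y => ?_) h2 (fun a x y => ?_), fun n x y => hb x y n⟩
  · exact map_smul_of_add (AddMonoidHom.mk' (fun x => b x y) (fun x x' => h1 x x' y)) a x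
  · exact map_smul_of_add (AddMonoidHom.mk' (fun y => b x y) (fun y y' => h2 x y y')) a y

end K515.FormLim
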