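import Groth.Agent.AbVar.K515.Lattice
import Mathlib.LinearAlgebra.BilinearForm.TensorProduct
import Mathlib.LinearAlgebra.BilinearForm.Orthogonal

/-!
# Rational alternating forms on Tate modules and orthogonal complements
-/

set_option autoImplicit false

open scoped TensorProduct nonZeroDivisors
open Module LinearMap

noncomputable section

namespace K515.FormQ

open K515.Lattice

variable {l : ℕ} [hl : Fact l.Prime] {T : Type*} [AddCommGroup T] [Module ℤ_[l] T]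

/-- Every element of `ℚ_l ⊗ T` is a scalar multiple of `1 ⊗ t`. -/
theorem exists_eq (v : ℚ_[l] ⊗[ℤ_[l]] T) :
    ∃ (a : ℚ_[l]) (t : T), a ≠ 0 ∧ v = a • ((1 : ℚ_[l]) ⊗ₜ[ℤ_[l]] t) := by
  obtain ⟨⟨t, s⟩, h⟩ := IsLocalizedModule.surj (ℤ_[l])⁰ (TensorProduct.mk ℤ_[l] ℚ_[l] T 1) v
  have hs : algebraMap ℤ_[l] ℚ_[l] (s : ℤ_[l]) ≠ 0 := by
    rw [Ne, FaithfulSMul.algebraMap_eq_zero_iff]
    exact nonZeroDivisors.ne_zero s.2
  refine ⟨(algebraMap ℤ_[l] ℚ_[l] (s : ℤ_[l]))⁻¹, t, inv_ne_zero hs, ?_⟩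
  change (s : ℤ_[l]) • v = (1 : ℚ_[l]) ⊗ₜ[ℤ_[l]] t at h
  rw [← h, ← algebraMap_smul ℚ_[l] (s : ℤ_[l]) v, smul_smul, inv_mul_cancel₀ hs, one_smul]

variable (B : T →ₗ[ℤ_[l]] T →ₗ[ℤ_[l]] ℤ_[l])

/-- The rational form. -/
def BQ : (ℚ_[l] ⊗[ℤ_[l]] T) →ₗ[ℚ_[l]] (ℚ_[l] ⊗[ℤ_[l]] T) →ₗ[ℚ_[l]] ℚ_[l] :=
  LinearMap.BilinForm.baseChange ℚ_[l] B

theorem BQ_tmul (x y : T) : BQ B ((1 : ℚ_[l]) ⊗ₜ[ℤ_[l]] x) ((1 : ℚ_[l]) ⊗ₜ[ℤ_[l]] y) =
    algebraMap ℤ_[l] ℚ_[l] (B x y) := by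
  rw [BQ, LinearMap.BilinForm.baseChange_tmul, mul_one, Algebra.algebraMap_eq_smul_one]

variable {B} (hB : ∀ x, B x x = 0)

include hB in
theorem BQ_self (v : ℚ_[l] ⊗[ℤ_[l]] T) : BQ B v v = 0 := by
  obtain ⟨a, t, -, rfl⟩ := exists_eq v
  rw [LinearMap.map_smul₂, map_smul, BQ_tmul, hB, map_zero, smul_zero, smul_zero]

include hB in
theorem BQ_swap (v w : ℚ_[l] ⊗[ℤ_[l]] T) : BQ B v w = - BQ B w v := by
  have h := BQ_self hB (v + w)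
  rw [map_add, map_add, LinearMap.add_apply, LinearMap.add_apply, BQ_self hB, BQ_self hB, zero_add,
    add_zero] at h
  exact eq_neg_of_add_eq_zero_right h

theorem eq_zero_of_BQ (hn : ∀ x, (∀ y, B y x = 0) → x = 0) {v : ℚ_[l] ⊗[ℤ_[l]] T}
    (h : ∀ w, BQ B w v = 0) : v = 0 := by
  obtain ⟨a, t, ha, rfl⟩ := exists_eq v
  have h1 : t = 0 := hn t fun y => by
    have h2 := h ((1 : ℚ_[l]) ⊗ₜ[ℤ_[l]] y)
    rw [map_smul, BQ_tmul, smul_eq_mul] at h2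
    have h3 := (mul_eq_zero.mp h2).resolve_left ha
    exact (FaithfulSMul.algebraMap_eq_zero_iff ℤ_[l] ℚ_[l]).mp h3
  rw [h1, TensorProduct.tmul_zero, smul_zero]

/-- The orthogonal complement. -/
def perp (B : T →ₗ[ℤ_[l]] T →ₗ[ℤ_[l]] ℤ_[l]) (W : Submodule ℚ_[l] (ℚ_[l] ⊗[ℤ_[l]] T)) :
    Submodule ℚ_[l] (ℚ_[l] ⊗[ℤ_[l]] T) := LinearMap.BilinForm.orthogonal (BQ B) W

variable {W : Submodule ℚ_[l] (ℚ_[l] ⊗[ℤ_[l]] T)}

theorem mem_perp {v : ℚ_[l] ⊗[ℤ_[l]] T} : v ∈ perp B W ↔ ∀ w ∈ W, BQ B w v = 0 := Iff.rfl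

theorem mem_lat_perp {y : T} : y ∈ lat (perp B W) ↔ ∀ x ∈ lat W, B x y = 0 := by
  rw [mem_lat, mem_perp]
  constructor
  · intro h x hx
    have h1 : BQ B ((1 : ℚ_[l]) ⊗ₜ[ℤ_[l]] x) ((1 : ℚ_[l]) ⊗ₜ[ℤ_[l]] y) = 0 := h _ hx
    rw [BQ_tmul] at h1
    exact (FaithfulSMul.algebraMap_eq_zero_iff ℤ_[l] ℚ_[l]).mp h1
  · intro h w hw
    obtain ⟨a, t, ha, rfl⟩ := exists_eq w
    have ht : t ∈ lat W := (W.smul_mem_iff ha).mp hw
    rw [LinearMap.map_smul₂, BQ_tmul, h t ht, map_zero, smul_zero]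

variable [Module.Free ℤ_[l] T] [Module.Finite ℤ_[l] T]

include hB in
theorem finrank_perp (hn : ∀ x, (∀ y, B y x = 0) → x = 0) :
    finrank ℚ_[l] W + finrank ℚ_[l] (perp B W) = finrank ℤ_[l] T := by
  have h1 : (BQ B).Nondegenerate := by
    constructor
    · intro v hv
      exact eq_zero_of_BQ hn fun w => by rw [BQ_swap hB, hv w, neg_zero]
    · intro v hv
      exact eq_zero_of_BQ hn hv
  have h2 := LinearMap.BilinForm.finrank_orthogonal (B := BQ B) h1 W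
  have h3 : finrank ℚ_[l] W ≤ finrank ℚ_[l] (ℚ_[l] ⊗[ℤ_[l]] T) := Submodule.finrank_le W
  have h4 : finrank ℚ_[l] (perp B W) = finrank ℚ_[l] (ℚ_[l] ⊗[ℤ_[l]] T) - finrank ℚ_[l] W := h2
  rw [h4, Nat.add_sub_cancel' h3, Module.finrank_baseChange]

/-- stability of the orthogonal complement under similitudes -/
theorem map_perp_le {g g' : T →ₗ[ℤ_[l]] T} (hg : ∀ x, g (g' x) = x)
    (h1 : W.map (g'.baseChange ℚ_[l]) ≤ W) (h2 : ∀ x y, B x y = 0 → B (g x) (g y) = 0) :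
    (perp B W).map (g.baseChange ℚ_[l]) ≤ perp B W := by
  rintro _ ⟨v, hv, rfl⟩
  obtain ⟨a, t, ha, rfl⟩ := exists_eq v
  have ht : t ∈ lat (perp B W) := ((perp B W).smul_mem_iff ha).mp hv
  rw [map_smul, LinearMap.baseChange_tmul]
  refine (perp B W).smul_mem a ?_
  refine mem_lat_perp.mpr fun x hx => ?_
  rw [← hg x]
  apply h2
  refine mem_lat_perp.mp ht _ ?_
  exact h1 ⟨_, hx, LinearMap.baseChange_tmul _ _ _⟩

end K515.FormQ
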