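import Mathlib.NumberTheory.Padics.ProperSpace
import Mathlib.NumberTheory.SumFourSquares
import Mathlib.Analysis.SpecificLimits.Normed
import Mathlib.LinearAlgebra.Matrix.Notation
import Mathlib.Tactic.LinearCombination

/-!
# `-1` is a sum of four squares in `ℤ_l`; a `4 × 4` matrix with `Iᵀ I = -1`
-/

set_option autoImplicit false

namespace K515.FourSq

open Matrix

variable (l : ℕ) [hl : Fact l.Prime]

theorem exists_four_squares : ∃ a b c d : ℤ_[l], a ^ 2 + b ^ 2 + c ^ 2 + d ^ 2 = -1 := by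
  let f : ℤ_[l] × ℤ_[l] × ℤ_[l] × ℤ_[l] → ℤ_[l] := fun x =>
    x.1 ^ 2 + x.2.1 ^ 2 + x.2.2.1 ^ 2 + x.2.2.2 ^ 2
  have hf : Continuous f := by fun_prop
  have hcl : IsClosed (Set.range f) := (isCompact_range hf).isClosed
  have hmem : (-1 : ℤ_[l]) ∈ Set.range f := by
    have ht : Filter.Tendsto (fun n : ℕ => ((l : ℤ_[l]) ^ n - 1)) Filter.atTop
        (nhds (-1 : ℤ_[l])) := by
      have h1 : Filter.Tendsto (fun n : ℕ => (l : ℤ_[l]) ^ n) Filter.atTop (nhds 0) := by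
        apply tendsto_pow_atTop_nhds_zero_of_norm_lt_one
        exact (PadicInt.norm_lt_one_iff_dvd _).mpr dvd_rfl
      have h2 := h1.sub_const 1
      rwa [zero_sub] at h2
    refine hcl.mem_of_tendsto ht (Filter.Eventually.of_forall fun n => ?_)
    obtain ⟨a, b, c, d, h⟩ := Nat.sum_four_squares (l ^ n - 1)
    refine ⟨(a, b, c, d), ?_⟩
    change (a : ℤ_[l]) ^ 2 + (b : ℤ_[l]) ^ 2 + (c : ℤ_[l]) ^ 2 + (d : ℤ_[l]) ^ 2 = _
    have h1 : 1 ≤ l ^ n := Nat.one_le_pow _ _ hl.out.pos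
    have h2 := congrArg (Nat.cast : ℕ → ℤ_[l]) h
    rw [Nat.cast_sub h1] at h2
    push_cast at h2
    exact h2
  obtain ⟨x, hx⟩ := hmem
  exact ⟨_, _, _, _, hx⟩

/-- The quaternion matrix. -/
theorem exists_matrix : ∃ I : Matrix (Fin 4) (Fin 4) ℤ_[l], Iᵀ * I = -1 := by
  obtain ⟨a, b, c, d, h⟩ := exists_four_squares l
  refine ⟨!![a, -b, -c, -d; b, a, -d, c; c, d, a, -b; d, -c, b, a], ?_⟩
  ext i j
  rw [Matrix.mul_apply, Fin.sum_univ_four]
  fin_cases i <;> fin_cases j <;> simp <;> first | linear_combination h | ring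

end K515.FourSq
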