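import Groth.Agent.AbVar.K515.ThetaAbs
import Groth.Agent.AbVar.K515.Coc
import Groth.Agent.Sga7.H761.WeilMain

/-!
# The commutator pairing of a line bundle on an abelian variety
-/

set_option autoImplicit false
universe u

open CategoryTheory Limits MonoidalCategory CartesianMonoidalCategory AlgebraicGeometry
open scoped MonObj
open Groth.Agent.Dix.Center Groth.Agent.Grpsch.GrowthFF Groth.Agent.Grpsch.GrowthPull
open Groth.Agent.Fdesc.LocGen Groth.Agent.Lefpen.H725.CocDef Groth.Agent.Lefpen.H521.CartierCoc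
open Groth.Agent.Grpsch.PicGrp Groth.Agent.Grpsch.Cube
open Groth.Agent.Sga7.H761.FunSig Groth.Agent.Sga7.H761.PairCore Groth.Agent.Sga7.H761.TransSig
open Groth.Agent.Sga7.H761.WeilGeom

namespace K515.Geo

open K515.ThetaAbs K515.Coc K515.FF

variable {K : Type u} [Field K] {A : Over (Spec (CommRingCat.of K))} [GrpObj A] [IsProper A.hom]
  [GeometricallyIntegral A.hom] [AlgebraicGeometry.IsIntegral A.left] [IsCommMonObj A]

attribute [local instance] overA kAlg

theorem isU_iff {p : A.left} {φ : A.left.functionField} : IsU (core A) p φ ↔ UnitAt p φ :=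
  unitAt_iff.symm

theorem τ_eq (w : Pt A) (φ : A.left.functionField) :
    (core A).τ w φ = fm (t w).left (t_generic w) φ := rfl

theorem act_eq (w : Pt A) (p : A.left) : (core A).act w p = (t w).left p := rfl

/-- A chosen Cartier cocycle of a class. -/
noncomputable def coc {X : Scheme.{u}} [AlgebraicGeometry.IsIntegral X] (L : Pic X) :
    X → X.functionField := (exists_isCoc L).choose

theorem isCoc_coc {X : Scheme.{u}} [AlgebraicGeometry.IsIntegral X] (L : Pic X) :
    IsCoc L (coc L) := (exists_isCoc L).choose_spec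

/-- The pulled back class under a translation. -/
theorem exists_lift_iff {L : Pic A.left} {a : A.left → A.left.functionField} (h : IsCoc L a)
    (w : Pt A) : (∃ f, Lift (core A) a w f) ↔ pl (t w) L = L := by
  have h1 := h.pull (t w).left (t_generic w)
  rw [eq_iff h1 h]
  constructor
  · rintro ⟨f, hf, hf'⟩
    refine ⟨f⁻¹, inv_ne_zero hf, fun x => ?_⟩
    have h2 := isU_iff.mp (hf' x)
    refine unitAt_congr (unitAt_inv h2) ?_
    have := h.ne x
    rw [τ_eq, act_eq]
    rw [mul_inv, mul_inv, inv_inv, div_eq_mul_inv]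
    ring
  · rintro ⟨c, hc, hc'⟩
    refine ⟨c⁻¹, inv_ne_zero hc, fun x => isU_iff.mpr (unitAt_congr (unitAt_inv (hc' x)) ?_)⟩
    rw [τ_eq, act_eq, inv_div, div_eq_mul_inv, mul_inv, mul_assoc]

/-- The group of points whose translations fix the class. -/
noncomputable def KL (L : Pic A.left) : Subgroup (Pt A) :=
  ThetaAbs.KL (core A) (coc L) (isCoc_coc L).ne

theorem mem_KL {L : Pic A.left} {w : Pt A} : w ∈ KL L ↔ pl (t w) L = L :=
  exists_lift_iff (isCoc_coc L) w

theorem mem_KL_coc {L : Pic A.left} {a : A.left → A.left.functionField} (h : IsCoc L a)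
    {w : Pt A} : w ∈ ThetaAbs.KL (core A) a h.ne ↔ w ∈ KL L := by
  rw [mem_KL]
  exact exists_lift_iff h w

/-- The commutator pairing of a class. -/
noncomputable def e (L : Pic A.left) (v w : Pt A) : Kˣ := ThetaAbs.e (core A) (coc L) v w

variable {L M : Pic A.left} {u v w : Pt A}

theorem e_eq {a : A.left → A.left.functionField} (h : IsCoc L a) (hv : v ∈ KL L) (hw : w ∈ KL L) :
    ThetaAbs.e (core A) a v w = e L v w := by
  obtain ⟨c, hc, hc'⟩ := (eq_iff (isCoc_coc L) h).mp rfl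
  refine e_change (isCoc_coc L).ne h.ne hc (fun b => isU_iff.mpr (unitAt_congr (hc' b) ?_)) hv hw
  rw [div_eq_mul_inv]; ring

theorem e_self (hv : v ∈ KL L) : e L v v = 1 := ThetaAbs.e_self _ hv

theorem e_swap (hv : v ∈ KL L) (hw : w ∈ KL L) : e L v w * e L w v = 1 :=
  ThetaAbs.e_swap _ hv hw

theorem e_mul_right (hu : u ∈ KL L) (hv : v ∈ KL L) (hw : w ∈ KL L) :
    e L u (v * w) = e L u v * e L u w := ThetaAbs.e_mul_right _ hu hv hw

theorem e_mul_left (hu : u ∈ KL L) (hv : v ∈ KL L) (hw : w ∈ KL L) :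
    e L (u * v) w = e L u w * e L v w := ThetaAbs.e_mul_left _ hu hv hw

theorem e_one_right (hv : v ∈ KL L) : e L v 1 = 1 := ThetaAbs.e_one_right _ hv

theorem e_one_left (hv : v ∈ KL L) : e L 1 v = 1 := ThetaAbs.e_one_left _ hv

theorem e_pow_right (hv : v ∈ KL L) (hw : w ∈ KL L) (n : ℕ) : e L v (w ^ n) = e L v w ^ n :=
  ThetaAbs.e_pow_right _ hv hw n

theorem e_pow_left (hv : v ∈ KL L) (hw : w ∈ KL L) (n : ℕ) : e L (v ^ n) w = e L v w ^ n :=
  ThetaAbs.e_pow_left _ hv hw n

theorem KL_le_pow (n : ℕ) : KL L ≤ KL (L ^ n) := by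
  intro v hv
  rw [mem_KL] at hv ⊢
  rw [map_pow, hv]

theorem mem_KL_mul (hv : v ∈ KL L) (hv' : v ∈ KL M) : v ∈ KL (L * M) := by
  rw [mem_KL] at hv hv' ⊢
  rw [map_mul, hv, hv']

theorem e_pow (hv : v ∈ KL L) (hw : w ∈ KL L) (n : ℕ) : e (L ^ n) v w = e L v w ^ n := by
  rw [← e_eq ((isCoc_coc L).pow n) (KL_le_pow n hv) (KL_le_pow n hw)]
  exact e_pow_fam (isCoc_coc L).ne hv hw n

theorem e_mul (hv : v ∈ KL L) (hw : w ∈ KL L) (hv' : v ∈ KL M) (hw' : w ∈ KL M) :
    e (L * M) v w = e L v w * e M v w := by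
  rw [← e_eq ((isCoc_coc L).mul (isCoc_coc M)) (mem_KL_mul hv hv') (mem_KL_mul hw hw')]
  exact e_mul_fam (isCoc_coc L).ne (isCoc_coc M).ne hv hw hv' hw'

/-! ### Functoriality -/

section functorial

variable {K' : Type u} [Field K'] {B : Over (Spec (CommRingCat.of K'))} [GrpObj B] [IsProper B.hom]
  [GeometricallyIntegral B.hom] [AlgebraicGeometry.IsIntegral B.left] [IsCommMonObj B]

variable (A B) in
/-- A (semilinear) morphism compatible with translations. -/
structure Mor where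
  σ : K →+* K'
  f : B.left ⟶ A.left
  w : f ≫ A.hom = B.hom ≫ Spec.map (CommRingCat.ofHom σ)
  gen : f (genericPoint B.left) = genericPoint A.left
  φ : Pt B → Pt A
  tr : ∀ w, (t w).left ≫ f = f ≫ (t (φ w)).left

namespace Mor

variable (F : Mor A B)

theorem τσ (v : Pt B) (x : A.left.functionField) :
    (core B).τ v (fm F.f F.gen x) = fm F.f F.gen ((core A).τ (F.φ v) x) := by
  have h1 : ((t v).left ≫ F.f) (genericPoint B.left) = genericPoint A.left := by
    rw [Scheme.Hom.comp_apply, t_generic, F.gen]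
  have h2 : (F.f ≫ (t (F.φ v)).left) (genericPoint B.left) = genericPoint A.left := by
    rw [Scheme.Hom.comp_apply, F.gen, t_generic]
  rw [τ_eq, τ_eq, ← fm_comp _ _ _ _ h1, ← fm_comp _ _ _ _ h2]
  exact fm_congr _ _ (F.tr v) _ _

theorem act (v : Pt B) (p : B.left) :
    F.f ((core B).act v p) = (core A).act (F.φ v) (F.f p) := by
  rw [act_eq, act_eq, ← Scheme.Hom.comp_apply, ← Scheme.Hom.comp_apply, F.tr]

theorem kSec_app (c : K) : F.f.app ⊤ (kSec A.left K ⊤ c) = kSec B.left K' ⊤ (F.σ c) := by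
  have h1 : (Scheme.ΓSpecIso (CommRingCat.of K)).inv ≫ A.hom.appTop ≫ F.f.appTop =
      CommRingCat.ofHom F.σ ≫ (Scheme.ΓSpecIso (CommRingCat.of K')).inv ≫ B.hom.appTop := by
    rw [← Scheme.Hom.comp_appTop, F.w, Scheme.Hom.comp_appTop, ← Category.assoc, ← Category.assoc,
      Scheme.ΓSpecIso_inv_naturality]
  have h2 := congrArg (fun φ => φ.hom c) h1
  have h3 : kSec A.left K ⊤ c = A.hom.appTop ((Scheme.ΓSpecIso (CommRingCat.of K)).inv c) := by
    rw [kSec]
    simp
    rfl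
  have h4 : kSec B.left K' ⊤ (F.σ c) =
      B.hom.appTop ((Scheme.ΓSpecIso (CommRingCat.of K')).inv (F.σ c)) := by
    rw [kSec]
    simp
    rfl
  rw [h3, h4]
  exact h2

theorem alg (c : K) : fm F.f F.gen (algebraMap K A.left.functionField c) =
    algebraMap K' B.left.functionField (F.σ c) := by
  change fm F.f F.gen (kF A.left K c) = kF B.left K' (F.σ c)
  rw [kF_apply A.left K ⊤ trivial c, kF_apply B.left K' ⊤ trivial (F.σ c), ← kSec_app]
  exact fm_germ F.f F.gen ⊤ trivial trivial _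

theorem lift {a : A.left → A.left.functionField} {v : Pt B} {f : A.left.functionField}
    (h : Lift (core A) a (F.φ v) f) :
    Lift (core B) (fun x => fm F.f F.gen (a (F.f x))) v (fm F.f F.gen f) := by
  refine ⟨(map_ne_zero _).mpr h.1, fun b => isU_iff.mpr ?_⟩
  have h1 := fm_unitAt F.f F.gen (isU_iff.mp (h.2 (F.f b)))
  refine unitAt_congr h1 ?_
  beta_reduce
  rw [map_mul, map_mul, map_inv₀, τσ, act]

theorem mem_KL {v : Pt B} (hv : F.φ v ∈ KL L) : v ∈ KL (pull F.f L) := by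
  obtain ⟨f, hf⟩ := hv
  exact (mem_KL_coc ((isCoc_coc L).pull F.f F.gen)).mp ⟨_, F.lift hf⟩

theorem e_eq {v w : Pt B} (hv : F.φ v ∈ KL L) (hw : F.φ w ∈ KL L) :
    e (pull F.f L) v w = Units.map F.σ (e L (F.φ v) (F.φ w)) := by
  rw [← Geo.e_eq ((isCoc_coc L).pull F.f F.gen) (F.mem_KL hv) (F.mem_KL hw)]
  obtain ⟨f, hf⟩ := hv
  obtain ⟨g, hg⟩ := hw
  refine e_eq_of (((isCoc_coc L).pull F.f F.gen).ne) (F.lift hf) (F.lift hg) ?_
  rw [τσ, τσ, ← map_mul, ← map_mul, e_spec (isCoc_coc L).ne hf hg, map_mul]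
  congr 1
  exact F.alg _

end Mor

end functorial

end K515.Geo
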