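import Groth.Agent.AbVar.K515.ThetaAbs
import Mathlib.Algebra.Category.Grp.Injective
import Mathlib.FieldTheory.IsAlgClosed.Basic
import Mathlib.LinearAlgebra.LinearIndependent.Lemmas
import Mathlib.FieldTheory.Fixed
import Mathlib.GroupTheory.SemidirectProduct

/-!
# Splitting the theta group over an isotropic finite subgroup
-/

set_option autoImplicit false

namespace K515.ThetaSplit

open Groth.Agent.Sga7.H761.PairCore K515.ThetaAbs

/-- `kˣ` is divisible. -/
@[instance_reducible] noncomputable def divisible (k : Type*) [Field k] [IsAlgClosed k] :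
    DivisibleBy (Additive kˣ) ℤ :=
  divisibleByOfSMulRightSurj _ _ (fun {n} hn => by
    intro x
    obtain ⟨z, hz⟩ : ∃ z : k, z ^ n.natAbs = (x.toMul : k) :=
      IsAlgClosed.exists_pow_nat_eq _ (Int.natAbs_pos.2 hn)
    have hz0 : z ≠ 0 := by
      rintro rfl
      rw [zero_pow (Int.natAbs_ne_zero.2 hn)] at hz
      exact x.toMul.ne_zero hz.symm
    have h1 : (Units.mk0 z hz0) ^ n.natAbs = x.toMul := by
      ext
      simpa using hz
    rcases Int.natAbs_eq n with h | h
    · refine ⟨Additive.ofMul (Units.mk0 z hz0), ?_⟩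
      apply Additive.toMul.injective
      change (Units.mk0 z hz0) ^ n = x.toMul
      rw [h, zpow_natCast, h1]
    · refine ⟨Additive.ofMul (Units.mk0 z hz0)⁻¹, ?_⟩
      apply Additive.toMul.injective
      change ((Units.mk0 z hz0)⁻¹) ^ n = x.toMul
      rw [h, zpow_neg, zpow_natCast, inv_pow, inv_inv, h1])

variable {K F X G : Type*} [Field K] [Field F] [Algebra K F] [CommGroup G] (D : Core K F X G)

/-- The action of `G` on `Fˣ`. -/
def φ : G →* MulAut Fˣ where
  toFun w := Units.mapEquiv (D.τ w).toRingEquiv.toMulEquiv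
  map_one' := by ext x; simp
  map_mul' v w := by ext x; simp

lemma φ_apply (w : G) (x : Fˣ) : ((φ D w x : Fˣ) : F) = D.τ w x := rfl

variable {D} {γ : X → F}

/-- The theta group of a subgroup `N`. -/
def E (hγ : ∀ b, γ b ≠ 0) (N : Subgroup G) : Subgroup (Fˣ ⋊[φ D] G) where
  carrier := {x | x.right ∈ N ∧ Lift D γ x.right x.left}
  mul_mem' := by
    rintro x y ⟨hx, hx'⟩ ⟨hy, hy'⟩
    refine ⟨N.mul_mem hx hy, ?_⟩
    have h := hx'.mul hγ hy'
    rw [SemidirectProduct.mul_left, SemidirectProduct.mul_right, Units.val_mul, φ_apply]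
    exact h
  one_mem' := ⟨N.one_mem, by
    rw [SemidirectProduct.one_right, SemidirectProduct.one_left, Units.val_one]
    exact Lift.one hγ⟩
  inv_mem' := by
    rintro x ⟨hx, hx'⟩
    refine ⟨N.inv_mem hx, ?_⟩
    have h := hx'.inv
    rw [SemidirectProduct.inv_left, SemidirectProduct.inv_right, φ_apply, Units.val_inv_eq_inv_val,
      map_inv₀]
    exact h

lemma E_comm (hγ : ∀ b, γ b ≠ 0) (N : Subgroup G)
    (he : ∀ v ∈ N, ∀ w ∈ N, e D γ v w = 1) (x y : E (D := D) hγ N) : x * y = y * x := by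
  apply Subtype.ext
  apply SemidirectProduct.ext
  · apply Units.ext
    change ((x.1 * y.1).left : F) = ((y.1 * x.1).left : Fˣ)
    rw [SemidirectProduct.mul_left, SemidirectProduct.mul_left, Units.val_mul, Units.val_mul,
      φ_apply, φ_apply]
    have h := e_spec hγ x.2.2 y.2.2
    rw [he _ x.2.1 _ y.2.1, Units.val_one, map_one, one_mul] at h
    exact h
  · exact mul_comm _ _

/-- **Splitting of the theta group** over a subgroup on which the commutator pairing vanishes. -/
theorem exists_section [IsAlgClosed K] (hγ : ∀ b, γ b ≠ 0) (N : Subgroup G)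
    (hN : ∀ w ∈ N, w ∈ KL D γ hγ) (he : ∀ v ∈ N, ∀ w ∈ N, e D γ v w = 1) :
    ∃ s : G → F, (∀ w ∈ N, Lift D γ w (s w)) ∧
      ∀ v ∈ N, ∀ w ∈ N, s (v * w) = s v * D.τ v (s w) := by
  classical
  let E' := E (D := D) hγ N
  let inst : CommGroup E' := { (inferInstance : Group E') with mul_comm := E_comm hγ N he }
  let i : Kˣ →* E' :=
    { toFun := fun c => ⟨⟨Units.map (algebraMap K F).toMonoidHom c, 1⟩, N.one_mem, by
        have h := (Lift.one (D := D) hγ).smul c.ne_zero
        rw [mul_one] at h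
        exact h⟩
      map_one' := by
        apply Subtype.ext
        apply SemidirectProduct.ext
        · change Units.map (algebraMap K F).toMonoidHom 1 = 1
          rw [map_one]
        · rfl
      map_mul' := fun c d => by
        apply Subtype.ext
        apply SemidirectProduct.ext
        · apply Units.ext
          change algebraMap K F ((c * d : Kˣ) : K) = algebraMap K F c * D.τ 1 (algebraMap K F d)
          rw [Units.val_mul, map_mul, AlgEquiv.commutes]
        · change (1 : G) = 1 * 1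
          rw [one_mul] }
  have hi : Function.Injective i := by
    intro c d h
    have h1 := congrArg (fun x : E' => (x.1.left : F)) h
    exact Units.ext ((algebraMap K F).injective h1)
  let := divisible K
  have hb : Module.Baer ℤ (Additive Kˣ) := Module.Baer.of_divisible _
  obtain ⟨r, hr⟩ := hb.extension_property_addMonoidHom (MonoidHom.toAdditive i) hi
    (AddMonoidHom.id _)
  let r' : E' →* Kˣ := MonoidHom.toAdditive.symm r
  have hr' : ∀ c, r' (i c) = c := fun c => DFunLike.congr_fun hr (Additive.ofMul c)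
  choose! f hf using hN
  let x : ∀ w, w ∈ N → E' := fun w hw => ⟨⟨Units.mk0 (f w) (hf w hw).1, w⟩, hw, hf w hw⟩
  refine ⟨fun w => if hw : w ∈ N then algebraMap K F ((r' (x w hw))⁻¹ : Kˣ) * f w else 1, ?_, ?_⟩
  · intro w hw
    beta_reduce
    rw [dif_pos hw]
    exact (hf w hw).smul (Units.ne_zero _)
  · intro v hv w hw
    have hvw := N.mul_mem hv hw
    beta_reduce
    rw [dif_pos hv, dif_pos hw, dif_pos hvw]
    obtain ⟨c, hc⟩ := ((hf v hv).mul hγ (hf w hw)).unique hγ (hf _ hvw)
    have h1 : x v hv * x w hw = i c * x (v * w) hvw := by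
      apply Subtype.ext
      apply SemidirectProduct.ext
      · apply Units.ext
        change f v * D.τ v (f w) = algebraMap K F c * D.τ 1 (f (v * w))
        rw [map_one, AlgEquiv.one_apply]
        exact hc
      · change v * w = 1 * (v * w)
        rw [one_mul]
    have h2 := congrArg r' h1
    rw [map_mul, map_mul, hr'] at h2
    have h3 : ((r' (x (v * w) hvw))⁻¹ : Kˣ) = c * (r' (x v hv))⁻¹ * (r' (x w hw))⁻¹ := by
      rw [mul_assoc, ← mul_inv, h2, mul_inv, mul_inv_cancel_left]
    rw [h3, map_mul, AlgEquiv.commutes, Units.val_mul, Units.val_mul, map_mul, map_mul]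
    calc _ = algebraMap K F ((r' (x v hv))⁻¹ : Kˣ) * algebraMap K F ((r' (x w hw))⁻¹ : Kˣ) *
          (algebraMap K F c * f (v * w)) := by ring
      _ = _ := by rw [← hc]; ring

/-- **Hilbert 90** for a finite group acting faithfully. -/
theorem hilbert90 (N : Subgroup G) [Finite N] (hτ : ∀ w ∈ N, (∀ x, D.τ w x = x) → w = 1)
    (s : G → F) (hs0 : ∀ w ∈ N, s w ≠ 0) (hs : ∀ v ∈ N, ∀ w ∈ N, s (v * w) = s v * D.τ v (s w)) :
    ∃ c : F, c ≠ 0 ∧ ∀ w ∈ N, s w * D.τ w c = c := by
  classical
  have := Fintype.ofFinite N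
  let m : N → (F →* F) := fun w => ((D.τ (w : G)) : F →* F)
  have hm : Function.Injective m := by
    intro v w h
    have h1 : ∀ x, D.τ (v : G) x = D.τ (w : G) x := fun x => DFunLike.congr_fun h x
    have h2 : ((w : G)⁻¹ * v) = 1 := by
      refine hτ _ (N.mul_mem (N.inv_mem w.2) v.2) fun x => ?_
      rw [map_mul, AlgEquiv.mul_apply, h1, ← AlgEquiv.mul_apply, ← map_mul, inv_mul_cancel,
        map_one, AlgEquiv.one_apply]
    exact Subtype.ext (inv_mul_eq_one.mp h2).symm
  have hli := (linearIndependent_monoidHom F F).comp m hm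
  obtain ⟨x, hx⟩ : ∃ x, ∑ w : N, s w * D.τ (w : G) x ≠ 0 := by
    by_contra hcon
    push Not at hcon
    have h1 : ∑ w : N, s w • (fun (m : F →* F) => (m : F → F)) (m w) = 0 := by
      funext x
      rw [Finset.sum_apply]
      exact hcon x
    have h2 := Fintype.linearIndependent_iff.mp hli (fun w => s w) h1 1
    exact hs0 _ (1 : N).2 h2
  refine ⟨_, hx, fun w hw => ?_⟩
  rw [map_sum, Finset.mul_sum]
  refine Fintype.sum_equiv (Equiv.mulLeft (⟨w, hw⟩ : N)) _ _ fun v => ?_
  change s w * D.τ w (s v * D.τ (v : G) x) = s (w * v) * D.τ (w * v : G) x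
  rw [hs w hw v v.2, map_mul, map_mul, AlgEquiv.mul_apply]
  ring

/-- **Descent, function field part**: over an isotropic finite subgroup `N` the local generators can
be chosen `N`-invariant up to units. -/
theorem exists_invariant [IsAlgClosed K] (hγ : ∀ b, γ b ≠ 0) (N : Subgroup G) [Finite N]
    (hτ : ∀ w ∈ N, (∀ x, D.τ w x = x) → w = 1)
    (hN : ∀ w ∈ N, w ∈ KL D γ hγ) (he : ∀ v ∈ N, ∀ w ∈ N, e D γ v w = 1) :
    ∃ c : F, c ≠ 0 ∧ ∀ w ∈ N, ∀ b, IsU D b (γ b * c * (D.τ w (γ (D.act w b) * c))⁻¹) := by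
  obtain ⟨s, hs, hs'⟩ := exists_section hγ N hN he
  obtain ⟨c, hc, hc'⟩ := hilbert90 N hτ s (fun w hw => (hs w hw).1) hs'
  refine ⟨c, hc, fun w hw b => isU_congr ((hs w hw).2 b) ?_⟩
  have h1 := hc' w hw
  have h2 : D.τ w c ≠ 0 := (map_ne_zero _).mpr hc
  have h3 : s w = c * (D.τ w c)⁻¹ := by rw [eq_mul_inv_iff_mul_eq₀ h2, h1]
  rw [h3, map_mul, mul_inv]
  ring

end K515.ThetaSplit
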