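import Groth.Agent.AbVar.K515.FixInt
import Groth.Agent.AbVar.K515.Desc
import Groth.Agent.AbVar.K515.ThetaSplit
import Groth.Agent.S2544
import Mathlib.AlgebraicGeometry.AlgClosed.Basic

/-!
# Descent of line bundles along isogenies with isotropic kernel

`exists_desc`: `K` algebraically closed, `q : A ⟶ B` a flat surjective homomorphism of abelian
varieties with `q ≫ v = [n]`, `n` prime to the characteristic. If the points of the kernel of `q`
fix the class `L` and its commutator pairing vanishes on them, then `L` is pulled back from `B`.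
-/

set_option autoImplicit false
universe u

open CategoryTheory Limits MonoidalCategory CartesianMonoidalCategory AlgebraicGeometry
open scoped MonObj
open Groth.Agent.Dix.Center Groth.Agent.Grpsch.GrowthFF Groth.Agent.Grpsch.GrowthPull
open Groth.Agent.Lefpen.H725.CocDef Groth.Agent.Lefpen.H521.CartierCoc
open Groth.Agent.Grpsch.PicGrp Groth.Agent.Grpsch.Cube
open Groth.Agent.Sga7.H761.FunSig Groth.Agent.Sga7.H761.PairCore Groth.Agent.Sga7.H761.TransSig
open Groth.Agent.Sga7.H761.WeilGeom Groth.Agent.Sga7.H761.WeilMain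

namespace K515.GeoDesc

open K515.ThetaAbs K515.Coc K515.FF K515.Geo

variable {K : Type u} [Field K]

attribute [local instance] overA kAlg

/-- The kernel on rational points. -/
def kerPt {A B : Over (Spec (CommRingCat.of K))} [GrpObj A] [GrpObj B] (q : A ⟶ B) [IsMonHom q] :
    Subgroup (Pt A) where
  carrier := {w | w ≫ q = 1}
  mul_mem' {v w} hv hw := by
    change (v * w) ≫ q = 1
    rw [MonObj.mul_comp, hv, hw, mul_one]
  one_mem' := MonObj.one_comp q
  inv_mem' {v} hv := by
    change v⁻¹ ≫ q = 1
    rw [GrpObj.inv_comp, hv, inv_one]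

variable [IsAlgClosed K]

/-- rational points with the same image are equal -/
theorem pt_ext {A : Over (Spec (CommRingCat.of K))} [LocallyOfFiniteType A.hom] {x y : Pt A}
    (h : x.left (IsLocalRing.closedPoint K) = y.left (IsLocalRing.closedPoint K)) : x = y := by
  ext1
  exact ext_of_apply_closedPoint_eq A.hom (Over.w x) (Over.w y) h

/-- closed points come from rational points -/
theorem exists_pt {A : Over (Spec (CommRingCat.of K))} [LocallyOfFiniteType A.hom] (p : A.left)
    (hp : IsClosed {p}) : ∃ x : Pt A, x.left (IsLocalRing.closedPoint K) = p :=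
  ⟨Over.homMk (pointOfClosedPoint A.hom p hp) (pointOfClosedPoint_comp A.hom p hp),
    pointOfClosedPoint_apply A.hom p hp _⟩

variable {A : Over (Spec (CommRingCat.of K))} [GrpObj A] [IsProper A.hom]
  [GeometricallyIntegral A.hom] [AlgebraicGeometry.IsIntegral A.left] [IsCommMonObj A]
  {B : Over (Spec (CommRingCat.of K))} [GrpObj B] [IsProper B.hom]
  [GeometricallyIntegral B.hom] [AlgebraicGeometry.IsIntegral B.left] [IsCommMonObj B]

/-- **Descent of a line bundle along an isogeny with isotropic kernel.** -/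
theorem exists_desc (n : ℕ) (hn : (n : K) ≠ 0) (q : A ⟶ B) [IsMonHom q] [Flat q.left]
    [Surjective q.left] (v : B ⟶ A) (hqv : q ≫ v = 𝟙 A ^ n) (L : Pic A.left)
    (h1 : ∀ w : Pt A, w ≫ q = 1 → w ∈ KL L)
    (h2 : ∀ w w' : Pt A, w ≫ q = 1 → w' ≫ q = 1 → e L w w' = 1) :
    ∃ M : Pic B.left, pl q M = L := by
  have hn1 : 1 ≤ n := Nat.one_le_iff_ne_zero.2 (fun h => hn (by rw [h, Nat.cast_zero]))
  obtain ⟨g, hg⟩ := Groth.Agent.Sga7.H742.P1Dim.exists_dim A
  have hcard : Nat.card {w : Pt A // w ^ n = 1} = n ^ (2 * g) := card_torsion g hg n hn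
  have hη : q.left (genericPoint A.left) = genericPoint B.left :=
    Groth.Agent.Grpsch.MulFin.map_genericPoint _
  have : CompactSpace A.left := QuasiCompact.compactSpace_of_compactSpace A.hom
  -- `q` is finite
  have hfin : IsFinite q.left := by
    have hf := Groth.Agent.Grpsch.MulFin.isFinite_pow A n hn1
    have h3 : q.left ≫ v.left = (𝟙 A ^ n).left := by rw [← Over.comp_left, hqv]
    have h4 : IsFinite (q.left ≫ v.left) := by rw [h3]; exact hf
    have h5 : IsSeparated v.left := by
      have : IsSeparated (v.left ≫ A.hom) := by rw [Over.w v]; infer_instance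
      exact IsSeparated.of_comp _ A.hom
    exact IsFinite.of_comp q.left v.left
  let N : Subgroup (Pt A) := kerPt q
  have hNn : ∀ w ∈ N, w ^ n = 1 := by
    intro w hw
    have h3 : w ^ n = w ≫ (𝟙 A ^ n) := by rw [MonObj.comp_pow, Category.comp_id]
    have h4 : (1 : Pt A) = (1 : Pt A) ≫ (𝟙 A ^ n) := by
      rw [MonObj.comp_pow, Category.comp_id, one_pow]
    rw [h3, h4, ← hqv, ← Category.assoc, ← Category.assoc]
    have h5 : w ≫ q = 1 := hw
    rw [h5, MonObj.one_comp q]
  have : Finite {w : Pt A // w ^ n = 1} := Nat.finite_of_card_ne_zero (by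
    rw [hcard]; exact (Nat.pow_pos hn1).ne')
  have hNfin : Finite N := Finite.of_injective
    (fun w : N => (⟨w.1, hNn w.1 w.2⟩ : {w : Pt A // w ^ n = 1})) (fun a b hab =>
      Subtype.ext (congrArg (fun w : {w : Pt A // w ^ n = 1} => w.1) hab))
  obtain ⟨c, hc, hc'⟩ := ThetaSplit.exists_invariant (D := core A) (isCoc_coc L).ne N
    (fun w _ h => τM_injective h) (fun w hw => h1 w hw) (fun w hw w' hw' => h2 w w' hw hw')
  have ha : IsCoc L (fun b => coc L b * c) := (isCoc_coc L).change c hc fun x => by
    beta_reduce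
    have h3 : coc L x * c ≠ 0 := mul_ne_zero ((isCoc_coc L).ne x) hc
    rw [mul_comm c, div_self h3]
    exact unitAt_one x
  obtain ⟨L', hL', rfl⟩ := exists_mk L
  have hπ : ∀ w : N, (t w.1).left ≫ q.left = q.left := by
    intro w
    rw [← Over.comp_left, t_comp_hom]
    have h3 : w.1 ≫ q = 1 := w.2
    rw [h3, t_one, Category.comp_id]
  have hclosed : ∀ p : A.left, IsClosed {p} → ∀ p' : A.left, q.left p' = q.left p →
      IsClosed {p'} := by
    intro p hp p' hpp'
    have h3 : IsClosed {q.left p} := by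
      have := q.left.isClosedMap _ hp
      rwa [Set.image_singleton] at this
    have h4 : closure {p'} = {p'} := by
      refine Set.Subset.antisymm (fun y hy => ?_) subset_closure
      have h5 : p' ⤳ y := specializes_iff_mem_closure.mpr hy
      have h6 : q.left p' ⤳ q.left y := h5.map q.left.continuous
      rw [hpp'] at h6
      have h7 : q.left y ∈ ({q.left p} : Set B.left) := h6.mem_closed h3 rfl
      have h8 : q.left y = q.left p' := h7.trans hpp'.symm
      exact Groth.Agent.S2544.eq_of_specializes_of_isIntegralHom q.left h5 h8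
    rw [← h4]
    exact isClosed_closure
  have hfib : ∀ p p' : A.left, IsClosed {p} → q.left p' = q.left p →
      ∃ w : N, (t w.1).left p = p' := by
    intro p p' hp hpp'
    obtain ⟨x, hx⟩ := exists_pt p hp
    obtain ⟨x', hx'⟩ := exists_pt p' (hclosed p hp p' hpp')
    have h3 : x ≫ q = x' ≫ q := by
      apply pt_ext
      rw [Over.comp_left, Over.comp_left, Scheme.Hom.comp_apply, Scheme.Hom.comp_apply, hx, hx',
        hpp']
    refine ⟨⟨x⁻¹ * x', ?_⟩, ?_⟩
    · change (x⁻¹ * x') ≫ q = 1
      rw [MonObj.mul_comp, GrpObj.inv_comp, h3, inv_mul_cancel]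
    · change (t (x⁻¹ * x')).left p = p'
      rw [← hx, ← Scheme.Hom.comp_apply, ← Over.comp_left, pt_comp_t, mul_inv_cancel_left, hx']
  have hfree : ∀ p : A.left, IsClosed {p} → ∀ w : N, w ≠ 1 → (t w.1).left p ≠ p := by
    intro p hp w hw hwp
    apply hw
    obtain ⟨x, hx⟩ := exists_pt p hp
    have h3 : x ≫ t w.1 = x := by
      apply pt_ext
      rw [Over.comp_left, Scheme.Hom.comp_apply, hx]
      exact hwp
    rw [pt_comp_t] at h3
    exact Subtype.ext (mul_eq_left.mp h3)
  obtain ⟨M, hM, ⟨i⟩⟩ := Desc.exists_descent q.left hη (H := N) (fun w => (t w.1).left)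
    (fun w => t_generic w.1) (by change (t (1 : Pt A)).left = _; rw [t_one]; rfl)
    (fun v w => by rw [← Over.comp_left, t_comp_t]; rfl) hπ
    (fun φ hφ => FixInt.exists_preimage_hom g hg n hn1 hcard q hη v hqv φ
      (fun y hy => hφ ⟨y, hy⟩)) hfib hfree ha.hasCoc hL'
    (fun w x => unitAt_congr (isU_iff.mp (hc' w.1 w.2 x)) (by rw [div_eq_mul_inv]; rfl))
  exact ⟨mk M hM, mk_congr i⟩

end K515.GeoDesc
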