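import Groth.Agent.AbVar.K515.Geo
import Groth.Agent.Etcore.AbTors
import Groth.Agent.Sga7.H734.Divis
import Groth.Agent.Grpsch.CubePow
import Groth.Agent.Sga7.H742.P1Dim

/-!
# The commutator pairing and multiplication by `n`

* `Mor.ofHom`: a surjective homomorphism of abelian varieties gives a `Mor`;
* `mem_KL_pow`: `w ∈ K(L^n) ↔ w^n ∈ K(L)`;
* `e_pow_comp`: for symmetric `L`, `e_{L^{mn}}(v,w)^n = e_{L^m}(v^n,w^n)`;
* `mem_KL_of_pairing`: nondegeneracy.
-/

set_option autoImplicit false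
universe u

open CategoryTheory Limits MonoidalCategory CartesianMonoidalCategory AlgebraicGeometry
open scoped MonObj
open Groth.Agent.Dix.Center Groth.Agent.Grpsch.GrowthFF Groth.Agent.Grpsch.GrowthPull
open Groth.Agent.Fdesc.LocGen Groth.Agent.Lefpen.H725.CocDef Groth.Agent.Lefpen.H521.CartierCoc
open Groth.Agent.Grpsch.PicGrp Groth.Agent.Grpsch.Cube Groth.Agent.Sga7.H761.CubeSq
open Groth.Agent.Sga7.H761.FunSig Groth.Agent.Sga7.H761.PairCore Groth.Agent.Sga7.H761.TransSig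
open Groth.Agent.Sga7.H761.WeilGeom Groth.Agent.Sga7.H761.WeilMain

namespace K515.Geo

open K515.ThetaAbs K515.Coc K515.FF

variable {K : Type u} [Field K] {A : Over (Spec (CommRingCat.of K))} [GrpObj A] [IsProper A.hom]
  [GeometricallyIntegral A.hom] [AlgebraicGeometry.IsIntegral A.left] [IsCommMonObj A]
  {B : Over (Spec (CommRingCat.of K))} [GrpObj B] [IsProper B.hom]
  [GeometricallyIntegral B.hom] [AlgebraicGeometry.IsIntegral B.left] [IsCommMonObj B]

attribute [local instance] overA kAlg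

omit [IsProper A.hom] [GeometricallyIntegral A.hom] [AlgebraicGeometry.IsIntegral A.left]
  [IsCommMonObj A] [IsProper B.hom] [GeometricallyIntegral B.hom]
  [AlgebraicGeometry.IsIntegral B.left] [IsCommMonObj B] in
theorem t_comp_hom (f : B ⟶ A) [IsMonHom f] (w : Pt B) : t w ≫ f = f ≫ t (w ≫ f) := by
  rw [comp_t, t, MonObj.mul_comp, Category.id_comp, Category.assoc]

/-- A surjective homomorphism is a `Mor`. -/
noncomputable def Mor.ofHom (f : B ⟶ A) [IsMonHom f] [Surjective f.left] : Mor A B where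
  σ := RingHom.id K
  f := f.left
  w := by
    rw [Over.w f]
    have : CommRingCat.ofHom (RingHom.id K) = 𝟙 (CommRingCat.of K) := rfl
    rw [this, Spec.map_id, Category.comp_id]
  gen := Groth.Agent.Grpsch.MulFin.map_genericPoint _
  φ w := w ≫ f
  tr w := by
    rw [← Over.comp_left, ← Over.comp_left, t_comp_hom]

variable {L M : Pic A.left} {u v w : Pt A}

theorem mem_KL_pull (f : B ⟶ A) [IsMonHom f] [Surjective f.left] {v : Pt B}
    (hv : v ≫ f ∈ KL L) : v ∈ KL (pl f L) := (Mor.ofHom f).mem_KL hv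

theorem e_pull (f : B ⟶ A) [IsMonHom f] [Surjective f.left] {v w : Pt B}
    (hv : v ≫ f ∈ KL L) (hw : w ≫ f ∈ KL L) : e (pl f L) v w = e L (v ≫ f) (w ≫ f) := by
  have h := (Mor.ofHom f).e_eq hv hw
  refine h.trans ?_
  change Units.map (RingHom.id K : K →* K) _ = _
  ext
  rfl

/-! ### Powers -/

omit [AlgebraicGeometry.IsIntegral A.left] in
theorem lam_id (w : Pt A) : lam (toUnit A ≫ w) (𝟙 A) L = pl (t w) L * L⁻¹ := by
  rw [lam]
  have : pl (𝟙 A) L = L := pull_id _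
  rw [this]
  rfl

/-- The translation defect is additive in the point. -/
theorem defect_pow (w : Pt A) (n : ℕ) : pl (t (w ^ n)) L * L⁻¹ = (pl (t w) L * L⁻¹) ^ n := by
  rw [← lam_id, ← lam_id, lam_pow_right]

theorem mem_KL_pow {n : ℕ} : w ∈ KL (L ^ n) ↔ w ^ n ∈ KL L := by
  rw [mem_KL, mem_KL, ← mul_inv_eq_one, ← mul_inv_eq_one (b := L), defect_pow, map_pow, mul_pow,
    inv_pow]

theorem mem_KL_of_pow_eq_one {n : ℕ} (hw : w ^ n = 1) : w ∈ KL (L ^ n) := by
  rw [mem_KL_pow, hw]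
  exact one_mem _

/-- The compatibilities of multiplication by `n`. -/
theorem mulN (g : ℕ) (hg : topologicalKrullDim A.left = g) (n : ℕ)
    (hn : 1 ≤ n) (hcard : Nat.card {w : Pt A // w ^ n = 1} = n ^ (2 * g)) :
    MulN (core A) (σn A n hn) (fun p => (𝟙 A ^ n).left p) n := by
  have hsur := Groth.Agent.Grpsch.MulFin.surjective_pow A n hn
  have hfl := Groth.Agent.Grpsch.MulFin.flat_pow A n hn
  have key : ∀ w : Pt A, t w ≫ (𝟙 A ^ n) = (𝟙 A ^ n) ≫ t (w ^ n) := by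
    intro w
    rw [comp_t, t, MonObj.comp_pow, Category.comp_id, mul_pow, MonObj.comp_pow]
  refine ⟨⟨fun v x => ?_, fun v p => ?_, fun p x hx => ?_⟩, fun p x hx => ?_, hsur.surj,
    fun φ hφ => exists_preimage_σn A g hg n hn hcard φ hφ⟩
  · have h0 : (t v).left ≫ (𝟙 A ^ n).left = (𝟙 A ^ n).left ≫ (t (v ^ n)).left := by
      rw [← Over.comp_left, ← Over.comp_left, key]
    have h1 : ((t v).left ≫ (𝟙 A ^ n).left) (genericPoint A.left) = genericPoint A.left := by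
      rw [Scheme.Hom.comp_apply, t_generic, pow_generic A n hn]
    have h2 : ((𝟙 A ^ n).left ≫ (t (v ^ n)).left) (genericPoint A.left) = genericPoint A.left := by
      rw [Scheme.Hom.comp_apply, pow_generic A n hn, t_generic]
    change sig (t v).left (t_generic v) (sig (𝟙 A ^ n).left (pow_generic A n hn) x) =
      sig (𝟙 A ^ n).left (pow_generic A n hn) (sig (t (v ^ n)).left (t_generic _) x)
    rw [← sig_comp _ _ _ _ h1, ← sig_comp _ _ _ _ h2]
    exact sig_congr h0 _ _ _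
  · change (𝟙 A ^ n).left ((t v).left p) = (t (v ^ n)).left ((𝟙 A ^ n).left p)
    rw [← Scheme.Hom.comp_apply, ← Scheme.Hom.comp_apply, ← Over.comp_left, ← Over.comp_left, key]
  · exact sig_mem_O (𝟙 A ^ n).left (pow_generic A n hn) hx
  · exact mem_O_of_sig_mem (𝟙 A ^ n).left (pow_generic A n hn) hx

theorem exists_hsym (hL : pl (𝟙 A)⁻¹ L = L) (n : ℕ) (hn : 1 ≤ n) :
    ∃ c : A.left.functionField, c ≠ 0 ∧ ∀ p, IsU (core A) p
      (σn A n hn (coc L ((𝟙 A ^ n).left p)) * c * (coc L p ^ (n * n))⁻¹) := by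
  have h1 := pl_pow_of_symm L (𝟙 A) hL n
  have h2 : pl (𝟙 A) L = L := pull_id _
  rw [h2] at h1
  obtain ⟨c, hc, hc'⟩ := (eq_iff ((isCoc_coc L).pull _ (pow_generic A n hn))
    ((isCoc_coc L).pow (n ^ 2))).mp h1
  refine ⟨c, hc, fun p => isU_iff.mpr (unitAt_congr (hc' p) ?_)⟩
  beta_reduce
  rw [div_eq_mul_inv, pow_two n, mul_comm c]
  rfl

theorem exists_hrel (n : ℕ) (hn : 1 ≤ n) (w : Pt A) (hw : w ^ n = 1) :
    ∃ g : A.left.functionField, g ≠ 0 ∧ ∀ p, IsU (core A) p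
      (σn A n hn (coc L ((𝟙 A ^ n).left p)) * g *
        (σn A n hn ((core A).τ w (coc L ((core A).act w ((𝟙 A ^ n).left p)))))⁻¹) := by
  have h1 := pl_pow_mul_const L w (𝟙 A) n hw
  rw [← comp_t, pl_comp] at h1
  obtain ⟨c, hc, hc'⟩ := (eq_iff ((isCoc_coc L).pull _ (pow_generic A n hn))
    (((isCoc_coc L).pull (t w).left (t_generic w)).pull _ (pow_generic A n hn))).mp h1.symm
  refine ⟨c, hc, fun p => isU_iff.mpr (unitAt_congr (hc' p) ?_)⟩
  beta_reduce
  rw [div_eq_mul_inv, mul_comm c]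
  rfl

/-- rational points are divisible -/
theorem exists_pow_eq [IsAlgClosed K] (n : ℕ) (hn : (n : K) ≠ 0) (x : Pt A) :
    ∃ y : Pt A, y ^ n = x := by
  let i : SGA7.pt (K := K) K ≅ 𝟙_ (Over (Spec (CommRingCat.of K))) := Over.isoMk (Iso.refl _) (by
    change 𝟙 _ ≫ 𝟙 _ = Spec.map (CommRingCat.ofHom (RingHom.id K))
    have : CommRingCat.ofHom (RingHom.id K) = 𝟙 (CommRingCat.of K) := rfl
    rw [this, Spec.map_id, Category.comp_id])
  obtain ⟨y, hy⟩ := Groth.Agent.Sga7.H734.Divis.exists_pow_eq A n hn (i.hom ≫ x)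
  refine ⟨i.inv ≫ y, ?_⟩
  rw [← MonObj.comp_pow, hy, Iso.inv_hom_id_assoc]

theorem card_torsion [IsSepClosed K] (g : ℕ) (hg : topologicalKrullDim A.left = g) (n : ℕ)
    (hn : (n : K) ≠ 0) : Nat.card {w : Pt A // w ^ n = 1} = n ^ (2 * g) :=
  Groth.Agent.Etcore.AbTors.card_torsion A g hg n hn

/-- **Compatibility of the pairings of the powers of a symmetric class.** -/
theorem e_pow_comp (g : ℕ) (hg : topologicalKrullDim A.left = g) (hL : pl (𝟙 A)⁻¹ L = L)
    (n : ℕ) (hn : 1 ≤ n) (hcard : Nat.card {w : Pt A // w ^ n = 1} = n ^ (2 * g)) (m : ℕ)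
    (hv : v ∈ KL (L ^ (m * n))) (hw : w ∈ KL (L ^ (m * n))) :
    e (L ^ (m * n)) v w ^ n = e (L ^ m) (v ^ n) (w ^ n) := by
  obtain ⟨c, hc, hc'⟩ := exists_hsym hL n hn
  have hv' : v ^ n ∈ KL (L ^ m) := by
    rw [mem_KL_pow, ← pow_mul, mul_comm, ← mem_KL_pow]; exact hv
  have hw' : w ^ n ∈ KL (L ^ m) := by
    rw [mem_KL_pow, ← pow_mul, mul_comm, ← mem_KL_pow]; exact hw
  have h1 := (mulN (A := A) g hg n hn hcard).e_pow (isCoc_coc L).ne hc hc' m
    ((mem_KL_coc ((isCoc_coc L).pow _)).mpr hv) ((mem_KL_coc ((isCoc_coc L).pow _)).mpr hw)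
    ((mem_KL_coc ((isCoc_coc L).pow _)).mpr hv') ((mem_KL_coc ((isCoc_coc L).pow _)).mpr hw')
  rwa [e_eq ((isCoc_coc L).pow _) hv hw, e_eq ((isCoc_coc L).pow _) hv' hw'] at h1

/-- **Nondegeneracy.** -/
theorem mem_KL_of_pairing [IsAlgClosed K] (hL : pl (𝟙 A)⁻¹ L = L) (n : ℕ) (hn : (n : K) ≠ 0)
    (hwn : w ^ n = 1) (hw : ∀ y : Pt A, y ^ n = 1 → e (L ^ n) y w = 1) : w ∈ KL L := by
  have hn1 : 1 ≤ n := Nat.one_le_iff_ne_zero.2 (fun h => hn (by rw [h, Nat.cast_zero]))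
  obtain ⟨g, hg⟩ := Groth.Agent.Sga7.H742.P1Dim.exists_dim A
  obtain ⟨c, hc, hc'⟩ := exists_hsym hL n hn1
  obtain ⟨h, hh, hh'⟩ := exists_hrel (L := L) n hn1 w hwn
  refine (mulN (A := A) g hg n hn1 (card_torsion g hg n hn)).mem_KL (isCoc_coc L).ne hc hc'
    (exists_pow_eq n hn)
    (fun y hy => (mem_KL_coc ((isCoc_coc L).pow _)).mpr (mem_KL_of_pow_eq_one hy))
    (fun y hy => (mem_KL_coc ((isCoc_coc L).pow _)).mpr (mem_KL_of_pow_eq_one hy))
    hwn hh hh' fun y hy => ?_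
  rw [e_eq ((isCoc_coc L).pow _) (mem_KL_of_pow_eq_one hy) (mem_KL_of_pow_eq_one hwn)]
  exact hw y hy

end K515.Geo
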