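import Groth.Agent.AbVar.K515.HTEnd
import Groth.Agent.AbVar.K522.PtCount
import Groth.Agent.AbVar.K511.HT.Iface

/-!
# Honda–Tate existence over the prime field from existence over some finite field: node `HTE`

`K515.HTE.main : K511.HT.HTQ.{u} → K511.HT.HTE.{u}`.
-/

set_option autoImplicit false
universe u

open CategoryTheory CategoryTheory.Limits AlgebraicGeometry MonoidalCategory CartesianMonoidalCategory MonObj
open scoped NumberField

namespace K515.HTE

open K491.GalWeil K520.Frob K515.HTRes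

theorem isFrob_iff {S : Scheme.{u}} {A : Over S} (q : ℕ) (f : A ⟶ A) :
    K511.HT.IsFrob q f ↔ IsFrob q f.left :=
  ⟨fun h => ⟨h.1, h.2.choose, h.2.choose_spec⟩, fun h => ⟨h.base, h.le, h.app⟩⟩

/-- A finite field with `p` elements maps to every finite field of characteristic `p`. -/
theorem exists_hom (p : ℕ) [hp : Fact p.Prime] (k K : Type u) [Field k] [Finite k] (hk : Nat.card k = p) [Field K] [Finite K]
    (b : ℕ) (hK : Nat.card K = p ^ b) : ∃ (_ : Algebra k K), Module.finrank k K = b := by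
  have := Fintype.ofFinite k
  have h1 : CharP K p := by
    obtain ⟨r, hr⟩ := CharP.exists K
    have := hr
    have h2 : Fact r.Prime := ⟨CharP.char_is_prime K r⟩
    have h3 : r ∣ Nat.card K := by
      have h4 : (Nat.card K : K) = 0 := by
        have := Fintype.ofFinite K
        rw [Nat.card_eq_fintype_card]
        exact FiniteField.cast_card_eq_zero K
      exact (CharP.cast_eq_zero_iff K r _).1 h4
    rw [hK] at h3
    have h5 : r = p := (Nat.prime_dvd_prime_iff_eq h2.out hp.out).1 (h2.out.dvd_of_dvd_pow h3)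
    rwa [h5] at hr
  let e : ZMod p ≃+* k := ZMod.ringEquivOfPrime k hp.out (by rw [← Nat.card_eq_fintype_card, hk])
  let i : Algebra k K := ((ZMod.castHom dvd_rfl K).comp (e.symm : k →+* ZMod p)).toAlgebra
  refine ⟨i, ?_⟩
  have h2 := Module.natCard_eq_pow_finrank (K := k) (V := K)
  rw [hk, hK] at h2
  exact (Nat.pow_right_injective hp.out.two_le h2).symm

theorem exists_fields (p : ℕ) [hp : Fact p.Prime] (k κ : Type u) [Field k] [Finite k] (hk : Nat.card k = p) [Field κ]
    [Finite κ] (a m : ℕ) (hm : m ≠ 0) (hκ : Nat.card κ = p ^ a) :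
    ∃ (K : Type u) (_ : Field K) (_ : Finite K) (_ : Algebra κ K) (_ : Algebra k K), Module.finrank κ K = m ∧
      Module.finrank k K = a * m := by
  obtain ⟨K, _, _, _, h1⟩ := K522.PtCount.exists_ext κ m (Nat.pos_of_ne_zero hm)
  have h2 : Nat.card K = p ^ (a * m) := by
    rw [pow_mul, ← hκ, ← h1]
    exact Module.natCard_eq_pow_finrank
  obtain ⟨_, h3⟩ := exists_hom p k K hk (a * m) h2
  exact ⟨K, inferInstance, inferInstance, inferInstance, inferInstance, h1, h3⟩

/-- A ring homomorphism out of `ℤ[ϖ]`. -/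
theorem exists_adjoin_hom {O M : Type*} [CommRing O] [Ring M] (ϖ : O) (F : M)
    (h : ∀ P : Polynomial ℤ, Polynomial.eval₂ (Int.castRingHom O) ϖ P = 0 →
      Polynomial.eval₂ (Int.castRingHom M) F P = 0) :
    ∃ ρ : Algebra.adjoin ℤ {ϖ} →+* M, ρ ⟨ϖ, Algebra.self_mem_adjoin_singleton ℤ ϖ⟩ = F := by
  let w : Algebra.adjoin ℤ {ϖ} := ⟨ϖ, Algebra.self_mem_adjoin_singleton ℤ ϖ⟩
  let f : Polynomial ℤ →+* Algebra.adjoin ℤ {ϖ} := (Polynomial.aeval (R := ℤ) w : _ →ₐ[ℤ] _).toRingHom
  have hval : ∀ P, ((f P : Algebra.adjoin ℤ {ϖ}) : O) = Polynomial.aeval ϖ P := fun P =>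
    (Polynomial.aeval_algHom_apply (Subalgebra.val (Algebra.adjoin ℤ {ϖ})) w P).symm
  have hf : Function.Surjective f := by
    rintro ⟨x, hx⟩
    have hx' := hx
    rw [Algebra.adjoin_singleton_eq_range_aeval] at hx'
    obtain ⟨P, hP⟩ := hx'
    refine ⟨P, Subtype.ext ?_⟩
    rw [hval]
    exact hP
  let g : Polynomial ℤ →+* M := (Polynomial.aeval (R := ℤ) F : _ →ₐ[ℤ] _).toRingHom
  have hg : RingHom.ker f ≤ RingHom.ker g := by
    intro P hP
    rw [RingHom.mem_ker] at hP ⊢
    have h1 : Polynomial.eval₂ (Int.castRingHom O) ϖ P = 0 := by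
      have h2 := hval P
      rw [hP] at h2
      exact h2.symm
    exact h P h1
  refine ⟨RingHom.liftOfSurjective f hf ⟨g, hg⟩, ?_⟩
  have h1 := RingHom.liftOfRightInverse_comp_apply f _ (Function.rightInverse_surjInv hf) ⟨g, hg⟩ Polynomial.X
  have h2 : f Polynomial.X = w := Polynomial.aeval_X _
  have h3 : g Polynomial.X = F := Polynomial.aeval_X _
  rw [h2] at h1
  exact h1.trans h3

/-- **Existence over the prime field** from the existence over some finite field. -/
theorem main (hQ : K511.HT.HTQ.{u}) : K511.HT.HTE.{u} := by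
  intro p hp k _ _ hk L _ _ ϖ h1 h2 h3
  obtain ⟨a, m, ha, hm, κ, _, _, hκ, A, _, _, _, _, g, hg, hg2, ρ, π₀, hπ, hpow⟩ := hQ p L ϖ h1 h2 h3
  obtain ⟨K, _, _, _, _, hf1, hf2⟩ := exists_fields p k κ hk a m hm hκ
  let f : Spec (CommRingCat.of K) ⟶ Spec (CommRingCat.of κ) := K491.GalWeil.ext κ K
  let E : Over (Spec (CommRingCat.of K)) := Red.bc f A
  let θ : 𝓞 L →+* EndAV.End E := (K511.HT.bcEnd f A).comp ρ
  have hE1 : IsProper E.hom := inferInstanceAs (IsProper (pullback.snd A.hom f))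
  have hE2 : GeometricallyIntegral E.hom := inferInstanceAs (GeometricallyIntegral (pullback.snd A.hom f))
  have hdim : topologicalKrullDim E.left = g := (K515.Bc.dim_bc K A).trans hg
  have e1 : (ρ π₀).toHom = fr κ A := eq_fr κ A _ (by rw [hκ]; exact (isFrob_iff _ _).1 hπ)
  have e2 : ρ π₀ = EndAV.End.of (fr κ A) := EndAV.End.ext e1
  have e3 : K511.HT.bcEnd f A (ρ π₀ ^ m) = EndAV.End.of (fr K E) := by
    apply EndAV.End.ext
    rw [e2]
    change (Over.pullback f).map (EndAV.End.of (fr κ A) ^ m).toHom = fr K E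
    rw [pow_of_fr, ← hf1]
    exact map_frp κ K A
  have e4 : θ ϖ ^ Module.finrank k K = EndAV.End.of (fr K E) := by
    rw [hf2, ← map_pow, ← hpow, ← e3]
    change K511.HT.bcEnd f A (ρ (π₀ ^ m)) = _
    rw [map_pow ρ]
  obtain ⟨B, i1, i2, i3, i4, hB, hB2⟩ := K515.HTEnd.main k K E g hdim (θ ϖ) e4
  obtain ⟨ρ', hρ'⟩ := exists_adjoin_hom ϖ (EndAV.End.of (fr k B)) (fun P hP => by
    have h5 := Polynomial.hom_eval₂ P (Int.castRingHom (𝓞 L)) θ ϖ
    rw [hP, map_zero, RingHom.ext_int (θ.comp (Int.castRingHom (𝓞 L))) (Int.castRingHom (EndAV.End E))] at h5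
    have h6 := hB2 P (by
      rw [Polynomial.aeval_def, RingHom.ext_int (algebraMap ℤ (EndAV.End E)) (Int.castRingHom (EndAV.End E))]
      exact h5.symm)
    rw [Polynomial.aeval_def, RingHom.ext_int (algebraMap ℤ (EndAV.End B)) (Int.castRingHom (EndAV.End B))] at h6
    exact h6)
  refine ⟨B, i1, i2, i3, i4, g, hB, hg2, ρ', ?_⟩
  rw [hρ', isFrob_iff, ← hk]
  exact isFrob_fr k B

end K515.HTE
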