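import Groth.Agent.AbVar.K519.PadicDet
import Mathlib.Algebra.Module.LocalizedModule.Submodule
import Mathlib.RingTheory.Localization.BaseChange
import Mathlib.RingTheory.LocalProperties.Projective
import Mathlib.LinearAlgebra.Dimension.Localization

/-!
# Lattices in subspaces of `ℚ_l ⊗ T`
-/

set_option autoImplicit false

open scoped TensorProduct nonZeroDivisors
open Module

namespace K515.Lattice

variable {l : ℕ} [hl : Fact l.Prime] {T : Type*} [AddCommGroup T] [Module ℤ_[l] T]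

/-- The lattice of `T` in a subspace. -/
noncomputable def lat (W : Submodule ℚ_[l] (ℚ_[l] ⊗[ℤ_[l]] T)) : Submodule ℤ_[l] T :=
  (W.restrictScalars ℤ_[l]).comap (TensorProduct.mk ℤ_[l] ℚ_[l] T 1)

theorem mem_lat {W : Submodule ℚ_[l] (ℚ_[l] ⊗[ℤ_[l]] T)} {t : T} :
    t ∈ lat W ↔ (1 : ℚ_[l]) ⊗ₜ[ℤ_[l]] t ∈ W := Iff.rfl

theorem localized_lat (W : Submodule ℚ_[l] (ℚ_[l] ⊗[ℤ_[l]] T)) :
    (lat W).localized' ℚ_[l] (ℤ_[l])⁰ (TensorProduct.mk ℤ_[l] ℚ_[l] T 1) = W :=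
  (Submodule.localized'gi ℚ_[l] (ℤ_[l])⁰ (TensorProduct.mk ℤ_[l] ℚ_[l] T 1)).l_u_eq W

theorem span_lat (W : Submodule ℚ_[l] (ℚ_[l] ⊗[ℤ_[l]] T)) :
    Submodule.span ℚ_[l] ((fun t => (1 : ℚ_[l]) ⊗ₜ[ℤ_[l]] t) '' (lat W : Set T)) = W := by
  conv_rhs => rw [← localized_lat W]
  rw [Submodule.localized'_eq_span]
  rfl

variable [Module.Free ℤ_[l] T] [Module.Finite ℤ_[l] T]

theorem finrank_lat (W : Submodule ℚ_[l] (ℚ_[l] ⊗[ℤ_[l]] T)) :
    finrank ℤ_[l] (lat W) = finrank ℚ_[l] W := by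
  have h := Module.finrank_of_isLocalizedModule_of_free ℚ_[l] (ℤ_[l])⁰
    ((lat W).toLocalized' ℚ_[l] (ℤ_[l])⁰ (TensorProduct.mk ℤ_[l] ℚ_[l] T 1))
  rw [localized_lat] at h
  exact h.symm

theorem smul_mem_lat {W : Submodule ℚ_[l] (ℚ_[l] ⊗[ℤ_[l]] T)} {t : T} {a : ℤ_[l]} (ha : a ≠ 0) :
    a • t ∈ lat W ↔ t ∈ lat W := by
  refine ⟨fun h => ?_, fun h => (lat W).smul_mem a h⟩
  rw [mem_lat, TensorProduct.tmul_smul, ← algebraMap_smul ℚ_[l]] at h
  have h1 : algebraMap ℤ_[l] ℚ_[l] a ≠ 0 := by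
    rw [Ne, FaithfulSMul.algebraMap_eq_zero_iff]
    exact ha
  exact (W.smul_mem_iff h1).mp h

/-- The number of classes of the lattice modulo `l^n`. -/
theorem card_image {G : Type*} [AddCommGroup G] (φ : T →+ G) (n : ℕ)
    (hφ : ∀ t, φ t = 0 ↔ ∃ s, t = (l ^ n) • s) (W : Submodule ℚ_[l] (ℚ_[l] ⊗[ℤ_[l]] T)) :
    Nat.card (φ '' (lat W : Set T) : Set G) = (l ^ n) ^ finrank ℚ_[l] W := by
  have hln : ((l : ℤ_[l]) ^ n) ≠ 0 := pow_ne_zero n (by
    exact_mod_cast hl.out.ne_zero)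
  let f : lat W →ₗ[ℤ_[l]] lat W := ((l : ℤ_[l]) ^ n) • LinearMap.id
  have hf : Function.Injective f := by
    intro a b hab
    exact smul_right_injective _ hln hab
  let b := Module.finBasis ℤ_[l] (lat W)
  have h1 := K519.PadicDet.card_quotient_range b b f hf
  have h2 : (LinearMap.toMatrix b b f).det.valuation = n * finrank ℚ_[l] W := by
    rw [LinearMap.det_toMatrix, LinearMap.det_smul, LinearMap.det_id, mul_one, finrank_lat,
      ← pow_mul, PadicInt.valuation_pow, PadicInt.valuation_p, mul_one]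
  rw [h2, pow_mul] at h1
  rw [← h1]
  let ψ : lat W →+ G := φ.comp (lat W).subtype.toAddMonoidHom
  have hker : ψ.ker = (LinearMap.range f).toAddSubgroup := by
    ext ⟨t, ht⟩
    rw [AddMonoidHom.mem_ker]
    change φ t = 0 ↔ _
    rw [hφ]
    constructor
    · rintro ⟨s, rfl⟩
      have hs : s ∈ lat W := by
        rw [← smul_mem_lat hln, ← Nat.cast_pow, Nat.cast_smul_eq_nsmul]
        exact ht
      refine ⟨⟨s, hs⟩, Subtype.ext ?_⟩
      change ((l : ℤ_[l]) ^ n) • s = _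
      rw [← Nat.cast_pow, Nat.cast_smul_eq_nsmul]
    · rintro ⟨⟨s, hs⟩, h⟩
      refine ⟨s, ?_⟩
      have h3 := congrArg Subtype.val h
      change ((l : ℤ_[l]) ^ n) • s = t at h3
      rw [← h3, ← Nat.cast_pow, Nat.cast_smul_eq_nsmul]
  have h3 : (φ '' (lat W : Set T) : Set G) = (ψ.range : Set G) := by
    ext x
    constructor
    · rintro ⟨t, ht, rfl⟩
      exact ⟨⟨t, ht⟩, rfl⟩
    · rintro ⟨⟨t, ht⟩, rfl⟩
      exact ⟨t, ht, rfl⟩
  rw [h3]
  refine Nat.card_congr ((QuotientAddGroup.quotientKerEquivRange ψ).symm.toEquiv.trans ?_)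
  exact (QuotientAddGroup.quotientAddEquivOfEq hker).toEquiv

end K515.Lattice
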