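import Groth.Agent.AbVar.K515.TateForm
import Groth.Agent.AbVar.K515.Lattice
import Groth.Agent.AbVar.K520.TateFin

/-!
# The Tate module is free of rank `2g`; the Galois action
-/

set_option autoImplicit false
universe u

open CategoryTheory CategoryTheory.Limits MonoidalCategory CartesianMonoidalCategory
  AlgebraicGeometry MonObj
open K515.Bc K515.TateForm K515.Lattice
open AbDual
open scoped TensorProduct

noncomputable section

namespace K515.TateRank

section

variable {k : Type u} [Field k] {Ω : Type u} [Field Ω] [Algebra k Ω]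
  {X : Over (Spec (CommRingCat.of k))} [GrpObj X] [IsCommMonObj X] {l : ℕ} [hl : Fact l.Prime]

/-- The Galois action on the Tate module. -/
def galT (σ : Ω ≃ₐ[k] Ω) (X : Over (Spec (CommRingCat.of k))) [GrpObj X] [IsCommMonObj X]
    (l : ℕ) [hl : Fact l.Prime] :
    TateMod X l (SGA7.pt Ω) →ₗ[ℤ_[l]] TateMod X l (SGA7.pt Ω) where
  toFun x := ⟨fun n => Additive.ofMul (SGA7.galAct σ (c n x)),
    ⟨fun n => by
      apply Additive.toMul.injective
      change SGA7.galAct σ (c n x) ^ (l ^ n) = 1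
      rw [← TateE.galAct_pow, c_pow]
      exact MonObj.comp_one (M := X) (SGA7.specAut σ),
     fun n => by
      apply Additive.toMul.injective
      change SGA7.galAct σ (c (n + 1) x) ^ l = SGA7.galAct σ (c n x)
      rw [← TateE.galAct_pow, c_succ]⟩⟩
  map_add' x y := TateMod.ext fun n => by
    apply Additive.toMul.injective
    exact MonObj.comp_mul (SGA7.specAut σ) (c n x) (c n y)
  map_smul' a x := TateMod.ext fun n => by
    apply Additive.toMul.injective
    change SGA7.galAct σ (c n x ^ (a.appr n)) = SGA7.galAct σ (c n x) ^ (a.appr n)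
    exact TateE.galAct_pow _ _ _

lemma c_galT (σ : Ω ≃ₐ[k] Ω) (x : TateMod X l (SGA7.pt Ω)) (n : ℕ) :
    c n (galT σ X l x) = SGA7.galAct σ (c n x) := rfl

lemma tateMap_galT {Y : Over (Spec (CommRingCat.of k))} [GrpObj Y] [IsCommMonObj Y] (f : X ⟶ Y)
    [IsMonHom f] (σ : Ω ≃ₐ[k] Ω) (x : TateMod X l (SGA7.pt Ω)) :
    tateMapₗ f (galT σ X l x) = galT σ Y l (tateMapₗ f x) := TateMod.ext fun n => by
  apply Additive.toMul.injective
  change (SGA7.specAut σ ≫ c n x) ≫ f = SGA7.specAut σ ≫ c n x ≫ f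
  exact Category.assoc _ _ _

lemma eq_galT {ρ : (Ω ≃ₐ[k] Ω) → Module.End ℤ_[l] (TateMod X l (SGA7.pt Ω))}
    (hρ : ∀ (τ : Ω ≃ₐ[k] Ω) (z : TateMod X l (SGA7.pt Ω)) (m : ℕ),
      (TateMod.component X l (SGA7.pt Ω) m (ρ τ z)).toMul =
        SGA7.galAct τ (TateMod.component X l (SGA7.pt Ω) m z).toMul) (τ : Ω ≃ₐ[k] Ω) :
    ρ τ = galT τ X l := LinearMap.ext fun z => TateMod.ext fun m => by
  apply Additive.toMul.injective
  exact hρ τ z m

lemma galT_inv (σ : Ω ≃ₐ[k] Ω) (x : TateMod X l (SGA7.pt Ω)) :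
    galT σ⁻¹ X l (galT σ X l x) = x := TateMod.ext fun n => by
  apply Additive.toMul.injective
  exact TateE.galAct_inv σ _

lemma galT_inv' (σ : Ω ≃ₐ[k] Ω) (x : TateMod X l (SGA7.pt Ω)) :
    galT σ X l (galT σ⁻¹ X l x) = x := by
  have := galT_inv σ⁻¹ x
  rwa [inv_inv] at this

end

variable {k : Type u} [Field k] (Ω : Type u) [Field Ω] [Algebra k Ω] [IsAlgClosed Ω]
  (X : Over (Spec (CommRingCat.of k))) [GrpObj X] [IsCommMonObj X] [IsProper X.hom]
  [GeometricallyIntegral X.hom] (l : ℕ) [hl : Fact l.Prime]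

theorem finite (hlk : (l : k) ≠ 0) : Module.Finite ℤ_[l] (TateMod X l (SGA7.pt Ω)) :=
  K520.TateFin.finite_tateMod Ω X l hlk

theorem free (hlk : (l : k) ≠ 0) : Module.Free ℤ_[l] (TateMod X l (SGA7.pt Ω)) := by
  have := finite Ω X l hlk
  have : Module.IsTorsionFree ℤ_[l] (TateMod X l (SGA7.pt Ω)) := by
    rw [Module.isTorsionFree_iff_smul_eq_zero]
    intro a x h
    by_contra hcon
    push Not at hcon
    exact hcon.2 (K519.Tate.eq_zero_of_smul_eq_zero a hcon.1 x h)
  infer_instance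

/-- **The rank of the Tate module is `2g`.** -/
theorem finrank_eq (hlk : (l : k) ≠ 0) (g : ℕ) (hg : topologicalKrullDim X.left = g) :
    Module.finrank ℤ_[l] (TateMod X l (SGA7.pt Ω)) = 2 * g := by
  have h1 := finite Ω X l hlk
  have h2 := free Ω X l hlk
  have hlΩ : (l : Ω) ≠ 0 := fun h0 => hlk ((algebraMap k Ω).injective (by
    rw [map_natCast, map_zero, h0]))
  have h3 := card_image (TateMod.component X l (SGA7.pt Ω) 1) 1 (fun t => by
      rw [← K519.Tate.apply_eq_zero_iff]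
      rfl) ⊤
  have h4 : Module.finrank ℚ_[l] (⊤ : Submodule ℚ_[l] (ℚ_[l] ⊗[ℤ_[l]] TateMod X l (SGA7.pt Ω))) =
      Module.finrank ℤ_[l] (TateMod X l (SGA7.pt Ω)) := by
    rw [finrank_top, Module.finrank_baseChange]
  rw [h4, pow_one] at h3
  have h5 : Nat.card {x : SGA7.Pts Ω X // x ^ l = 1} = l ^ (2 * g) := by
    rw [← Groth.Agent.Sga7.H761.BaseChg.card_torsion_bc Ω X l]
    exact K515.Geo.card_torsion (A := bc Ω X) g ((dim_bc Ω X).trans hg) l hlΩ
  have h6 : Nat.card ((TateMod.component X l (SGA7.pt Ω) 1) '' (lat (⊤ : Submodule ℚ_[l]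
      (ℚ_[l] ⊗[ℤ_[l]] TateMod X l (SGA7.pt Ω))) : Set (TateMod X l (SGA7.pt Ω))) :
        Set (Additive (SGA7.pt Ω ⟶ X))) =
      Nat.card {x : SGA7.Pts Ω X // x ^ l = 1} := by
    refine Nat.card_congr (Equiv.subtypeEquiv Additive.ofMul.symm fun x => ?_)
    constructor
    · rintro ⟨t, -, rfl⟩
      have h7 := c_pow 1 t
      rwa [pow_one] at h7
    · intro hx
      obtain ⟨t, ht⟩ := K519.Tate.exists_apply_eq (l := l) (A := X) (T := SGA7.pt Ω)
        (fun y => Groth.Agent.Sga7.H734.Divis.exists_pow_eq X l hlk y) 1 (Additive.toMul x) (by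
          rw [pow_one]; exact hx)
      exact ⟨t, trivial, ht⟩
  rw [h6, h5] at h3
  exact (Nat.pow_right_injective hl.out.two_le h3).symm

end K515.TateRank
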