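import Groth.Agent.AbVar.K515.HTPts
import Groth.Agent.AbVar.K515.TateRank
import Groth.Agent.AbVar.K520.Quot
import Groth.Agent.AbVar.K517.Img

/-!
# The abelian variety over `k` attached to an `n`-th root of the Frobenius over an extension of degree `n`

`K515.HTEnd.main`: `L/k` finite fields, `n = [L : k]`, `E/L` an abelian variety and `ω` an endomorphism of `E` with
`ω ^ n = Frob_E`: there is an abelian variety `B/k` with `dim B = dim E` whose Frobenius satisfies every integral
polynomial which `ω` satisfies.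
-/

set_option autoImplicit false
universe u

open CategoryTheory CategoryTheory.Limits AlgebraicGeometry MonoidalCategory CartesianMonoidalCategory MonObj

namespace K515.HTEnd

open K491.GalWeil K520.Frob K515.HTRes K515.HTPts

section card

open K515.Bc

/-- The number of `l`-torsion points with values in an algebraically closed field. -/
theorem card_pts {k : Type u} [Field k] (Ω : Type u) [Field Ω] [IsAlgClosed Ω]
    (s : Spec (CommRingCat.of Ω) ⟶ Spec (CommRingCat.of k)) (X : Over (Spec (CommRingCat.of k)))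
    [GrpObj X] [IsCommMonObj X] [IsProper X.hom] [GeometricallyIntegral X.hom] (l : ℕ) (hlk : (l : k) ≠ 0) (g : ℕ)
    (hg : topologicalKrullDim X.left = g) : Nat.card {x : Over.mk s ⟶ X // x ^ l = 1} = l ^ (2 * g) := by
  let _ : Algebra k Ω := (Spec.preimage s).hom.toAlgebra
  have hs : s = Spec.map (CommRingCat.ofHom (algebraMap k Ω)) := (Spec.map_preimage s).symm
  have hlΩ : (l : Ω) ≠ 0 := fun h0 => hlk ((algebraMap k Ω).injective (by
    rw [map_natCast, map_zero, h0]))
  rw [hs]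
  have h5 : Nat.card {x : SGA7.Pts Ω X // x ^ l = 1} = l ^ (2 * g) := by
    rw [← Groth.Agent.Sga7.H761.BaseChg.card_torsion_bc Ω X l]
    exact K515.Geo.card_torsion (A := K515.Bc.bc Ω X) g ((K515.Bc.dim_bc Ω X).trans hg) l hlΩ
  exact h5

/-- Two abelian varieties over fields whose points are isomorphic groups have the same dimension. -/
theorem dim_eq_of_bijective {k L : Type u} [Field k] [Field L] [Finite k] [Algebra k L] (Ω : Type u) [Field Ω]
    [IsAlgClosed Ω]
    (s : Spec (CommRingCat.of Ω) ⟶ Spec (CommRingCat.of k)) (t : Spec (CommRingCat.of Ω) ⟶ Spec (CommRingCat.of L))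
    (X : Over (Spec (CommRingCat.of k))) (Y : Over (Spec (CommRingCat.of L)))
    [GrpObj X] [IsCommMonObj X] [IsProper X.hom] [GeometricallyIntegral X.hom]
    [GrpObj Y] [IsCommMonObj Y] [IsProper Y.hom] [GeometricallyIntegral Y.hom]
    (b : (Over.mk s ⟶ X) →* (Over.mk t ⟶ Y)) (hb : Function.Bijective b) :
    topologicalKrullDim X.left = topologicalKrullDim Y.left := by
  obtain ⟨c, hc⟩ := K517.Img.exists_dim X
  obtain ⟨g, hg⟩ := K517.Img.exists_dim Y
  obtain ⟨l, hl, hlk⟩ : ∃ l : ℕ, l.Prime ∧ (l : k) ≠ 0 := by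
    obtain ⟨p, hp⟩ := CharP.exists k
    obtain ⟨l, hl1, hl2⟩ := Nat.exists_infinite_primes (p + 1)
    refine ⟨l, hl2, fun h0 => ?_⟩
    have h1 := (CharP.cast_eq_zero_iff k p l).1 h0
    rcases (Nat.dvd_prime hl2).1 h1 with h2 | h2
    · subst h2
      have := CharP.cast_eq_zero_iff k 1 1
      rw [Nat.cast_one] at this
      exact one_ne_zero (this.2 dvd_rfl)
    · omega
  have hlL : (l : L) ≠ 0 := fun h0 => hlk ((algebraMap k L).injective (by
    rw [map_natCast, map_zero, h0]))
  have h1 := card_pts Ω s X l hlk c hc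
  have h2 := card_pts Ω t Y l hlL g hg
  have h3 : Nat.card {x : Over.mk s ⟶ X // x ^ l = 1} = Nat.card {x : Over.mk t ⟶ Y // x ^ l = 1} := by
    refine Nat.card_congr (Equiv.subtypeEquiv (Equiv.ofBijective b hb) fun x => ?_)
    change x ^ l = 1 ↔ (b x) ^ l = 1
    rw [← map_pow]
    constructor
    · intro h
      rw [h, map_one]
    · intro h
      exact hb.1 (h.trans (map_one b).symm)
  rw [h1, h2] at h3
  have h4 := Nat.pow_right_injective hl.two_le h3
  have h5 : c = g := by omega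
  rw [hc, hg, h5]

end card

variable {k L : Type u} [Field k] [Finite k] [Field L] [Finite L] [Algebra k L]
  {E : Over (Spec (CommRingCat.of L))} {R : Over (Spec (CommRingCat.of k))} {q : Red.bc (ext k L) R ⟶ E}
  [GrpObj E] [GrpObj R] [IsMonHom q] [IsCommMonObj E] [IsCommMonObj R]

/-- The Frobenius as an endomorphism. -/
noncomputable abbrev Fr (k : Type u) [Field k] [Finite k] (X : Over (Spec (CommRingCat.of k))) [GrpObj X]
    [IsCommMonObj X] : EndAV.End X := EndAV.End.of (fr k X)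

omit [IsCommMonObj E] in
theorem commute_fr (φ : EndAV.End R) : Commute (Fr k R) φ :=
  EndAV.End.ext (fr_comm k φ.toHom).symm

/-- The geometric sum. -/
noncomputable def usum (h : WeilRes.IsWeilRes (ext k L) E R q) (ω : EndAV.End E) : EndAV.End R :=
  ∑ j ∈ Finset.range (Module.finrank k L), Fr k R ^ j * resHom h ω ^ (Module.finrank k L - 1 - j)

theorem fr_mul_usum (h : WeilRes.IsWeilRes (ext k L) E R q) (ω : EndAV.End E)
    (hω : ω ^ Module.finrank k L = Fr L E) : Fr k R * usum h ω = resHom h ω * usum h ω := by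
  have h1 : (Fr k R - resHom h ω) * usum h ω = Fr k R ^ Module.finrank k L - resHom h ω ^ Module.finrank k L :=
    (commute_fr (resHom h ω)).mul_geom_sum₂ _
  have h2 : Fr k R ^ Module.finrank k L = resHom h (Fr L E) := fr_pow_eq k L h
  rw [h2, ← map_pow, hω, sub_self, sub_mul, sub_eq_zero] at h1
  exact h1

section image

variable (h : WeilRes.IsWeilRes (ext k L) E R q) (ω : EndAV.End E)
  {C : Over (Spec (CommRingCat.of k))} [GrpObj C] [IsCommMonObj C] [IsProper R.hom] [IsSeparated C.hom]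
  (p : EndAV.Hom R C) (i : EndAV.Hom C R) (hpi : p ≫ i = usum h ω) [Flat p.toHom.left] [Surjective p.toHom.left]

/-- On the image the Frobenius is the restriction of `ω`. -/
theorem comp_fr (hpi : p ≫ i = usum h ω) (hω : ω ^ Module.finrank k L = Fr L E) :
    i.toHom ≫ fr k R = i.toHom ≫ (resHom h ω).toHom := by
  refine K520.Quot.cancel_left p.toHom ?_
  have h1 := congrArg EndAV.End.toHom (fr_mul_usum h ω hω)
  rw [← hpi] at h1
  rw [← Category.assoc, ← Category.assoc]
  exact h1

theorem aeval_eq_zero (hpi : p ≫ i = usum h ω) (hω : ω ^ Module.finrank k L = Fr L E) [IsClosedImmersion i.toHom.left]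
    (P : Polynomial ℤ) (hP : Polynomial.aeval ω P = 0) : Polynomial.aeval (Fr k C) P = 0 := by
  have h1 : i.toHom ≫ fr k R = i.toHom ≫ (resHom h ω).toHom := comp_fr h ω p i hpi hω
  have h2 : ((Fr k C : CategoryTheory.End (CommGrp.mk C)) : CommGrp.mk C ⟶ CommGrp.mk C) ≫ i =
      i ≫ (resHom h ω : CommGrp.mk R ⟶ CommGrp.mk R) := by
    apply EndAV.Hom.ext
    exact (fr_comm k i.toHom).trans h1
  have h3 := eval₂_mul_comp i (Fr k C) (resHom h ω) h2 P
  have h4 : Polynomial.eval₂ (Int.castRingHom (EndAV.End R)) (resHom h ω) P = 0 := by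
    have h5 : resHom h (Polynomial.eval₂ (Int.castRingHom (EndAV.End E)) ω P) =
        Polynomial.eval₂ (Int.castRingHom (EndAV.End R)) (resHom h ω) P := by
      rw [Polynomial.hom_eval₂]
      congr 1
      exact RingHom.ext_int _ _
    have h6 : Polynomial.eval₂ (Int.castRingHom (EndAV.End E)) ω P = 0 := by
      rw [← hP, Polynomial.aeval_def]
      congr 1
      exact RingHom.ext_int _ _
    rw [← h5, h6, map_zero]
  have h7 : Polynomial.eval₂ (Int.castRingHom (EndAV.End C)) (Fr k C) P = 0 := by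
    refine K520.Quot.cancel_right_hom i (h3.trans ?_)
    rw [h4]
    exact comp_zero.trans zero_comp.symm
  rw [← h7, Polynomial.aeval_def]
  congr 1
  exact RingHom.ext_int _ _

end image

section points

variable {Ω : Type u} [Field Ω] [IsAlgClosed Ω] (t : Spec (CommRingCat.of Ω) ⟶ Spec (CommRingCat.of L))

/-- The Frobenius of the spectrum of an algebraically closed field is an isomorphism. -/
theorem isIso_frp (s : Spec (CommRingCat.of Ω) ⟶ Spec (CommRingCat.of k)) (j : ℕ) :
    IsIso (frp k (Over.mk s) j).left :=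
  isIso_of_isFrob (pow_pos Nat.card_pos j) _ (isFrob_frp k (Over.mk s) j)

omit [IsAlgClosed Ω] [Finite k] [Finite L] in
theorem one_left (σ : L ≃ₐ[k] L) :
    (1 : (Over.map (conj σ)).obj (Over.mk t) ⟶ E).left = (t ≫ conj σ) ≫ (η[E] : 𝟙_ (Over (Spec (CommRingCat.of L))) ⟶ E).left :=
  rfl

omit [IsAlgClosed Ω] in
/-- The Frobenius translates of the trivial component. -/
theorem frp_one (σ : L ≃ₐ[k] L) (j : ℕ) (hσ : tau k L ^ j * σ = 1) :
    (frp k ((Over.map (ext k L)).obj (Over.mk t)) j).left ≫ (1 : (Over.map (conj σ)).obj (Over.mk t) ⟶ E).left =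
      (1 : (Over.map (conj (1 : L ≃ₐ[k] L))).obj (Over.mk t) ⟶ E).left := by
  rw [one_left, one_left, ← Category.assoc, ← Category.assoc]
  congr 1
  have h1 := frp_hom (k := k) (Over.mk t) j
  refine (congrArg (fun z => z ≫ conj σ) h1).trans ?_
  change (t ≫ conj (tau k L ^ j)) ≫ conj σ = _
  rw [Category.assoc, conj_comp, hσ]

/-- The evaluation of the endomorphisms at a point. -/
noncomputable def ev (x : (Over.map (ext k L)).obj (Over.mk t) ⟶ R) (q : Red.bc (ext k L) R ⟶ E) [IsMonHom q] :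
    EndAV.End R →+ Additive ((Over.map (conj (1 : L ≃ₐ[k] L))).obj (Over.mk t) ⟶ E) where
  toFun φ := Additive.ofMul (cmp q 1 (x ≫ φ.toHom))
  map_zero' := by
    apply Additive.toMul.injective
    change cmp q 1 (x ≫ 1) = 1
    rw [MonObj.comp_one, cmp_one]
  map_add' φ ψ := by
    apply Additive.toMul.injective
    change cmp q 1 (x ≫ (φ.toHom * ψ.toHom)) = cmp q 1 (x ≫ φ.toHom) * cmp q 1 (x ≫ ψ.toHom)
    rw [MonObj.comp_mul, cmp_mul]

omit [IsAlgClosed Ω] in
theorem cmp_usum (h : WeilRes.IsWeilRes (ext k L) E R q) (ω : EndAV.End E)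
    (x : (Over.map (ext k L)).obj (Over.mk t) ⟶ R) (hx : ∀ σ : L ≃ₐ[k] L, σ ≠ 1 → cmp q σ x = 1) :
    cmp q 1 (x ≫ (usum h ω).toHom) = cmp q 1 x ≫ (ω ^ (Module.finrank k L - 1)).toHom := by
  have h0 : ∀ j m : ℕ, cmp q 1 (x ≫ (Fr k R ^ j * resHom h ω ^ m).toHom) =
      cmp q 1 (x ≫ frp k R j) ≫ (ω ^ m).toHom := by
    intro j m
    rw [((commute_fr (resHom h ω)).pow_pow j m).eq, ← map_pow, ← pow_of_fr]
    have h1 : x ≫ (resHom h (ω ^ m) * Fr k R ^ j).toHom =
        (x ≫ (Fr k R ^ j).toHom) ≫ (resHom h (ω ^ m)).toHom := (Category.assoc _ _ _).symm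
    rw [h1, cmp_resHom]
  have h1 : ev t x q (usum h ω) = ev t x q (Fr k R ^ 0 * resHom h ω ^ (Module.finrank k L - 1 - 0)) := by
    rw [usum, map_sum]
    refine Finset.sum_eq_single_of_mem 0 (Finset.mem_range.2 Module.finrank_pos) fun j hj hj0 => ?_
    apply Additive.toMul.injective
    change cmp q 1 (x ≫ (Fr k R ^ j * resHom h ω ^ (Module.finrank k L - 1 - j)).toHom) = 1
    rw [h0]
    have h2 : cmp q 1 (x ≫ frp k R j) = 1 := by
      apply Over.OverMorphism.ext
      rw [cmp_frp, hx _ (by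
        rw [_root_.mul_one, ne_eq, inv_eq_one]
        exact tau_pow_ne_one (Nat.pos_of_ne_zero hj0) (Finset.mem_range.1 hj))]
      exact frp_one t _ j (mul_inv_cancel_left _ _)
    rw [h2, MonObj.one_comp]
  have h2 := congrArg Additive.toMul h1
  refine h2.trans ((h0 0 _).trans ?_)
  change cmp q 1 (x ≫ 𝟙 R) ≫ _ = _
  rw [Category.comp_id, Nat.sub_zero]

/-- Every automorphism is a power of the Frobenius. -/
theorem exists_tau_pow (σ : L ≃ₐ[k] L) : ∃ j : ℕ, (tau k L ^ j)⁻¹ = σ := by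
  let _ := Fintype.ofFinite k
  obtain ⟨j, hj⟩ := (FiniteField.bijective_frobeniusAlgEquivOfAlgebraic_pow k L).2 σ⁻¹
  refine ⟨j, ?_⟩
  rw [inv_eq_iff_eq_inv, ← hj]
  rfl

section bij

variable (h : WeilRes.IsWeilRes (ext k L) E R q) (ω : EndAV.End E)
  {C : Over (Spec (CommRingCat.of k))} [GrpObj C] [IsCommMonObj C] [IsProper R.hom] [IsSeparated C.hom]
  (p : EndAV.Hom R C) (i : EndAV.Hom C R) [Flat p.toHom.left] [Surjective p.toHom.left]

/-- The comparison of points. -/
noncomputable def cmpC (q : Red.bc (ext k L) R ⟶ E) [IsMonHom q] (i : EndAV.Hom C R) :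
    ((Over.map (ext k L)).obj (Over.mk t) ⟶ C) →*
      ((Over.map (conj (1 : L ≃ₐ[k] L))).obj (Over.mk t) ⟶ E) where
  toFun x := cmp q 1 (x ≫ i.toHom)
  map_one' := by rw [MonObj.one_comp, cmp_one]
  map_mul' x y := by rw [MonObj.mul_comp, cmp_mul]

theorem comp_fr_pow (hpi : p ≫ i = usum h ω) (hω : ω ^ Module.finrank k L = Fr L E) (j : ℕ) :
    i.toHom ≫ frp k R j = i.toHom ≫ (resHom h (ω ^ j)).toHom := by
  induction j with
  | zero =>
    rw [pow_zero, map_one]
    rfl
  | succ j ih =>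
    have h1 : (resHom h (ω ^ (j + 1))).toHom = (resHom h (ω ^ j)).toHom ≫ (resHom h ω).toHom := by
      rw [pow_succ', map_mul]
      rfl
    have h2 : i.toHom ≫ frp k R (j + 1) = (i.toHom ≫ frp k R j) ≫ fr k R := (Category.assoc _ _ _).symm
    rw [h2, ih, Category.assoc, ← fr_comm, ← Category.assoc, comp_fr h ω p i hpi hω, h1, Category.assoc]
    have h3 : (resHom h ω).toHom ≫ (resHom h (ω ^ j)).toHom = (resHom h (ω ^ j)).toHom ≫ (resHom h ω).toHom := by
      have h4 : resHom h (ω ^ j) * resHom h ω = resHom h ω * resHom h (ω ^ j) := by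
        rw [← map_mul, ← map_mul, ← pow_succ, ← pow_succ']
      exact congrArg EndAV.End.toHom h4
    rw [h3]

theorem injective_cmpC (hpi : p ≫ i = usum h ω) (hω : ω ^ Module.finrank k L = Fr L E) [IsClosedImmersion i.toHom.left] :
    Function.Injective (cmpC t q i) := by
  rw [injective_iff_map_eq_one]
  intro x hx
  have h1 : x ≫ i.toHom = 1 := by
    refine (bijective_cmp q h (Over.mk t)).1 (funext fun σ => ?_)
    obtain ⟨j, hj⟩ := exists_tau_pow σ
    change cmp q σ (x ≫ i.toHom) = cmp q σ 1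
    rw [cmp_one]
    have h2 : cmp q 1 ((x ≫ i.toHom) ≫ frp k R j) = 1 := by
      rw [Category.assoc, comp_fr_pow h ω p i hpi hω, ← Category.assoc, cmp_resHom]
      have h3 : cmp q 1 (x ≫ i.toHom) = 1 := hx
      rw [h3, MonObj.one_comp]
    have h4 := congrArg (fun z => z.left) h2
    have h5 := cmp_frp q 1 (x ≫ i.toHom) j
    rw [_root_.mul_one, hj] at h5
    have h6 := isIso_frp (k := k) (t ≫ ext k L) j
    apply Over.OverMorphism.ext
    refine (cancel_epi (frp k (Over.mk (t ≫ ext k L)) j).left).1 ?_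
    refine h5.symm.trans (h4.trans ?_)
    exact (frp_one t σ j (by rw [← hj, mul_inv_cancel])).symm
  refine K520.Quot.cancel_right i.toHom ?_
  rw [h1, MonObj.one_comp]

theorem surjective_cmpC (hpi : p ≫ i = usum h ω) (hω : ω ^ Module.finrank k L = Fr L E) :
    Function.Surjective (cmpC t q i) := by
  intro y
  have h1 : IsIso (fr L ((Over.map (conj (1 : L ≃ₐ[k] L))).obj (Over.mk t))).left :=
    isIso_of_isFrob Nat.card_pos _ (isFrob_fr L (Over.mk (t ≫ conj (1 : L ≃ₐ[k] L))))
  have h1' : IsIso ((Over.forget _).map (fr L ((Over.map (conj (1 : L ≃ₐ[k] L))).obj (Over.mk t)))) := h1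
  have h2 : IsIso (fr L ((Over.map (conj (1 : L ≃ₐ[k] L))).obj (Over.mk t))) :=
    isIso_of_reflects_iso _ (Over.forget _)
  classical
  obtain ⟨x, hx⟩ := (bijective_cmp q h (Over.mk t)).2
    (Pi.mulSingle (1 : L ≃ₐ[k] L)
      ((inv (fr L ((Over.map (conj (1 : L ≃ₐ[k] L))).obj (Over.mk t))) ≫ y) ≫ ω.toHom))
  refine ⟨x ≫ p.toHom, ?_⟩
  change cmp q 1 ((x ≫ p.toHom) ≫ i.toHom) = y
  have h3 : (x ≫ p.toHom) ≫ i.toHom = x ≫ (usum h ω).toHom := by
    rw [← hpi]
    exact Category.assoc _ _ _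
  rw [h3, cmp_usum t h ω x]
  · have h4 : cmp q 1 x = (inv (fr L ((Over.map (conj (1 : L ≃ₐ[k] L))).obj (Over.mk t))) ≫ y) ≫ ω.toHom :=
      (congrFun hx 1).trans (Pi.mulSingle_eq_same _ _)
    rw [h4, Category.assoc]
    have h5 : ω.toHom ≫ (ω ^ (Module.finrank k L - 1)).toHom = fr L E := by
      have h6 : ω ^ (Module.finrank k L - 1) * ω = Fr L E := by
        rw [← pow_succ, Nat.sub_add_cancel Module.finrank_pos, hω]
      exact congrArg EndAV.End.toHom h6
    rw [h5, Category.assoc, ← fr_comm, IsIso.inv_hom_id_assoc]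
  · intro σ hσ
    refine (congrFun hx σ).trans ?_
    exact Pi.mulSingle_eq_of_ne hσ _

end bij

end points

/-- **Honda–Tate descent.** -/
theorem main (k L : Type u) [Field k] [Finite k] [Field L] [Finite L] [Algebra k L]
    (E : Over (Spec (CommRingCat.of L))) [GrpObj E] [IsCommMonObj E] [IsProper E.hom] [GeometricallyIntegral E.hom]
    (g : ℕ) (hg : topologicalKrullDim E.left = g) (ω : EndAV.End E)
    (hω : ω ^ Module.finrank k L = EndAV.End.of (fr L E)) :
    ∃ (B : Over (Spec (CommRingCat.of k))) (_ : GrpObj B) (_ : IsCommMonObj B) (_ : IsProper B.hom)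
      (_ : GeometricallyIntegral B.hom), topologicalKrullDim B.left = g ∧
      ∀ P : Polynomial ℤ, Polynomial.aeval ω P = 0 → Polynomial.aeval (EndAV.End.of (fr k B)) P = 0 := by
  have : FiniteDimensional k L := Module.Finite.of_finite
  obtain ⟨R, _, _, q, hR1, hR2, hq, h⟩ := exists_weil k L E
  obtain ⟨C, hC1, hC2, hC3, hC4, p, i, hpi, hp1, hp2, -, hi⟩ := K520.Quot.exists_image (usum h ω)
  refine ⟨C, hC1, hC2, hC3, hC4, ?_, fun P hP => aeval_eq_zero h ω p i hpi hω P hP⟩
  rw [← hg]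
  let Ω := AlgebraicClosure L
  let t : Spec (CommRingCat.of Ω) ⟶ Spec (CommRingCat.of L) := Spec.map (CommRingCat.ofHom (algebraMap L Ω))
  exact dim_eq_of_bijective Ω (t ≫ ext k L) (t ≫ conj (1 : L ≃ₐ[k] L)) C E (cmpC t q i)
    ⟨injective_cmpC t h ω p i hpi hω, surjective_cmpC t h ω p i hpi hω⟩

end K515.HTEnd
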