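import Groth.Agent.AbVar.K515.HTRes

/-!
# Components of the points of a Weil restriction and Frobenius
-/

set_option autoImplicit false
universe u

open CategoryTheory CategoryTheory.Limits AlgebraicGeometry MonoidalCategory CartesianMonoidalCategory MonObj

namespace K515.HTPts

open K491.GalWeil K520.Frob K515.HTRes

variable {k L : Type u} [Field k] [Finite k] [Field L] [Finite L] [Algebra k L]

/-- A Frobenius of the spectrum of an algebraically closed field is an isomorphism. -/
theorem isIso_of_isFrob {Q : ℕ} (hQ : 0 < Q) {Ω : Type u} [Field Ω] [IsAlgClosed Ω]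
    (ρ : Spec (CommRingCat.of Ω) ⟶ Spec (CommRingCat.of Ω)) (h : IsFrob Q ρ) : IsIso ρ := by
  have h1 := K522.FixPts.preimage_apply _ ρ h
  have h2 : Function.Bijective (Spec.preimage ρ).hom := by
    refine ⟨(Spec.preimage ρ).hom.injective, fun b => ?_⟩
    obtain ⟨a, ha⟩ := IsAlgClosed.exists_pow_nat_eq b hQ
    exact ⟨a, (h1 a).trans ha⟩
  have h3 : IsIso (Spec.preimage ρ) := (ConcreteCategory.isIso_iff_bijective _).2 h2
  have h4 : IsIso (Spec.map (Spec.preimage ρ)) := inferInstance
  rwa [Spec.map_preimage] at h4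

omit [Finite k] [Finite L] in
theorem conj_comp (σ τ : L ≃ₐ[k] L) : conj σ ≫ conj τ = conj (σ * τ) := by
  rw [conj, conj, conj, ← Spec.map_comp]
  rfl

omit [Finite k] [Finite L] in
theorem conj_one : conj (1 : L ≃ₐ[k] L) = 𝟙 _ := by
  rw [conj]
  exact Spec.map_id _

/-- The Frobenius generator. -/
noncomputable def tau (k L : Type u) [Field k] [Finite k] [Field L] [Finite L] [Algebra k L] : L ≃ₐ[k] L :=
  letI := Fintype.ofFinite k
  FiniteField.frobeniusAlgEquivOfAlgebraic k L

theorem tau_apply (a : L) : tau k L a = a ^ Nat.card k := by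
  let _ := Fintype.ofFinite k
  rw [Nat.card_eq_fintype_card]
  rfl

theorem tau_pow_ne_one {j : ℕ} (h0 : 0 < j) (h1 : j < Module.finrank k L) : tau k L ^ j ≠ 1 := by
  let _ := Fintype.ofFinite k
  have h2 : orderOf (tau k L) = Module.finrank k L := FiniteField.orderOf_frobeniusAlgEquivOfAlgebraic k L
  rw [← h2] at h1
  exact pow_ne_one_of_lt_orderOf h0.ne' h1

theorem frp_spec (j : ℕ) : (frp k (Over.mk (ext k L)) j).left = conj (tau k L ^ j) := by
  induction j with
  | zero =>
    rw [pow_zero, conj_one]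
    rfl
  | succ j ih =>
    have h1 : (fr k (Over.mk (ext k L))).left = conj (tau k L) := by
      have h2 : IsFrob (Nat.card k) (X := Spec (CommRingCat.of L)) (fr k (Over.mk (ext k L))).left :=
        isFrob_fr k (Over.mk (ext k L))
      have h3 := K522.FixPts.preimage_apply (CommRingCat.of L) _ h2
      have h4 : Spec.preimage (fr k (Over.mk (ext k L))).left = CommRingCat.ofHom (tau k L : L →+* L) := by
        ext a
        exact (h3 a).trans (tau_apply a).symm
      rw [conj, ← h4, Spec.map_preimage]
    rw [frp, Over.comp_left, ih, h1, pow_succ]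
    exact conj_comp _ _

theorem frp_hom (T : Over (Spec (CommRingCat.of L))) (j : ℕ) :
    (frp k ((Over.map (ext k L)).obj T) j).left ≫ T.hom = T.hom ≫ conj (tau k L ^ j) := by
  let f : (Over.map (ext k L)).obj T ⟶ Over.mk (ext k L) := Over.homMk T.hom rfl
  have h := congrArg (fun φ => φ.left) (frp_comm k f j)
  rw [← frp_spec]
  exact h

variable {E : Over (Spec (CommRingCat.of L))} {R : Over (Spec (CommRingCat.of k))} (q : Red.bc (ext k L) R ⟶ E)

/-- The components of a point of the Weil restriction. -/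
noncomputable def cmp {T : Over (Spec (CommRingCat.of L))} (σ : L ≃ₐ[k] L) (x : (Over.map (ext k L)).obj T ⟶ R) :
    (Over.map (conj σ)).obj T ⟶ E :=
  sect (conj_ext k L σ) T ≫ WeilRes.restr (ext k L) q _ x

theorem bijective_cmp (h : WeilRes.IsWeilRes (ext k L) E R q) (T : Over (Spec (CommRingCat.of L))) :
    Function.Bijective (fun (x : (Over.map (ext k L)).obj T ⟶ R) (σ : L ≃ₐ[k] L) => cmp q σ x) :=
  (bijective_sect k L T E).comp (h ((Over.map (ext k L)).obj T))

theorem cmp_mul [GrpObj E] [GrpObj R] [IsMonHom q] {T : Over (Spec (CommRingCat.of L))} (σ : L ≃ₐ[k] L)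
    (x y : (Over.map (ext k L)).obj T ⟶ R) : cmp q σ (x * y) = cmp q σ x * cmp q σ y := by
  rw [cmp, WeilRes.restr_mul, MonObj.comp_mul]
  rfl

theorem cmp_one [GrpObj E] [GrpObj R] [IsMonHom q] {T : Over (Spec (CommRingCat.of L))} (σ : L ≃ₐ[k] L) :
    cmp q σ (1 : (Over.map (ext k L)).obj T ⟶ R) = 1 := by
  rw [cmp, WeilRes.restr_one, MonObj.comp_one]

/-- A component as a homomorphism. -/
noncomputable def cmpHom [GrpObj E] [GrpObj R] [IsMonHom q] {T : Over (Spec (CommRingCat.of L))} (σ : L ≃ₐ[k] L) :
    ((Over.map (ext k L)).obj T ⟶ R) →* ((Over.map (conj σ)).obj T ⟶ E) where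
  toFun := cmp q σ
  map_one' := cmp_one q σ
  map_mul' := cmp_mul q σ

theorem cmp_resHom [GrpObj E] [GrpObj R] [IsMonHom q] [IsCommMonObj E] [IsCommMonObj R]
    (h : WeilRes.IsWeilRes (ext k L) E R q) {T : Over (Spec (CommRingCat.of L))} (σ : L ≃ₐ[k] L)
    (x : (Over.map (ext k L)).obj T ⟶ R) (φ : EndAV.End E) :
    cmp q σ (x ≫ (resHom h φ).toHom) = cmp q σ x ≫ φ.toHom := by
  rw [cmp, restr_resHom, ← Category.assoc]
  rfl

/-- Frobenius permutes the components. -/
theorem cmp_frp {T : Over (Spec (CommRingCat.of L))} (σ : L ≃ₐ[k] L) (x : (Over.map (ext k L)).obj T ⟶ R) (j : ℕ) :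
    (cmp q σ (x ≫ frp k R j)).left =
      (frp k ((Over.map (ext k L)).obj T) j).left ≫ (cmp q ((tau k L ^ j)⁻¹ * σ) x).left := by
  have h1 : (sect (conj_ext k L σ) T).left ≫
      ((Over.pullback (ext k L)).map (frp k ((Over.map (ext k L)).obj T) j)).left =
      (frp k ((Over.map (ext k L)).obj T) j).left ≫ (sect (conj_ext k L ((tau k L ^ j)⁻¹ * σ)) T).left := by
    apply pullback.hom_ext
    · have e1 : ((Over.pullback (ext k L)).map (frp k ((Over.map (ext k L)).obj T) j)).left ≫
          pullback.fst ((Over.map (ext k L)).obj T).hom (ext k L) =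
          pullback.fst ((Over.map (ext k L)).obj T).hom (ext k L) ≫ (frp k ((Over.map (ext k L)).obj T) j).left :=
        pullback.lift_fst _ _ _
      rw [Category.assoc]
      refine (congrArg (fun z => (sect (conj_ext k L σ) T).left ≫ z) e1).trans ?_
      have e2 := sect_left_fst (conj_ext k L σ) T
      have e3 := sect_left_fst (conj_ext k L ((tau k L ^ j)⁻¹ * σ)) T
      rw [Category.assoc]
      refine Eq.trans ?_ (congrArg (fun z => (frp k ((Over.map (ext k L)).obj T) j).left ≫ z) e3).symm
      refine Eq.trans ?_ (Category.comp_id _).symm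
      rw [← Category.assoc]
      refine (congrArg (fun z => z ≫ (frp k ((Over.map (ext k L)).obj T) j).left) e2).trans ?_
      exact Category.id_comp _
    · have e1 : ((Over.pullback (ext k L)).map (frp k ((Over.map (ext k L)).obj T) j)).left ≫
          pullback.snd ((Over.map (ext k L)).obj T).hom (ext k L) =
          pullback.snd ((Over.map (ext k L)).obj T).hom (ext k L) := pullback.lift_snd _ _ _
      rw [Category.assoc]
      refine (congrArg (fun z => (sect (conj_ext k L σ) T).left ≫ z) e1).trans ?_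
      have e2 := sect_left_snd (conj_ext k L σ) T
      have e3 := sect_left_snd (conj_ext k L ((tau k L ^ j)⁻¹ * σ)) T
      rw [Category.assoc]
      refine Eq.trans ?_ (congrArg (fun z => (frp k ((Over.map (ext k L)).obj T) j).left ≫ z) e3).symm
      refine e2.trans ?_
      rw [← Category.assoc, frp_hom, Category.assoc, conj_comp, mul_inv_cancel_left]
  rw [← frp_comm, cmp, WeilRes.restr_comp, ← Category.assoc, Over.comp_left, Over.comp_left, h1, cmp,
    Over.comp_left, Category.assoc]

end K515.HTPts
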