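import Groth.Agent.MultTori.K163.WeilAV
import Groth.Agent.AbVar.K520.Frob
import Groth.Agent.AbVar.K522.FixPts
import Mathlib.FieldTheory.Finite.GaloisField

/-!
# Frobenius on the Weil restriction of an abelian variety along an extension of finite fields

* `exists_weil` : the Weil restriction of an abelian variety along a finite Galois extension;
* `resHom` : the induced homomorphism of endomorphism rings;
* `frp` : the iterated Frobenius;
* `frp_pow_eq` : the `n`-th power of the Frobenius of the Weil restriction is the restriction of the Frobenius.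
-/

set_option autoImplicit false
universe u

open CategoryTheory CategoryTheory.Limits AlgebraicGeometry MonoidalCategory CartesianMonoidalCategory MonObj

namespace K515.HTRes

open K491.GalWeil K509.Basic K520.Frob

section weil

variable (K L : Type u) [Field K] [Field L] [Algebra K L] [FiniteDimensional K L] [IsGalois K L]

/-- **Weil restriction of abelian varieties along finite Galois extensions.** -/
theorem exists_weil (E : Over (Spec (CommRingCat.of L))) [GrpObj E] [IsCommMonObj E] [IsProper E.hom]
    [GeometricallyIntegral E.hom] :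
    ∃ (B : Over (Spec (CommRingCat.of K))) (_ : GrpObj B) (_ : IsCommMonObj B) (q : Red.bc (ext K L) B ⟶ E),
      IsProper B.hom ∧ GeometricallyIntegral B.hom ∧ IsMonHom q ∧ WeilRes.IsWeilRes (ext K L) E B q := by
  obtain ⟨R, _, q, hc, hlft, hq, h⟩ := Groth.Agent.AbVar.K509.WeilLft.exists_weil_grp K L E
  obtain ⟨P, hP, hPg, ⟨e⟩⟩ := K163.WeilAV.exists_iso K L h
  have h1 : pullback.snd R.hom (ext K L) = e.hom.left ≫ P.hom := (Over.w e.hom).symm
  have hi1 : IsIso e.hom.left := (Over.forget _).map_isIso e.hom
  have hi2 : IsIso e.inv.left := (Over.forget _).map_isIso e.inv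
  have h2 : IsProper (pullback.snd R.hom (ext K L)) := by
    rw [h1]
    exact (MorphismProperty.cancel_left_of_respectsIso @IsProper _ _).2 hP
  have h3 : GeometricallyIntegral (pullback.snd R.hom (ext K L)) := by
    rw [h1]
    have h0 : e.inv.left ≫ e.hom.left ≫ P.hom = P.hom := by
      rw [← Category.assoc, ← Over.comp_left, e.inv_hom_id, Over.id_left, Category.id_comp]
    have h0' : GeometricallyIntegral (e.inv.left ≫ e.hom.left ≫ P.hom) := by
      rw [h0]
      exact hPg
    exact K520.Prod.geometricallyIntegral_of_flat_surjective e.inv.left _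
  have hs : Surjective (ext K L) := inferInstance
  have hfl : Flat (ext K L) := inferInstance
  have h4 : IsProper R.hom := by
    have := Groth.Agent.Etbase.FpqcDescent.descendsAlong_isProper.{u}
    exact MorphismProperty.of_isPullback_of_descendsAlong (P := @IsProper)
      (Q := (@Surjective ⊓ @Flat ⊓ @QuasiCompact : MorphismProperty Scheme.{u}))
      (IsPullback.of_hasPullback R.hom (ext K L)).flip ⟨⟨hs, hfl⟩, inferInstance⟩ h2
  have h5 : GeometricallyIntegral R.hom := Groth.Agent.AbVar.K509.GeomDesc.geometricallyIntegral_of_bc R.hom (ext K L)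
  exact ⟨R, inferInstance, hc, q, h4, h5, hq, h⟩

end weil

section res

variable {S S' : Scheme.{u}} {f : S' ⟶ S} {E : Over S'} {R : Over S} {q : Red.bc f R ⟶ E}
  (h : WeilRes.IsWeilRes f E R q)

/-- The Weil restriction of an endomorphism. -/
noncomputable def resMap (φ : E ⟶ E) : R ⟶ R := h.lift R (q ≫ φ)

theorem map_resMap (φ : E ⟶ E) : (Over.pullback f).map (resMap h φ) ≫ q = q ≫ φ := h.restr_lift R _

theorem restr_resMap {T : Over S} (x : T ⟶ R) (φ : E ⟶ E) :
    WeilRes.restr f q T (x ≫ resMap h φ) = WeilRes.restr f q T x ≫ φ := by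
  rw [WeilRes.restr_comp, WeilRes.restr_apply, map_resMap, ← Category.assoc]
  rfl

variable [GrpObj E] [GrpObj R] [IsMonHom q]

instance isMonHom_resMap (φ : E ⟶ E) [IsMonHom φ] : IsMonHom (resMap h φ) := by
  refine Groth.Agent.Sga3B.Pts.isMonHom_of_points _ fun T x y => (h T).1 ?_
  rw [restr_resMap, WeilRes.restr_mul, WeilRes.restr_mul, restr_resMap, restr_resMap, MonObj.mul_comp]

variable [IsCommMonObj E] [IsCommMonObj R]

/-- The Weil restriction of endomorphisms is a ring homomorphism. -/
noncomputable def resHom : EndAV.End E →+* EndAV.End R where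
  toFun φ := EndAV.End.of (resMap h φ.toHom)
  map_one' := EndAV.End.ext ((h R).1 (by
    have h1 := restr_resMap h (𝟙 R) (𝟙 E)
    rw [Category.id_comp, Category.comp_id] at h1
    exact h1))
  map_mul' φ ψ := EndAV.End.ext ((h R).1 (by
    have h1 := restr_resMap h (𝟙 R) (ψ.toHom ≫ φ.toHom)
    have h2 := restr_resMap h (𝟙 R ≫ resMap h ψ.toHom) φ.toHom
    rw [restr_resMap h (𝟙 R) ψ.toHom] at h2
    rw [Category.id_comp] at h1 h2
    exact h1.trans ((Category.assoc _ _ _).symm.trans h2.symm)))
  map_zero' := EndAV.End.ext ((h R).1 (by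
    have h1 := restr_resMap h (𝟙 R) (1 : E ⟶ E)
    rw [Category.id_comp, MonObj.comp_one] at h1
    exact h1.trans (WeilRes.restr_one f q R).symm))
  map_add' φ ψ := EndAV.End.ext ((h R).1 (by
    have h1 := restr_resMap h (𝟙 R) (φ.toHom * ψ.toHom)
    rw [Category.id_comp, MonObj.comp_mul] at h1
    have h2 := restr_resMap h (𝟙 R) φ.toHom
    have h3 := restr_resMap h (𝟙 R) ψ.toHom
    rw [Category.id_comp] at h2 h3
    refine h1.trans ?_
    rw [← h2, ← h3]
    exact (WeilRes.restr_mul f q R _ _).symm))

theorem restr_resHom {T : Over S} (x : T ⟶ R) (φ : EndAV.End E) :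
    WeilRes.restr f q T (x ≫ (resHom h φ).toHom) = WeilRes.restr f q T x ≫ φ.toHom := restr_resMap h x φ.toHom

end res

section frp

variable (k : Type u) [Field k] [Finite k]

/-- Iterated Frobenius. -/
noncomputable def frp (X : Over (Spec (CommRingCat.of k))) : ℕ → (X ⟶ X)
  | 0 => 𝟙 X
  | n + 1 => frp X n ≫ fr k X

theorem isFrob_frp (X : Over (Spec (CommRingCat.of k))) (n : ℕ) : IsFrob (Nat.card k ^ n) (frp k X n).left := by
  induction n with
  | zero =>
    rw [pow_zero]
    exact isFrob_id X.left
  | succ n ih =>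
    rw [pow_succ]
    exact ih.comp (isFrob_fr k X)

@[reassoc]
theorem frp_comm {X Y : Over (Spec (CommRingCat.of k))} (f : X ⟶ Y) (n : ℕ) : frp k X n ≫ f = f ≫ frp k Y n :=
  Over.OverMorphism.ext ((isFrob_frp k X n).comm (isFrob_frp k Y n) f.left)

theorem pow_of_fr (R : Over (Spec (CommRingCat.of k))) [GrpObj R] [IsCommMonObj R] (n : ℕ) :
    (EndAV.End.of (fr k R) ^ n).toHom = frp k R n := by
  induction n with
  | zero => rfl
  | succ n ih => rw [EndAV.End.toHom_pow_succ, ih]; rfl

variable (L : Type u) [Field L] [Finite L] [Algebra k L]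

omit [Finite k] in
theorem card_eq : Nat.card L = Nat.card k ^ Module.finrank k L := Module.natCard_eq_pow_finrank (K := k)

/-- The base change of the `n`-th iterate of the Frobenius is the Frobenius, `n = [L : k]`. -/
theorem map_frp (R : Over (Spec (CommRingCat.of k))) :
    (Over.pullback (ext k L)).map (frp k R (Module.finrank k L)) = fr L (Red.bc (ext k L) R) := by
  apply Over.OverMorphism.ext
  apply pullback.hom_ext
  · have h1 : ((Over.pullback (ext k L)).map (frp k R (Module.finrank k L))).left ≫ pullback.fst R.hom (ext k L) =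
        pullback.fst R.hom (ext k L) ≫ (frp k R (Module.finrank k L)).left := pullback.lift_fst _ _ _
    refine h1.trans ?_
    have h2 := isFrob_fr L (Red.bc (ext k L) R)
    have h3 := isFrob_frp k R (Module.finrank k L)
    rw [← card_eq k L] at h3
    exact (h2.comm h3 _).symm
  · have h1 : ((Over.pullback (ext k L)).map (frp k R (Module.finrank k L))).left ≫ pullback.snd R.hom (ext k L) =
        pullback.snd R.hom (ext k L) := pullback.lift_snd _ _ _
    exact h1.trans (Over.w (fr L (Red.bc (ext k L) R))).symm

variable {E : Over (Spec (CommRingCat.of L))} {R : Over (Spec (CommRingCat.of k))} [GrpObj E] [GrpObj R]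
  [IsCommMonObj E] [IsCommMonObj R] {q : Red.bc (ext k L) R ⟶ E} [IsMonHom q]
  (h : WeilRes.IsWeilRes (ext k L) E R q)

/-- The `n`-th power of the Frobenius of the Weil restriction is the restriction of the Frobenius. -/
theorem fr_pow_eq : EndAV.End.of (fr k R) ^ Module.finrank k L = resHom h (EndAV.End.of (fr L E)) := by
  refine EndAV.End.ext ((h R).1 ?_)
  rw [pow_of_fr]
  have h1 := restr_resHom h (𝟙 R) (EndAV.End.of (fr L E))
  rw [Category.id_comp] at h1
  refine Eq.trans ?_ h1.symm
  rw [WeilRes.restr_id, WeilRes.restr_apply, map_frp]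
  exact fr_comm L q

end frp

end K515.HTRes
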