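import Groth.Agent.AbVar.K515.GeoMul
import Groth.Agent.AbVar.K515.Bc
import Groth.Agent.AbVar.K519.Tate
import Groth.Agent.Sga7.H270.FinStab

/-!
# The `l`-adic Weil (Riemann) form of a line bundle on the Tate module

`X / k` an abelian variety, `Ω / k`, `L` a class on `X`.
* `eN Ω L N x y : Ωˣ` for `x y : SGA7.Pts Ω X`: the commutator pairing of `L_Ω^N`;
* `E Ω L n x y` for `x y` in the Tate module: `eN (l^n)` of the `n`-th components.
-/

set_option autoImplicit false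
universe u

open CategoryTheory CategoryTheory.Limits MonoidalCategory CartesianMonoidalCategory
  AlgebraicGeometry MonObj
open Groth.Agent.Sga7.H761.BaseChg Groth.Agent.Sga7.H761.TransSig Groth.Agent.Grpsch.PicGrp
  Groth.Agent.Grpsch.Cube
open K515.Bc K515.Geo

noncomputable section

namespace K515.TateE

variable {k : Type u} [Field k] (Ω : Type u) [Field Ω] [Algebra k Ω]
  {X : Over (Spec (CommRingCat.of k))}

/-- The pulled back class. -/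
abbrev LΩ (L : Pic X.left) : Pic (bc Ω X).left := pull (pr Ω X) L

variable [GrpObj X] [IsProper X.hom] [GeometricallyIntegral X.hom]

omit [GrpObj X] [IsProper X.hom] [GeometricallyIntegral X.hom] in
lemma isPullback_bcHom {Y : Over (Spec (CommRingCat.of k))} (u : Y ⟶ X) :
    IsPullback (pr Ω Y) (bcHom Ω u).left u.left (pr Ω X) := by
  have h1 : IsPullback (pr Ω Y) ((bcHom Ω u).left ≫ (bc Ω X).hom) (u.left ≫ X.hom) (fKL k Ω) := by
    rw [Over.w, Over.w]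
    exact isPullback_pr Ω Y
  exact IsPullback.of_bot h1 (bcHom_pr Ω u).symm (isPullback_pr Ω X)

lemma bcHom_inv : bcHom Ω (𝟙 X)⁻¹ = (𝟙 (bc Ω X))⁻¹ := by
  apply adjn_injective
  rw [bcHom_pr]
  let φ : (bc Ω X ⟶ bc Ω X) →* ((Over.map (fKL k Ω)).obj (bc Ω X) ⟶ X) :=
    MonoidHom.mk' (adjn Ω) (adjn_mul Ω)
  have h1 : adjn Ω (𝟙 (bc Ω X))⁻¹ = (adjn Ω (𝟙 (bc Ω X)))⁻¹ := map_inv φ _
  have h2 : adjn Ω (𝟙 (bc Ω X)) ≫ (𝟙 X)⁻¹ = (adjn Ω (𝟙 (bc Ω X)))⁻¹ := by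
    rw [GrpObj.comp_inv, Category.comp_id]
  rw [← adjn_left, h1, ← h2, Over.comp_left, adjn_left]
  exact congrArg (fun f => f ≫ ((𝟙 X)⁻¹ : X ⟶ X).left) (Category.id_comp (pr Ω X)).symm

lemma symm_LΩ {L : Pic X.left} (hL : pl (𝟙 X)⁻¹ L = L) :
    pl (𝟙 (bc Ω X))⁻¹ (LΩ Ω L) = LΩ Ω L := by
  rw [← bcHom_inv, LΩ]
  change pull (bcHom Ω (𝟙 X)⁻¹).left (pull (pr Ω X) L) = _
  rw [← pull_comp, bcHom_pr, pull_comp]
  change pull (pr Ω X) (pl (𝟙 X)⁻¹ L) = _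
  rw [hL]

/-- The pairing on points. -/
def eN (L : Pic X.left) (N : ℕ) (x y : SGA7.Pts Ω X) : Ωˣ :=
  Geo.e (LΩ Ω L ^ N) ((ptE Ω).symm x) ((ptE Ω).symm y)

variable {Ω} {L M : Pic X.left} {N : ℕ} {x y z : SGA7.Pts Ω X}

lemma mem_KL_symm (hx : x ^ N = 1) : (ptE Ω).symm x ∈ KL (LΩ Ω L ^ N) :=
  mem_KL_of_pow_eq_one (by rw [← map_pow, hx, map_one])

lemma eN_mul_left (hx : x ^ N = 1) (hy : y ^ N = 1) (hz : z ^ N = 1) :
    eN Ω L N (x * y) z = eN Ω L N x z * eN Ω L N y z := by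
  rw [eN, map_mul]
  exact e_mul_left (mem_KL_symm hx) (mem_KL_symm hy) (mem_KL_symm hz)

lemma eN_mul_right (hx : x ^ N = 1) (hy : y ^ N = 1) (hz : z ^ N = 1) :
    eN Ω L N x (y * z) = eN Ω L N x y * eN Ω L N x z := by
  rw [eN, map_mul]
  exact e_mul_right (mem_KL_symm hx) (mem_KL_symm hy) (mem_KL_symm hz)

lemma eN_self (hx : x ^ N = 1) : eN Ω L N x x = 1 := e_self (mem_KL_symm hx)

lemma eN_pow (hx : x ^ N = 1) (hy : y ^ N = 1) : eN Ω L N x y ^ N = 1 := by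
  rw [eN, ← Geo.e_pow_right (mem_KL_symm hx) (mem_KL_symm hy), ← map_pow (ptE Ω).symm, hy, map_one]
  exact e_one_right (mem_KL_symm hx)

/-- Multiplicativity in the line bundle. -/
lemma eN_mul (hx : x ^ N = 1) (hy : y ^ N = 1) :
    eN Ω (L * M) N x y = eN Ω L N x y * eN Ω M N x y := by
  rw [eN, LΩ, map_mul, mul_pow]
  exact e_mul (mem_KL_symm hx) (mem_KL_symm hy) (mem_KL_symm hx) (mem_KL_symm hy)

/-- Functoriality. -/
lemma eN_pull {Y : Over (Spec (CommRingCat.of k))} [GrpObj Y] [IsProper Y.hom]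
    [GeometricallyIntegral Y.hom] (u : Y ⟶ X) [IsMonHom u] [Surjective u.left]
    {x y : SGA7.Pts Ω Y} (hx : x ^ N = 1) (hy : y ^ N = 1) :
    eN Ω (pl u L) N x y = eN Ω L N (x ≫ u) (y ≫ u) := by
  have hs : Surjective (bcHom Ω u).left := by
    exact MorphismProperty.of_isPullback (isPullback_bcHom Ω u) ‹_›
  have h1 : LΩ Ω (pl u L) ^ N = pl (bcHom Ω u) (LΩ Ω L ^ N) := by
    rw [map_pow]
    congr 1
    change pull (pr Ω Y) (pull u.left L) = pull (bcHom Ω u).left (pull (pr Ω X) L)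
    rw [← pull_comp, ← pull_comp, bcHom_pr]
  have h2 : ∀ w : SGA7.Pts Ω Y, (ptE Ω).symm w ≫ bcHom Ω u = (ptE Ω).symm (w ≫ u) := by
    intro w
    apply (ptE Ω).injective
    rw [ptE_comp, MulEquiv.apply_symm_apply, MulEquiv.apply_symm_apply]
  have hux : (x ≫ u) ^ N = 1 := by rw [← MonObj.pow_comp, hx, MonObj.one_comp]
  have huy : (y ≫ u) ^ N = 1 := by rw [← MonObj.pow_comp, hy, MonObj.one_comp]
  rw [eN, h1, e_pull (bcHom Ω u) (by rw [h2]; exact mem_KL_symm hux)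
    (by rw [h2]; exact mem_KL_symm huy), h2, h2]
  rfl

omit [GrpObj X] [IsProper X.hom] [GeometricallyIntegral X.hom] in
lemma galAct_inv (σ : Ω ≃ₐ[k] Ω) (x : SGA7.Pts Ω X) :
    SGA7.galAct σ⁻¹ (SGA7.galAct σ x) = x := by
  rw [SGA7.galAct, SGA7.galAct, ← Category.assoc]
  have h : SGA7.specAut σ⁻¹ ≫ SGA7.specAut σ = 𝟙 (SGA7.pt (K := k) Ω) := by
    ext1
    rw [Over.comp_left]
    change Spec.map _ ≫ Spec.map _ = 𝟙 _
    rw [← Spec.map_comp]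
    have h3 : CommRingCat.ofHom (σ : Ω →+* Ω) ≫
        CommRingCat.ofHom ((σ⁻¹ : Ω ≃ₐ[k] Ω) : Ω →+* Ω) = 𝟙 (CommRingCat.of Ω) := by
      ext x
      exact σ.symm_apply_apply x
    rw [h3, Spec.map_id]
  rw [h, Category.id_comp]

omit [IsProper X.hom] [GeometricallyIntegral X.hom] in
lemma galAct_pow (σ : Ω ≃ₐ[k] Ω) (x : SGA7.Pts Ω X) (n : ℕ) :
    SGA7.galAct σ (x ^ n) = SGA7.galAct σ x ^ n := MonObj.comp_pow _ _ _

/-- Galois conjugation as a semilinear morphism. -/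
def morGal (σ : Ω ≃ₐ[k] Ω) : Mor (bc Ω X) (bc Ω X) where
  σ := (σ : Ω →+* Ω)
  f := conj σ X
  w := conj_hom σ
  gen := Groth.Agent.Grpsch.MulFin.map_genericPoint _
  φ := gal σ⁻¹
  tr := t_conj σ

/-- Galois equivariance. -/
lemma eN_gal (σ : Ω ≃ₐ[k] Ω) (hx : x ^ N = 1) (hy : y ^ N = 1) :
    eN Ω L N (SGA7.galAct σ x) (SGA7.galAct σ y) =
      Units.map ((σ : Ω →+* Ω) : Ω →* Ω) (eN Ω L N x y) := by
  have h1 : ∀ x : SGA7.Pts Ω X, (morGal σ).φ ((ptE Ω).symm (SGA7.galAct σ x)) =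
      (ptE Ω).symm x := by
    intro x
    change gal σ⁻¹ ((ptE Ω).symm (SGA7.galAct σ x)) = (ptE Ω).symm x
    rw [gal, MulEquiv.apply_symm_apply, galAct_inv]
  have h2 := (morGal σ).e_eq (L := LΩ Ω L ^ N) (v := (ptE Ω).symm (SGA7.galAct σ x))
    (w := (ptE Ω).symm (SGA7.galAct σ y)) (by rw [h1]; exact mem_KL_symm hx)
    (by rw [h1]; exact mem_KL_symm hy)
  rw [h1, h1] at h2
  have h3 : pull (morGal (X := X) σ).f (LΩ Ω L ^ N) = LΩ Ω L ^ N := by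
    rw [map_pow]
    congr 1
    change pull (conj σ X) (pull (pr Ω X) L) = pull (pr Ω X) L
    rw [← pull_comp, conj_pr]
  rw [h3] at h2
  exact h2

/-- Compatibility of the pairings. -/
lemma eN_succ (hsym : pl (𝟙 X)⁻¹ L = L) (g : ℕ) (hg : topologicalKrullDim X.left = g) [IsSepClosed Ω]
    (m n : ℕ) (hn : (n : Ω) ≠ 0) (hx : x ^ (m * n) = 1) (hy : y ^ (m * n) = 1) :
    eN Ω L (m * n) x y ^ n = eN Ω L m (x ^ n) (y ^ n) := by
  have hn1 : 1 ≤ n := Nat.one_le_iff_ne_zero.2 (fun h => hn (by rw [h, Nat.cast_zero]))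
  rw [eN, eN, map_pow, map_pow]
  have hg' : topologicalKrullDim (bc Ω X).left = g := (dim_bc Ω X).trans hg
  exact e_pow_comp g hg' (symm_LΩ Ω hsym) n hn1 (card_torsion g hg' n hn) m (mem_KL_symm hx)
    (mem_KL_symm hy)

/-- Nondegeneracy at finite level. -/
lemma mem_KL_of_eN [IsAlgClosed Ω] (hsym : pl (𝟙 X)⁻¹ L = L) (n : ℕ) (hn : (n : Ω) ≠ 0)
    (hx : x ^ n = 1) (h : ∀ y : SGA7.Pts Ω X, y ^ n = 1 → eN Ω L n y x = 1) :
    (ptE Ω).symm x ∈ KL (LΩ Ω L) := by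
  refine mem_KL_of_pairing (symm_LΩ Ω hsym) n hn (by rw [← map_pow, hx, map_one]) fun y hy => ?_
  have h1 := h (ptE Ω y) (by rw [← map_pow, hy, map_one])
  rwa [eN, MulEquiv.symm_apply_apply] at h1

end K515.TateE
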