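import Groth.Agent.AbVar.K515.Bc
import Groth.Agent.AbVar.K515.TateE
import Groth.Agent.AbVar.K510.TateHom

/-!
# `Hom(X, Y)` is finitely generated, over any field
-/

set_option autoImplicit false
universe u

open CategoryTheory CategoryTheory.Limits MonoidalCategory CartesianMonoidalCategory
  AlgebraicGeometry MonObj
open K515.Bc

namespace K515.HomFin

variable {k : Type u} [Field k] (Ω : Type u) [Field Ω] [Algebra k Ω]
  {X Y : Over (Spec (CommRingCat.of k))}

theorem adjn_bcHom (f : X ⟶ Y) : adjn Ω (bcHom Ω f) = adjn Ω (𝟙 (bc Ω X)) ≫ f := by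
  ext1
  rw [adjn_left, bcHom_pr, Over.comp_left, adjn_left]
  exact congrArg (fun g => g ≫ f.left) (Category.id_comp (pr Ω X)).symm

theorem bcHom_mul [GrpObj Y] (f g : X ⟶ Y) : bcHom Ω (f * g) = bcHom Ω f * bcHom Ω g := by
  apply adjn_injective
  rw [← adjn_left, ← adjn_left, adjn_mul, adjn_bcHom, adjn_bcHom, adjn_bcHom, MonObj.comp_mul]

theorem bcHom_injective : Function.Injective (bcHom Ω : (X ⟶ Y) → (bc Ω X ⟶ bc Ω Y)) := by
  intro f g h
  ext1
  have h5 : Flat (pr Ω X) := MorphismProperty.of_isPullback (P := @Flat) (isPullback_pr Ω X).flip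
    inferInstance
  have h6 : Surjective (pr Ω X) :=
    MorphismProperty.of_isPullback (P := @Surjective) (isPullback_pr Ω X).flip inferInstance
  have h7 := Flat.epi_of_flat_of_surjective (pr Ω X)
  rw [← cancel_epi (pr Ω X), ← bcHom_pr, ← bcHom_pr, h]

variable (X Y) [GrpObj X] [IsCommMonObj X] [IsProper X.hom] [GeometricallyIntegral X.hom]
  [GrpObj Y] [IsCommMonObj Y] [IsProper Y.hom] [GeometricallyIntegral Y.hom]

/-- `Hom(X, Y)` is finitely generated. -/
theorem finite_hom : Module.Finite ℤ (EndAV.Hom X Y) := by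
  let Ω := AlgebraicClosure k
  have := K510.TateHom.finite_hom (bc Ω X) (bc Ω Y)
  let T : EndAV.Hom X Y →+ EndAV.Hom (bc Ω X) (bc Ω Y) :=
    AddMonoidHom.mk' (fun f => EndAV.Hom.of (bcHom Ω f.toHom))
      (fun f g => EndAV.Hom.ext (bcHom_mul Ω f.toHom g.toHom))
  refine Module.Finite.of_injective T.toIntLinearMap fun f g h => EndAV.Hom.ext ?_
  exact bcHom_injective Ω (congrArg (fun φ : EndAV.Hom (bc Ω X) (bc Ω Y) => φ.toHom) h)

end K515.HomFin
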