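import Groth.Agent.AbVar.K515.FormQ

/-!
# From `ℚ_l`-spans to `ℤ_l`-spans

`T : H → Hom(M, N)` additive, `N` torsion free.  If `l u = T(f)` implies `u = T(h)`, then the `ℤ_l`-span of the
image is saturated.
-/

set_option autoImplicit false

open scoped TensorProduct
open Module

namespace K515.SpanZ

variable {l : ℕ} [hl : Fact l.Prime] {M N : Type*} [AddCommGroup M] [Module ℤ_[l] M]
  [AddCommGroup N] [Module ℤ_[l] N] {H : Type*} [AddCommGroup H] (T : H →+ (M →ₗ[ℤ_[l]] N))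

/-- Every element of the span is `T(f) + l s`. -/
theorem exists_add {s : M →ₗ[ℤ_[l]] N} (hs : s ∈ Submodule.span ℤ_[l] (Set.range T)) :
    ∃ (f : H) (t : M →ₗ[ℤ_[l]] N), t ∈ Submodule.span ℤ_[l] (Set.range T) ∧
      s = T f + (l : ℤ_[l]) • t := by
  induction hs using Submodule.span_induction with
  | mem x hx =>
    obtain ⟨f, rfl⟩ := hx
    exact ⟨f, 0, zero_mem _, by rw [smul_zero, add_zero]⟩
  | zero => exact ⟨0, 0, zero_mem _, by rw [smul_zero, add_zero, map_zero]⟩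
  | add x y _ _ hx hy =>
    obtain ⟨f, t, ht, rfl⟩ := hx
    obtain ⟨g, t', ht', rfl⟩ := hy
    exact ⟨f + g, t + t', add_mem ht ht', by rw [map_add, smul_add]; abel⟩
  | smul a x _ hx =>
    obtain ⟨f, t, ht, rfl⟩ := hx
    obtain ⟨b, hb⟩ : ∃ b : ℤ_[l], a = (a.appr 1 : ℤ_[l]) + (l : ℤ_[l]) * b := by
      have h1 := PadicInt.appr_spec 1 a
      rw [pow_one, Ideal.mem_span_singleton'] at h1
      obtain ⟨b, hb⟩ := h1
      exact ⟨b, by rw [mul_comm, hb]; ring⟩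
    refine ⟨a.appr 1 • f, b • T f + a • t, add_mem (Submodule.smul_mem _ _
      (Submodule.subset_span ⟨f, rfl⟩)) (Submodule.smul_mem _ _ ht), ?_⟩
    have h2 : a • T f = (a.appr 1 : ℤ_[l]) • T f + (l : ℤ_[l]) • b • T f := by
      rw [smul_smul, ← add_smul, ← hb]
    rw [map_nsmul, ← Nat.cast_smul_eq_nsmul ℤ_[l], smul_add, smul_add, h2,
      smul_comm a (l : ℤ_[l]) t, add_assoc]

variable {T}

/-- The span is saturated. -/
theorem mem_of_smul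
    (hT : ∀ (f : H) (u : M →ₗ[ℤ_[l]] N), T f = (l : ℤ_[l]) • u → ∃ h, T h = u)
    {v : M →ₗ[ℤ_[l]] N} (hv : (l : ℤ_[l]) • v ∈ Submodule.span ℤ_[l] (Set.range T)) :
    v ∈ Submodule.span ℤ_[l] (Set.range T) := by
  obtain ⟨f, t, ht, h1⟩ := exists_add T hv
  obtain ⟨h, hh⟩ := hT f (v - t) (by rw [smul_sub, h1, add_sub_cancel_right])
  have : v = T h + t := by rw [hh, sub_add_cancel]
  rw [this]
  exact add_mem (Submodule.subset_span ⟨h, rfl⟩) ht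

theorem mem_of_pow_smul
    (hT : ∀ (f : H) (u : M →ₗ[ℤ_[l]] N), T f = (l : ℤ_[l]) • u → ∃ h, T h = u) (n : ℕ)
    {v : M →ₗ[ℤ_[l]] N} (hv : (l : ℤ_[l]) ^ n • v ∈ Submodule.span ℤ_[l] (Set.range T)) :
    v ∈ Submodule.span ℤ_[l] (Set.range T) := by
  induction n with
  | zero => rwa [pow_zero, one_smul] at hv
  | succ n ih =>
    rw [pow_succ', mul_smul] at hv
    exact ih (mem_of_smul hT hv)

theorem exists_pow_mul (a : ℚ_[l]) : ∃ (m : ℕ) (b : ℤ_[l]), (l : ℚ_[l]) ^ m * a = b := by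
  obtain ⟨x, y, hy, rfl⟩ := IsFractionRing.div_surjective (A := ℤ_[l]) a
  have hy0 : y ≠ 0 := nonZeroDivisors.ne_zero hy
  obtain ⟨w, m, rfl⟩ : ∃ (w : ℤ_[l]ˣ) (m : ℕ), y = w * (l : ℤ_[l]) ^ m :=
    ⟨_, _, PadicInt.unitCoeff_spec hy0⟩
  refine ⟨m, x * (w⁻¹ : ℤ_[l]ˣ), ?_⟩
  have h2 : algebraMap ℤ_[l] ℚ_[l] (w * (l : ℤ_[l]) ^ m) ≠ 0 := by
    rw [Ne, FaithfulSMul.algebraMap_eq_zero_iff]
    exact hy0
  rw [mul_div_assoc', div_eq_iff h2]
  have h3 : x * ((w⁻¹ : ℤ_[l]ˣ) : ℤ_[l]) * (w * (l : ℤ_[l]) ^ m) = (l : ℤ_[l]) ^ m * x := by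
    have h4 : ((w⁻¹ : ℤ_[l]ˣ) : ℤ_[l]) * w = 1 := Units.inv_mul _
    linear_combination x * (l : ℤ_[l]) ^ m * h4
  change _ = algebraMap ℤ_[l] ℚ_[l] (x * ((w⁻¹ : ℤ_[l]ˣ) : ℤ_[l])) * _
  rw [← map_mul, h3, map_mul, map_pow, map_natCast]

/-- Denominators. -/
theorem exists_pow_smul {S : Set (M →ₗ[ℤ_[l]] N)} {w : ℚ_[l] ⊗[ℤ_[l]] M →ₗ[ℚ_[l]] ℚ_[l] ⊗[ℤ_[l]] N}
    (hw : w ∈ Submodule.span ℚ_[l] ((fun s => s.baseChange ℚ_[l]) '' S)) :
    ∃ (n : ℕ) (s : M →ₗ[ℤ_[l]] N), s ∈ Submodule.span ℤ_[l] S ∧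
      (l : ℚ_[l]) ^ n • w = s.baseChange ℚ_[l] := by
  have key : ∀ (n : ℕ) (s : M →ₗ[ℤ_[l]] N), (l : ℚ_[l]) ^ n • s.baseChange ℚ_[l] =
      ((l : ℤ_[l]) ^ n • s).baseChange ℚ_[l] := by
    intro n s
    rw [LinearMap.baseChange_smul]
    refine LinearMap.ext fun x => ?_
    rw [LinearMap.smul_apply, LinearMap.smul_apply, ← algebraMap_smul ℚ_[l] ((l : ℤ_[l]) ^ n),
      map_pow, map_natCast]
  induction hw using Submodule.span_induction with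
  | mem x hx =>
    obtain ⟨s, hs, rfl⟩ := hx
    exact ⟨0, s, Submodule.subset_span hs, by rw [pow_zero, one_smul]⟩
  | zero => exact ⟨0, 0, zero_mem _, by rw [smul_zero, LinearMap.baseChange_zero]⟩
  | add x y _ _ hx hy =>
    obtain ⟨n, s, hs, h1⟩ := hx
    obtain ⟨m, t, ht, h2⟩ := hy
    refine ⟨n + m, (l : ℤ_[l]) ^ m • s + (l : ℤ_[l]) ^ n • t,
      add_mem (Submodule.smul_mem _ _ hs) (Submodule.smul_mem _ _ ht), ?_⟩
    rw [LinearMap.baseChange_add, ← key, ← key, ← h1, ← h2, smul_add, smul_smul, smul_smul,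
      pow_add, mul_comm ((l : ℚ_[l]) ^ m)]
  | smul a x _ hx =>
    obtain ⟨n, s, hs, h1⟩ := hx
    obtain ⟨m, b, hb⟩ := exists_pow_mul a
    refine ⟨m + n, b • s, Submodule.smul_mem _ _ hs, ?_⟩
    have h2 : (b • s).baseChange ℚ_[l] = (b : ℚ_[l]) • s.baseChange ℚ_[l] := by
      rw [LinearMap.baseChange_smul]
      refine LinearMap.ext fun x => ?_
      rw [LinearMap.smul_apply, LinearMap.smul_apply, ← algebraMap_smul ℚ_[l] b]
      rfl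
    rw [h2, ← hb, ← h1, smul_smul, smul_smul, pow_add]
    congr 1
    ring

end K515.SpanZ
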