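import Groth.Agent.AbVar.K510.KerLemmas
import Groth.Agent.AbVar.K510.TateMod
import Groth.Agent.AbVar.K515.Bc
import Groth.Agent.AbVar.K515.SpanZ
import Groth.Agent.AbVar.K519.Tate
import Groth.Agent.Grpsch.AbBC
import Groth.Agent.Grpsch.MulFin
import Groth.Agent.Flat2B.SmoothGeom
import Groth.Agent.Sga7.H734.Divis

/-!
# Homomorphisms over `k` whose Tate map is divisible by `l^n`

* `exists_desc`: a homomorphism over `k` killing the geometric `N`-torsion points factors through `[N]` (`N` invertible).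
* `exists_eq_pow_comp`: `T_l(φ) = l^n u` implies `φ = [l^n] ≫ φ'` over `k` (Tate modules of `Ω`-points, `Ω` any
  algebraically closed extension).
-/

set_option autoImplicit false
universe u

open CategoryTheory CategoryTheory.Limits MonoidalCategory CartesianMonoidalCategory
  AlgebraicGeometry MonObj
open K510.KerLemmas Groth.Agent K515.Bc AbDual

namespace K515.Integral

variable {k : Type u} [Field k] (Ω : Type u) [Field Ω] [Algebra k Ω] [IsAlgClosed Ω]

/-- A morphism from an étale group scheme is trivial if it is so on geometric points. -/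
theorem eq_one_of_pts {F B : Over (Spec (CommRingCat.of k))} [GrpObj F] [GrpObj B] [Etale F.hom]
    [IsSeparated B.hom] (f : F ⟶ B) (h : ∀ x : SGA7.Pts Ω F, x ≫ f = 1) : f = 1 := by
  have h1 : Etale (bc Ω F).hom :=
    inferInstanceAs (Etale (pullback.snd F.hom (Groth.Agent.Sga7.H761.BaseChg.fKL k Ω)))
  have h2 : IsReduced (bc Ω F).left := Flat2B.SmoothGeom.isReduced_of_smooth (bc Ω F).hom
  have h3 : IsSeparated (bc Ω B).hom :=
    inferInstanceAs (IsSeparated (pullback.snd B.hom (Groth.Agent.Sga7.H761.BaseChg.fKL k Ω)))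
  have key : ∀ f : F ⟶ B, (∀ x : SGA7.Pts Ω F, x ≫ f = 1) → bcHom Ω f = 1 := by
    intro f h
    refine eq_one_of_forall_pt (bcHom Ω f) fun x => ?_
    apply (ptE Ω (X := B)).injective
    rw [ptE_comp, h, map_one]
  have h4 : bcHom Ω f = bcHom Ω (1 : F ⟶ B) := by
    rw [key f h, key 1 fun x => MonObj.comp_one x]
  ext1
  have h5 : Flat (pr Ω F) := MorphismProperty.of_isPullback (P := @Flat) (isPullback_pr Ω F).flip
    inferInstance
  have h6 : Surjective (pr Ω F) :=
    MorphismProperty.of_isPullback (P := @Surjective) (isPullback_pr Ω F).flip inferInstance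
  have h7 := Flat.epi_of_flat_of_surjective (pr Ω F)
  rw [← cancel_epi (pr Ω F), ← bcHom_pr, ← bcHom_pr, h4]

/-- A homomorphism killing the geometric `N`-torsion points factors through `[N]`. -/
theorem exists_desc (A : Over (Spec (CommRingCat.of k))) [GrpObj A] [IsCommMonObj A]
    [IsProper A.hom] [GeometricallyIntegral A.hom] (B : Over (Spec (CommRingCat.of k))) [GrpObj B]
    [IsSeparated B.hom] (φ : A ⟶ B) [IsMonHom φ] (N : ℕ) (hN : (N : k) ≠ 0)
    (h : ∀ x : SGA7.Pts Ω A, x ^ N = 1 → x ≫ φ = 1) :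
    ∃ φ' : A ⟶ B, IsMonHom φ' ∧ (𝟙 A ^ N : A ⟶ A) ≫ φ' = φ := by
  have hN0 : N ≠ 0 := by rintro rfl; exact hN Nat.cast_zero
  have hmon : IsMonHom (𝟙 A ^ N : A ⟶ A) := Grpsch.KerMul.isMonHom_id_pow N
  obtain ⟨F, gF, i, hi, hic, hpb⟩ := exists_closedKernel (𝟙 A ^ N : A ⟶ A)
  have het : Etale (𝟙 A ^ N : A ⟶ A).left := by
    have h1 := Grpsch.AbBC.etale_zpow A (d := (N : ℤ)) (by rwa [Int.cast_natCast])
    rwa [zpow_natCast] at h1
  have hpb' : IsPullback i.left (toUnit F).left (𝟙 A ^ N : A ⟶ A).left η[A].left :=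
    hpb.map (Over.forget _)
  have hF1 : Etale (toUnit F).left := MorphismProperty.of_isPullback (P := @Etale) hpb' het
  have hF2 : (toUnit F).left = F.hom := by
    have := Over.w (toUnit F)
    exact (Category.comp_id _).symm.trans this
  rw [hF2] at hF1
  have hiφ : i ≫ φ = 1 := eq_one_of_pts Ω (i ≫ φ) fun x => by
    rw [← Category.assoc]
    refine h _ ?_
    have := ker_comp hpb x
    rwa [MonObj.comp_pow, Category.comp_id] at this
  have hflat : Flat (𝟙 A ^ N : A ⟶ A).left := inferInstance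
  have hsurj : Surjective (𝟙 A ^ N : A ⟶ A).left :=
    Grpsch.MulFin.surjective_pow A N (Nat.pos_of_ne_zero hN0)
  have hfp : LocallyOfFinitePresentation (𝟙 A ^ N : A ⟶ A).left := inferInstance
  exact exists_desc_hom i (𝟙 A ^ N : A ⟶ A) hpb φ hiφ

variable {Ω} {l : ℕ} [hl : Fact l.Prime]

theorem divisible (hlk : (l : k) ≠ 0) (A : Over (Spec (CommRingCat.of k))) [GrpObj A]
    [IsCommMonObj A] [IsProper A.hom] [GeometricallyIntegral A.hom] (x : SGA7.pt Ω ⟶ A) :
    ∃ y : SGA7.pt (K := k) Ω ⟶ A, y ^ l = x :=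
  Groth.Agent.Sga7.H734.Divis.exists_pow_eq A l hlk x

/-- `T_l(φ) = l^n u` implies that `φ` is divisible by `l^n`. -/
theorem exists_eq_pow_comp (hlk : (l : k) ≠ 0) {A B : Over (Spec (CommRingCat.of k))}
    [GrpObj A] [IsCommMonObj A] [IsProper A.hom] [GeometricallyIntegral A.hom]
    [GrpObj B] [IsCommMonObj B] [IsSeparated B.hom]
    (φ : A ⟶ B) [IsMonHom φ] (n : ℕ)
    (u : TateMod A l (SGA7.pt (K := k) Ω) →ₗ[ℤ_[l]] TateMod B l (SGA7.pt (K := k) Ω))
    (hu : tateMapₗ (l := l) (T := SGA7.pt (K := k) Ω) φ = ((l : ℤ_[l]) ^ n) • u) :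
    ∃ φ' : A ⟶ B, IsMonHom φ' ∧ φ = (𝟙 A ^ (l ^ n)) ≫ φ' := by
  obtain ⟨φ', h1, h2⟩ := exists_desc Ω A B φ (l ^ n)
    (by rw [Nat.cast_pow]; exact pow_ne_zero _ hlk) (fun x hx => by
      obtain ⟨y, hy⟩ := K510.TateMod.exists_component_eq (divisible hlk A) n x hx
      have h1 : ((tateMapₗ (l := l) (T := SGA7.pt (K := k) Ω) φ y :
          TateMod B l (SGA7.pt (K := k) Ω)) : ℕ → Additive (SGA7.pt (K := k) Ω ⟶ B)) n =
          Additive.ofMul (((y : ℕ → Additive (SGA7.pt (K := k) Ω ⟶ A)) n).toMul ≫ φ) := rfl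
      rw [hy, hu] at h1
      have h2 := (K510.TateMod.val_eq_zero_iff ((((l : ℤ_[l]) ^ n) • u) y) n).2 ⟨u y, rfl⟩
      rw [h1] at h2
      exact h2)
  exact ⟨φ', h1, h2.symm⟩

end K515.Integral
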