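import Groth.Agent.AbVar.K515.TateForm
import Groth.Agent.AbVar.K515.Lattice
import Groth.Agent.AbVar.K515.GeoDesc
import Groth.Statements.S7859

/-!
# Finiteness of the quotients attached to a maximal isotropic subspace
-/

set_option autoImplicit false
universe u

open CategoryTheory CategoryTheory.Limits MonoidalCategory CartesianMonoidalCategory
  AlgebraicGeometry MonObj
open Groth.Agent.Sga7.H761.TransSig Groth.Agent.Grpsch.PicGrp Groth.Agent.Grpsch.Cube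
open K515.Bc K515.Geo K515.TateE K515.TateForm K515.Lattice
open AbDual
open scoped TensorProduct

namespace K515.Isotrop

/-- (FIN-C): finitely many abelian varieties of dimension `g` with a symmetric ample line bundle of
Euler characteristic `c`. -/
def FinAV (k : Type u) [Field k] (g : ℕ) (c : ℤ) : Prop :=
  ∃ (n : ℕ) (Bs : Fin n → Over (Spec (CommRingCat.of k))),
    ∀ (B : Over (Spec (CommRingCat.of k))) [GrpObj B] [IsCommMonObj B] [IsProper B.hom]
      [GeometricallyIntegral B.hom] (M : B.left.Modules), topologicalKrullDim B.left = g →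
      PicF.IsInvertible M → CohB1.IsAmple M →
      Nonempty ((Scheme.Modules.pullback ((𝟙 B)⁻¹).left).obj M ≅ M) →
      @Curv2.euler k _ B.left ⟨B.hom⟩ M = c → ∃ i : Fin n, Nonempty (B ≅ Bs i)

/-- (NUM): existence of a symmetric ample model of the descended line bundle. -/
def NumModel (k Ω : Type u) [Field k] [Field Ω] [Algebra k Ω] : Prop :=
  ∀ (X Y : Over (Spec (CommRingCat.of k)))
    [GrpObj X] [IsCommMonObj X] [IsProper X.hom] [GeometricallyIntegral X.hom]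
    [GrpObj Y] [IsCommMonObj Y] [IsProper Y.hom] [GeometricallyIntegral Y.hom]
    (u : X ⟶ Y) [IsMonHom u] [IsFinite u.left] [Flat u.left] [Surjective u.left] [Etale u.left]
    (v : Y ⟶ X) [IsMonHom v] (N : ℕ) (_ : (N : k) ≠ 0) (_ : u ≫ v = (𝟙 X) ^ N)
    (_ : v ≫ u = (𝟙 Y) ^ N)
    (g : ℕ) (_ : topologicalKrullDim X.left = g)
    (_ : Nat.card {x : SGA7.Pts Ω X // x ≫ u = 1} = N ^ g)
    (L : X.left.Modules) (hL : CohB1.IsAmple L)
    (_ : pl (𝟙 X)⁻¹ (mk L hL.1) = mk L hL.1)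
    (Mb : Pic (bc Ω Y).left) (_ : pl (bcHom Ω u) Mb = pull (pr Ω X) (mk L hL.1) ^ N),
    ∃ (M : Y.left.Modules) (_ : CohB1.IsAmple M),
      Nonempty ((Scheme.Modules.pullback ((𝟙 Y)⁻¹).left).obj M ≅ M) ∧
      topologicalKrullDim Y.left = g ∧
      @Curv2.euler k _ Y.left ⟨Y.hom⟩ M = 4 ^ g * @Curv2.euler k _ X.left ⟨X.hom⟩ L

theorem bcHom_pow {k : Type u} [Field k] (Ω : Type u) [Field Ω] [Algebra k Ω]
    (X : Over (Spec (CommRingCat.of k))) [GrpObj X] (n : ℕ) :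
    bcHom Ω ((𝟙 X) ^ n) = (𝟙 (bc Ω X)) ^ n := by
  apply adjn_injective
  rw [bcHom_pr]
  let φ : (bc Ω X ⟶ bc Ω X) →* ((Over.map (Groth.Agent.Sga7.H761.BaseChg.fKL k Ω)).obj (bc Ω X) ⟶ X) :=
    MonoidHom.mk' (adjn Ω) (adjn_mul Ω)
  have h1 : adjn Ω ((𝟙 (bc Ω X)) ^ n) = (adjn Ω (𝟙 (bc Ω X))) ^ n := map_pow φ _ _
  have h2 : adjn Ω (𝟙 (bc Ω X)) ≫ ((𝟙 X) ^ n) = (adjn Ω (𝟙 (bc Ω X))) ^ n := by
    rw [MonObj.comp_pow, Category.comp_id]
  rw [← adjn_left, h1, ← h2, Over.comp_left, adjn_left]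
  exact congrArg (fun f => f ≫ ((𝟙 X) ^ n : X ⟶ X).left) (Category.id_comp (pr Ω X)).symm

variable {k Ω : Type u} [Field k] [Field Ω] [Algebra k Ω] [IsAlgClosure k Ω]
  {l : ℕ} [hl : Fact l.Prime] {X : Over (Spec (CommRingCat.of k))}
  [GrpObj X] [IsCommMonObj X] [IsProper X.hom] [GeometricallyIntegral X.hom]

/-- The finiteness needed for Tate's argument, in the isotropic case. -/
theorem exists_finite (hlk : (l : k) ≠ 0)
    [Module.Free ℤ_[l] (TateMod X l (SGA7.pt Ω))] [Module.Finite ℤ_[l] (TateMod X l (SGA7.pt Ω))]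
    (g : ℕ) (hg : topologicalKrullDim X.left = g) (M : X.left.Modules) (hM : CohB1.IsAmple M)
    (hsym : pl (𝟙 X)⁻¹ (mk M hM.1) = mk M hM.1)
    (W : Submodule ℚ_[l] (ℚ_[l] ⊗[ℤ_[l]] TateMod X l (SGA7.pt Ω)))
    (hdim : Module.finrank ℚ_[l] W = g)
    (hiso : ∀ x ∈ lat W, ∀ y ∈ lat W, ∀ n, E (mk M hM.1) n x y = 1)
    (hFin : FinAV k g (4 ^ g * @Curv2.euler k _ X.left ⟨X.hom⟩ M)) (hNum : NumModel k Ω) :
    ∃ (J : Type u) (_ : Finite J) (F : J → Over (Spec (CommRingCat.of k))),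
      ∀ (Y : Over (Spec (CommRingCat.of k))) [GrpObj Y] [IsCommMonObj Y] [IsProper Y.hom]
        [GeometricallyIntegral Y.hom] (u : X ⟶ Y) [IsMonHom u] (v : Y ⟶ X) [IsMonHom v] (n : ℕ),
        IsFinite u.left → Flat u.left → Surjective u.left → ((l : k) ≠ 0 → Etale u.left) →
        u ≫ v = (𝟙 X) ^ (l ^ n) → v ≫ u = (𝟙 Y) ^ (l ^ n) →
        (∀ x : SGA7.Pts Ω X, x ≫ u = 1 ↔ ∃ t : TateMod X l (SGA7.pt Ω),
          (1 : ℚ_[l]) ⊗ₜ[ℤ_[l]] t ∈ W ∧
            (TateMod.component X l (SGA7.pt Ω) n t).toMul = x) →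
        ∃ i, Nonempty (Y ≅ F i) := by
  have : IsAlgClosed Ω := IsAlgClosure.isAlgClosed k
  obtain ⟨m, Bs, hBs⟩ := hFin
  refine ⟨ULift (Fin m), inferInstance, fun i => Bs i.down, ?_⟩
  intro Y _ _ _ _ u _ v _ n hfin hflat hsurj het huv hvu hker
  have het' := het hlk
  have hlΩ : (l : Ω) ≠ 0 := fun h0 => hlk ((algebraMap k Ω).injective (by
    rw [map_natCast, map_zero, h0]))
  have hN : ((l ^ n : ℕ) : k) ≠ 0 := by
    rw [Nat.cast_pow]; exact pow_ne_zero n hlk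
  have hNΩ : ((l ^ n : ℕ) : Ω) ≠ 0 := by
    rw [Nat.cast_pow]; exact pow_ne_zero n hlΩ
  -- the number of points of the kernel
  have hcard : Nat.card {x : SGA7.Pts Ω X // x ≫ u = 1} = (l ^ n) ^ g := by
    have h1 := card_image (TateMod.component X l (SGA7.pt Ω) n) n (fun t => by
      rw [← K519.Tate.apply_eq_zero_iff]
      rfl) W
    rw [hdim] at h1
    rw [← h1]
    refine Nat.card_congr (Equiv.subtypeEquiv Additive.ofMul fun x => ?_)
    rw [hker]
    constructor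
    · rintro ⟨t, ht, rfl⟩
      exact ⟨t, ht, rfl⟩
    · rintro ⟨t, ht, h⟩
      exact ⟨t, ht, congrArg Additive.toMul h⟩
  -- descent of the line bundle over `Ω`
  have hpts : ∀ w : Pt (bc Ω X), w ≫ bcHom Ω u = 1 → ∃ t ∈ lat W, c n t = ptE Ω w := by
    intro w hw
    have h1 : ptE Ω w ≫ u = 1 := by rw [← ptE_comp, hw, map_one]
    obtain ⟨t, ht, ht'⟩ := (hker _).mp h1
    exact ⟨t, ht, ht'⟩
  have hsΩ : Surjective (bcHom Ω u).left :=
    MorphismProperty.of_isPullback (isPullback_bcHom Ω u) hsurj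
  have hfΩ : Flat (bcHom Ω u).left :=
    MorphismProperty.of_isPullback (isPullback_bcHom Ω u) hflat
  obtain ⟨Mb, hMb⟩ := GeoDesc.exists_desc (l ^ n) hNΩ (bcHom Ω u) (bcHom Ω v) (by
      rw [← bcHom_comp, huv, bcHom_pow]) (LΩ Ω (mk M hM.1) ^ (l ^ n))
    (fun w hw => by
      obtain ⟨t, ht, ht'⟩ := hpts w hw
      have h1 : w = (ptE Ω).symm (c n t) := by rw [ht', MulEquiv.symm_apply_apply]
      rw [h1]
      exact mem_KL_symm (c_pow n t))
    (fun w w' hw hw' => by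
      obtain ⟨t, ht, ht'⟩ := hpts w hw
      obtain ⟨s, hs, hs'⟩ := hpts w' hw'
      have h1 : w = (ptE Ω).symm (c n t) := by rw [ht', MulEquiv.symm_apply_apply]
      have h2 : w' = (ptE Ω).symm (c n s) := by rw [hs', MulEquiv.symm_apply_apply]
      rw [h1, h2]
      exact hiso t ht s hs n)
  obtain ⟨M', hM', hs', hg', hχ⟩ := hNum X Y u v (l ^ n) hN huv hvu g hg hcard M hM hsym Mb hMb
  obtain ⟨i, hi⟩ := hBs Y M' hg' hM'.1 hM' hs' hχ
  exact ⟨⟨i⟩, hi⟩

end K515.Isotrop
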