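import Groth.Agent.AbVar.K515.Isotrop
import Groth.Agent.AbVar.K506.Transl
import Groth.Agent.AbVar.K521.SeesawRed
import Groth.Agent.Picfga.GaloisDescent
import Groth.Agent.S7859
import Groth.Agent.AbSch.K450.RRChi
import Groth.Agent.Sga4h.EtTrace764
import Groth.Agent.CohqB.AmpGeneric
import Groth.Agent.Divis.NormAmple
import Groth.Agent.S2327
import Groth.Agent.Sga3C.DimTop

/-!
# Descent of the symmetric square of a line bundle

`NumModel k Ω` for `Ω / k` Galois and `Ω` algebraically closed.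
-/

set_option autoImplicit false
universe u

open CategoryTheory CategoryTheory.Limits MonoidalCategory CartesianMonoidalCategory
  AlgebraicGeometry MonObj
open Groth.Agent.Sga7.H761.TransSig Groth.Agent.Sga7.H761.BaseChg Groth.Agent.Grpsch.PicGrp
  Groth.Agent.Grpsch.Cube
open K515.Bc K515.Geo K515.Isotrop
open Groth.Agent.Fga.PicMon

namespace K515.NumModel

section euler

variable {k : Type u} [Field k] {A : Over (Spec (CommRingCat.of k))} [GrpObj A] [IsProper A.hom]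
  [GeometricallyIntegral A.hom]

theorem euler_pow (g : ℕ) (hg : topologicalKrullDim A.left = g) {L M : A.left.Modules}
    (hL : PicF.IsInvertible L) (hM : PicF.IsInvertible M) (n : ℕ) (h : mk M hM = mk L hL ^ n) :
    @Curv2.euler k _ A.left ⟨A.hom⟩ M = (n : ℤ) ^ g * @Curv2.euler k _ A.left ⟨A.hom⟩ L := by
  rw [← K450.RRChi.chi_mc k A g hg L, ← K450.RRChi.chi_mc k A g hg M,
    ← K450.RRChi.chi_pow k A g hg L hL n]
  congr 1
  rw [← mc_tensorPow]
  refine (mc_eq_iff _ _).mpr ?_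
  rw [← mk_eq_iff hM (Groth.Agent.Fdesc.LocGen.isInvertible_tensorPow hL n), mk_tensorPow hL n, h]

theorem euler_pull {B : Over (Spec (CommRingCat.of k))} [GrpObj B] [IsProper B.hom]
    [GeometricallyIntegral B.hom] (f : A ⟶ B) [IsFinite f.left] [Flat f.left] (d : ℕ)
    (hd : ∀ y : ↥B.left, Scheme.Hom.finrank f.left y = d) {L : A.left.Modules} {M : B.left.Modules}
    (hL : PicF.IsInvertible L) (hM : PicF.IsInvertible M) (h : pl f (mk M hM) = mk L hL) :
    @Curv2.euler k _ A.left ⟨A.hom⟩ L = d * @Curv2.euler k _ B.left ⟨B.hom⟩ M := by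
  rw [← Groth.Agent.S7859.result k A B f d hd M
    (Groth.Agent.VarietyA.CurveFin.isCoh_of_isInvertible hM)]
  have h1 : mk _ (Groth.Agent.Fdesc.LocGen.isInvertible_pullback f.left hM) = mk L hL := by
    rw [← h]
    exact (pull_mk f.left hM).symm
  obtain ⟨e⟩ := (mk_eq_iff _ _).mp h1
  exact @Groth.Agent.Fga.HodgePush.euler_congr k _ A.left ⟨A.hom⟩ _ _ e.symm

end euler

section inv

variable {K : Type u} [Field K] [IsAlgClosed K] {A : Over (Spec (CommRingCat.of K))} [GrpObj A]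
  [IsProper A.hom] [GeometricallyIntegral A.hom]

open K506.Transl in
theorem pl_pow_of_inv {c : Pic A.left} (hc : Inv c) {T : Over (Spec (CommRingCat.of K))}
    (α : T ⟶ A) (n : ℕ) : pl (α ^ n) c = pl α c ^ n := by
  induction n with
  | zero => rw [pow_zero, pow_zero, pl_one]
  | succ n ih => rw [pow_succ, pow_succ, pl_mul_of_inv hc, ih]

open K506.Transl in
/-- classes killed by multiplication by `N` are translation invariant -/
theorem inv_of_pow [IsCommMonObj A] (N : ℕ) (hN : (N : K) ≠ 0) (c : Pic A.left)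
    (hc : pl (𝟙 A ^ N : A ⟶ A) c = 1) : Inv c := by
  have : AlgebraicGeometry.IsIntegral A.left :=
    GeometricallyIntegral.isIntegral_of_subsingleton A.hom
  have h1 : ∀ a, pl (𝟙 A ^ N : A ⟶ A) (phi c (a ^ N)) = 1 := by
    intro a
    have e : tr a ≫ (𝟙 A ^ N : A ⟶ A) = (𝟙 A ^ N : A ⟶ A) ≫ tr (a ^ N) := by
      rw [MonObj.comp_pow, Category.comp_id, comp_tr, mul_pow, MonObj.comp_pow]
    rw [phi, map_mul, map_inv, hc, inv_one, _root_.mul_one, ← pl_comp, ← e, pl_comp, hc, map_one]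
  have h2 : ∀ a, phi c (a ^ (N * N)) = 1 := by
    intro a
    have h3 := h1 a
    have hid : pl (𝟙 A) (phi c (a ^ N)) = phi c (a ^ N) :=
      (congrArg (fun f => pull f (phi c (a ^ N))) (Over.id_left A)).trans (pull_id _)
    rw [pl_pow_of_inv (phi_transl c _), hid, ← phi_pow, ← pow_mul] at h3
    exact h3
  rw [inv_iff_phi]
  intro b
  obtain ⟨a, rfl⟩ := K515.Geo.exists_pow_eq (A := A) (N * N) (by
    rw [Nat.cast_mul]
    exact mul_ne_zero hN hN) b
  exact h2 a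

end inv

section desc

variable {k Ω : Type u} [Field k] [Field Ω] [Algebra k Ω]

/-- Galois invariant classes descend. -/
theorem exists_desc_class [IsGalois k Ω] (Y : Over (Spec (CommRingCat.of k))) [GrpObj Y]
    [IsProper Y.hom] [GeometricallyIntegral Y.hom] (c : Pic (bc Ω Y).left)
    (hc : ∀ σ : Ω ≃ₐ[k] Ω, pull (conj σ Y) c = c) : ∃ c' : Pic Y.left, pull (pr Ω Y) c' = c := by
  obtain ⟨L, hL, rfl⟩ := exists_mk c
  have := Groth.Agent.Sga3.H780.RigidProper.isIso_appTop_hom Y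
  have : CompactSpace Y.left := (quasiCompact_iff_compactSpace (f := Y.hom)).mp inferInstance
  have : QuasiSeparatedSpace Y.left :=
    (quasiSeparated_iff_quasiSeparatedSpace (f := Y.hom)).mp inferInstance
  obtain ⟨M, hM, e⟩ := Groth.Agent.Picfga.GaloisDescent.exists_descent_galois (f := Y.hom)
    (k' := Ω) (η[Y]).left (Over.w η[Y]) hL (fun σ => by
      have h1 := hc σ
      rw [pull_mk, mk_eq_iff] at h1
      have h2 : Groth.Agent.Picfga.GaloisAct.tw Y.hom σ = conj σ Y := by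
        apply pullback.hom_ext
        · exact (Groth.Agent.Picfga.GaloisAct.tw_fst Y.hom σ).trans (conj_pr σ).symm
        · exact (Groth.Agent.Picfga.GaloisAct.tw_snd Y.hom σ).trans (conj_hom σ).symm
      rw [h2]
      exact h1)
  refine ⟨mk M hM, ?_⟩
  rw [pull_mk, mk_eq_iff]
  exact e

theorem pull_pr_injective (Y : Over (Spec (CommRingCat.of k))) [IsProper Y.hom]
    [GeometricallyIntegral Y.hom] : Function.Injective (pull (pr Ω Y)) := by
  rw [injective_iff_map_eq_one]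
  intro c hc
  exact K521.SeesawRed.eq_one_of_field_ext k Y.left Y.hom Ω (bc Ω Y).left (pr Ω Y) (bc Ω Y).hom
    (isPullback_pr Ω Y) c hc

/-- The class `Mb ⊗ [-1]^* Mb` is Galois invariant. -/
theorem invariant [IsAlgClosed Ω] {X Y : Over (Spec (CommRingCat.of k))}
    [GrpObj X] [GrpObj Y] [IsProper Y.hom] [GeometricallyIntegral Y.hom]
    (u : X ⟶ Y) (v : Y ⟶ X) (N : ℕ) (hNΩ : (N : Ω) ≠ 0)
    (hvu : v ≫ u = (𝟙 Y) ^ N) {L : Pic X.left} {Mb : Pic (bc Ω Y).left}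
    (hMb : pl (bcHom Ω u) Mb = pull (pr Ω X) L ^ N) (σ : Ω ≃ₐ[k] Ω) :
    pull (conj σ Y) (Mb * pl (𝟙 (bc Ω Y))⁻¹ Mb) = Mb * pl (𝟙 (bc Ω Y))⁻¹ Mb := by
  have h1 : pl (bcHom Ω u) (pull (conj σ Y) Mb * Mb⁻¹) = 1 := by
    rw [map_mul, map_inv]
    have e1 : pl (bcHom Ω u) (pull (conj σ Y) Mb) = pull (conj σ X) (pl (bcHom Ω u) Mb) := by
      change pull (bcHom Ω u).left (pull (conj σ Y) Mb) =
        pull (conj σ X) (pull (bcHom Ω u).left Mb)
      rw [← pull_comp, ← conj_bcHom, pull_comp]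
    rw [e1, hMb, map_pow, ← pull_comp, conj_pr, mul_inv_cancel]
  have h2 : pl ((𝟙 (bc Ω Y)) ^ N) (pull (conj σ Y) Mb * Mb⁻¹) = 1 := by
    rw [← bcHom_pow, ← hvu, bcHom_comp, pl_comp, h1, map_one]
  have h3 := inv_of_pow N hNΩ _ h2
  have h4 := K506.Transl.pl_inv_of_inv h3 (𝟙 (bc Ω Y))
  have hid : pl (𝟙 (bc Ω Y)) (pull (conj σ Y) Mb * Mb⁻¹) = pull (conj σ Y) Mb * Mb⁻¹ :=
    (congrArg (fun f => pull f (pull (conj σ Y) Mb * Mb⁻¹)) (Over.id_left _)).trans (pull_id _)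
  have h5 : pull (conj σ Y) (pl (𝟙 (bc Ω Y))⁻¹ Mb) =
      pl (𝟙 (bc Ω Y))⁻¹ (pull (conj σ Y) Mb) := by
    rw [← K515.TateE.bcHom_inv]
    change pull (conj σ Y) (pull (bcHom Ω (𝟙 Y)⁻¹).left Mb) =
      pull (bcHom Ω (𝟙 Y)⁻¹).left (pull (conj σ Y) Mb)
    rw [← pull_comp, conj_bcHom, pull_comp]
  rw [hid, map_mul, map_inv, mul_inv, inv_inv] at h4
  rw [map_mul, h5]
  have h6 : pl (𝟙 (bc Ω Y))⁻¹ (pull (conj σ Y) Mb) =
      (pull (conj σ Y) Mb)⁻¹ * Mb * pl (𝟙 (bc Ω Y))⁻¹ Mb := by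
    rw [← h4, inv_mul_cancel_right]
  rw [h6, ← _root_.mul_assoc, mul_inv_cancel_left]

/-- The descended class. -/
theorem exists_class [IsAlgClosed Ω] [IsGalois k Ω] {X Y : Over (Spec (CommRingCat.of k))}
    [GrpObj X] [IsProper X.hom] [GeometricallyIntegral X.hom]
    [GrpObj Y] [IsProper Y.hom] [GeometricallyIntegral Y.hom]
    (u : X ⟶ Y) [IsMonHom u] (v : Y ⟶ X) (N : ℕ) (hNΩ : (N : Ω) ≠ 0)
    (hvu : v ≫ u = (𝟙 Y) ^ N) {L : Pic X.left} (hL : pl (𝟙 X)⁻¹ L = L) {Mb : Pic (bc Ω Y).left}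
    (hMb : pl (bcHom Ω u) Mb = pull (pr Ω X) L ^ N) :
    ∃ M : Pic Y.left, pl (𝟙 Y)⁻¹ M = M ∧ pl u M = L ^ (2 * N) := by
  obtain ⟨M, hM⟩ := exists_desc_class Y _ (invariant u v N hNΩ hvu hMb)
  have e : ∀ (f : Y ⟶ Y) , pull (pr Ω Y) (pl f M) = pl (bcHom Ω f) (pull (pr Ω Y) M) := by
    intro f
    change pull (pr Ω Y) (pull f.left M) = pull (bcHom Ω f).left (pull (pr Ω Y) M)
    rw [← pull_comp, ← bcHom_pr, pull_comp]
  refine ⟨M, pull_pr_injective Y (Ω := Ω) ?_, pull_pr_injective X (Ω := Ω) ?_⟩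
  · rw [e, K515.TateE.bcHom_inv, hM, pl_inv_symm]
  · have e1 : pull (pr Ω X) (pl u M) = pl (bcHom Ω u) (pull (pr Ω Y) M) := by
      change pull (pr Ω X) (pull u.left M) = pull (bcHom Ω u).left (pull (pr Ω Y) M)
      rw [← pull_comp, ← bcHom_pr, pull_comp]
    have e2 : bcHom Ω u ≫ (𝟙 (bc Ω Y))⁻¹ = (𝟙 (bc Ω X))⁻¹ ≫ bcHom Ω u := by
      rw [GrpObj.inv_comp, GrpObj.comp_inv, Category.id_comp, Category.comp_id]
    rw [e1, hM, map_mul, ← pl_comp, e2, pl_comp, hMb, map_pow, map_pow]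
    have h3 : pl (𝟙 (bc Ω X))⁻¹ (pull (pr Ω X) L) = pull (pr Ω X) L := K515.TateE.symm_LΩ Ω hL
    rw [h3, two_mul, pow_add]

/-- The degree of `u`. -/
theorem finrank_eq [IsAlgClosed Ω] {X Y : Over (Spec (CommRingCat.of k))}
    [GrpObj X] [GrpObj Y] [IsProper Y.hom] [GeometricallyIntegral Y.hom]
    (u : X ⟶ Y) [IsFinite u.left] [Etale u.left] {d : ℕ}
    (hcard : Nat.card {x : SGA7.Pts Ω X // x ≫ u = 1} = d) (y : Y.left) :
    Scheme.Hom.finrank u.left y = d := by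
  have : AlgebraicGeometry.IsIntegral Y.left :=
    GeometricallyIntegral.isIntegral_of_subsingleton Y.hom
  have h0 := Scheme.Hom.isLocallyConstant_finrank u.left
  let e : SGA7.pt Ω ⟶ Y := 1
  have h1 := Groth.Agent.Sga4h.EtTrace764.natCard_lifts u.left Ω e.left
    (IsLocalRing.closedPoint Ω)
  rw [h0.apply_eq_of_preconnectedSpace y (e.left (IsLocalRing.closedPoint Ω)), ← h1, ← hcard]
  refine Nat.card_congr ⟨fun t => ⟨Over.homMk t.1 ?_, ?_⟩, fun x => ⟨x.1.left, ?_⟩, ?_, ?_⟩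
  · rw [← Over.w u, reassoc_of% t.2]
    exact Over.w e
  · ext1
    exact t.2
  · rw [← Over.comp_left, x.2]
  · intro t
    rfl
  · intro x
    rfl

end desc

/-- **(NUM)** for algebraically closed Galois extensions. -/
theorem numModel {k Ω : Type u} [Field k] [Field Ω] [Algebra k Ω] [IsAlgClosed Ω] [IsGalois k Ω] :
    NumModel k Ω := by
  intro X Y _ _ _ _ _ _ _ _ u _ _ _ _ _ v _ N hNk huv hvu g hg hcard L hL hsym Mb hMb
  have hNΩ : (N : Ω) ≠ 0 := fun h0 => hNk ((algebraMap k Ω).injective (by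
    rw [map_natCast, map_zero, h0]))
  have hN : 0 < N := Nat.pos_of_ne_zero fun h0 => hNk (by rw [h0, Nat.cast_zero])
  obtain ⟨M1, hM1, hM2⟩ := exists_class (Ω := Ω) u v N hNΩ hvu hsym hMb
  have hsep : Y.left.IsSeparated := ⟨by
    rw [← terminal.comp_from Y.hom]; infer_instance⟩
  have : CompactSpace Y.left := (quasiCompact_iff_compactSpace (f := Y.hom)).mp inferInstance
  have hfin : IsFinite (v ≫ u).left := by
    rw [hvu]
    exact Groth.Agent.Grpsch.MulFin.isFinite_pow Y N hN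
  have hv : IsFinite v.left := by
    rw [Over.comp_left] at hfin
    exact IsFinite.of_comp v.left u.left
  have hgY : topologicalKrullDim Y.left = g :=
    (Groth.Agent.Sga3C.DimTop.topologicalKrullDim_eq_of_isIntegralHom u.left).symm.trans hg
  have hfr := finrank_eq u hcard
  -- `M1` is ample
  obtain ⟨M0, hM0, rfl⟩ := exists_mk M1
  have hLN := Groth.Agent.Divis.NormAmple.isAmple_tensorPow hL (N := 2 * N) (by omega)
  have hA0 : CohB1.IsAmple M0 := by
    have h1 : CohB1.IsAmple ((Scheme.Modules.pullback v.left).obj (CohB1.tensorPow L (2 * N))) :=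
      Groth.Agent.CohqB.AmpCocycle.isAmple_pullback _ hLN
    have h2 : pl v (mk (CohB1.tensorPow L (2 * N)) hLN.1) = mk M0 hM0 ^ (N ^ 2) := by
      have h3 := pl_pow_of_symm (mk M0 hM0) (𝟙 Y) hM1 N
      have h4 : pl (𝟙 Y) (mk M0 hM0) = mk M0 hM0 := pull_id _
      rw [mk_tensorPow hL.1, ← hM2, ← pl_comp, hvu, h3, h4]
    have h5 : CohB1.IsAmple (CohB1.tensorPow M0 (N ^ 2)) := by
      have h6 : mk _ h1.1 = mk _ (Groth.Agent.Fdesc.LocGen.isInvertible_tensorPow hM0 (N ^ 2)) := by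
        rw [mk_tensorPow hM0, ← h2]
        exact (pull_mk v.left hLN.1).symm
      obtain ⟨e⟩ := (mk_eq_iff _ _).mp h6
      exact Groth.Agent.CohqB.AmpCocycle.isAmple_of_iso e h1
    exact (Groth.Agent.S2327.result Y.left M0 hM0 (N ^ 2) (by positivity)).mpr h5
  have hA := Groth.Agent.Divis.NormAmple.isAmple_tensorPow hA0 (N := 2) (by omega)
  have hmk : mk _ hA.1 = mk M0 hM0 ^ 2 := mk_tensorPow hM0 2
  refine ⟨CohB1.tensorPow M0 2, hA, ?_, hgY, ?_⟩
  · rw [← mk_eq_iff (Groth.Agent.Fdesc.LocGen.isInvertible_pullback _ hA.1) hA.1, ← pull_mk _ hA.1,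
      hmk]
    change pl (𝟙 Y)⁻¹ (mk M0 hM0 ^ 2) = _
    rw [map_pow, hM1]
  · have h1 := euler_pull u (N ^ g) hfr hLN.1 hM0 (hM2.trans (mk_tensorPow hL.1 (2 * N)).symm)
    have h2 := euler_pow g hg hL.1 hLN.1 (2 * N) (mk_tensorPow hL.1 (2 * N))
    have h3 := euler_pow g hgY hM0 hA.1 2 hmk
    rw [h3]
    rw [h2] at h1
    have hNz : ((N : ℤ) ^ g) ≠ 0 := pow_ne_zero _ (by exact_mod_cast hN.ne')
    apply mul_left_cancel₀ hNz
    push_cast at h1 ⊢
    rw [mul_left_comm, ← h1, mul_pow]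
    have : (4 : ℤ) = 2 * 2 := by norm_num
    rw [this, mul_pow]
    ring

end K515.NumModel
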