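import Groth.Agent.AgPol.K814.Graph
import Groth.Agent.AbSch.K449.Basic
import Groth.Agent.Grpsch.CubePow
import Groth.Agent.EGA2.K30.AmpleLoc
import Groth.Agent.CohqB.AmpGeneric
import Groth.Agent.S2491
import Groth.Agent.Divis.NormAmple

/-!
# The bundle `(1, λ)^* P` of a polarisation over a field

For a polarisation `lam : B ⟶ Bt` over a field `k` and the Poincaré class `ξ`, an invertible module `M` with class
`(1, lam)^* ξ` is symmetric (`symm_M`) and ample (`ample_M`): over an algebraic closure its class is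
`c · [-1]^* c`, `c` the class of an ample module.
-/

set_option autoImplicit false
universe u

open CategoryTheory CategoryTheory.Limits MonoidalCategory CartesianMonoidalCategory AlgebraicGeometry
open scoped MonObj

namespace K515.PolFin

open Groth.Agent.Grpsch.PicGrp Groth.Agent.Grpsch.Cube Groth.Agent.Fga.RigGrp K732.PicZero K732.Prim
  K732.Dual K732.CubeSec K814.PrimGeom K814

section self

variable {K : Type u} [Field K] {B : Over (Spec (CommRingCat.of K))} [GrpObj B]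
  [IsProper B.hom] [GeometricallyIntegral B.hom]

theorem lam_self (c : Pic B.left) : K513.Lam.lam (𝟙 B) (𝟙 B) c = c * pl (𝟙 B)⁻¹ c := by
  have h1 := pl_pow c (𝟙 B) 2
  have h2 : pl (𝟙 B) c = c := pull_id _
  rw [h2] at h1
  norm_num at h1
  rw [K513.Lam.lam, h2, ← pow_two, h1]
  generalize pl (𝟙 B)⁻¹ c = d
  have h3 : c ^ 3 = c * c * c := by rw [pow_succ, pow_two]
  rw [h3, mul_right_comm _ d, mul_right_comm _ d, mul_inv_cancel_right, mul_inv_cancel_right]

omit [IsProper B.hom] [GeometricallyIntegral B.hom] in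
/-- `L ⊗ [-1]^* L` is ample. -/
theorem ample_symm (L : B.left.Modules) (hL : CohB1.IsAmple L) :
    ∃ (N : B.left.Modules) (hN : CohB1.IsAmple N), mk N hN.1 = mk L hL.1 * pl (𝟙 B)⁻¹ (mk L hL.1) := by
  have : IsIso ((𝟙 B)⁻¹).left := by
    have h1 : (𝟙 B)⁻¹ ≫ (𝟙 B)⁻¹ = 𝟙 B := by
      rw [GrpObj.comp_inv, Category.comp_id, inv_inv]
    have h2 := congrArg CommaMorphism.left h1
    exact ⟨((𝟙 B)⁻¹).left, h2, h2⟩
  have h1 : CohB1.IsAmple ((Scheme.Modules.pullback ((𝟙 B)⁻¹).left).obj L) :=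
    Groth.Agent.CohqB.AmpCocycle.isAmple_pullback _ hL
  have h2 := K30.AmpleLoc.isAmple_tensorMod' hL h1
  refine ⟨_, h2, ?_⟩
  rw [← mk_mul_mk hL.1 h1.1]
  congr 1

end self

section pol

variable {k : Type u} [Field k] {B Bt : Over (Spec (CommRingCat.of k))} [GrpObj B] [GrpObj Bt]
  [IsProper B.hom] [GeometricallyIntegral B.hom]
  {φ : AgPol.DualMap B Bt} (hD : AbDual.IsDualAV Scheme.fppfPrecoverage B Bt φ)
  {ξ : Pic (PicF.XT B.hom Bt)} (h1 : ξ ∈ pz B.hom Bt) (h2 : ξ ∈ rg B Bt) (h3 : cm φ ξ = 𝟙 Bt)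
  {lam : B ⟶ Bt} 

include h1 h2 in
theorem ev_inv_left {W : Over (Spec (CommRingCat.of k))} (a : W ⟶ B) (y : W ⟶ Bt) :
    ev a⁻¹ y ξ = (ev a y ξ)⁻¹ := by
  have h := Pair.ev_mul_left h1 h2 a⁻¹ a y
  rw [inv_mul_cancel, ev_one_of_mem h2] at h
  exact eq_inv_of_mul_eq_one_left h.symm

include hD h1 h2 h3

theorem ev_inv_right {W : Over (Spec (CommRingCat.of k))} (a : W ⟶ B) (y : W ⟶ Bt) :
    ev a y⁻¹ ξ = (ev a y ξ)⁻¹ := by
  have h := Pair.ev_mul_right hD h1 h2 h3 a y⁻¹ y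
  rw [inv_mul_cancel, Pair.ev_one_right hD h1 h2 h3] at h
  exact eq_inv_of_mul_eq_one_left h.symm

theorem symm_M [IsMonHom lam] : pl (𝟙 B)⁻¹ (ev (𝟙 B) lam ξ) = ev (𝟙 B) lam ξ := by
  have h4 : (𝟙 B)⁻¹ ≫ lam = lam⁻¹ := by
    rw [GrpObj.inv_comp, Category.id_comp]
  refine (Graph.gr_point lam ξ (𝟙 B)⁻¹).trans ?_
  rw [h4, ev_inv_left h1 h2, ev_inv_right hD h1 h2 h3, inv_inv]

theorem ample_M (hpol : AgPol.IsPolarization B Bt φ lam) (M : B.left.Modules) (hM : PicF.IsInvertible M)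
    (hMe : mk M hM = ev (𝟙 B) lam ξ) : CohB1.IsAmple M := by
  let τ : Spec (CommRingCat.of (AlgebraicClosure k)) ⟶ Spec (CommRingCat.of k) :=
    Spec.map (CommRingCat.ofHom (algebraMap k (AlgebraicClosure k)))
  obtain ⟨L, hL, hlam⟩ := hpol.2 (AlgebraicClosure k) τ
  have i1 : IsProper (Red.bc τ B).hom := inferInstanceAs (IsProper (pullback.snd B.hom τ))
  have i2 : GeometricallyIntegral (Red.bc τ B).hom :=
    inferInstanceAs (GeometricallyIntegral (pullback.snd B.hom τ))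
  have e1 := Fibre.fibre hD h1 h2 h3 τ lam hL.1 hlam (W := Red.bc τ B) (dn τ (𝟙 _)) (dn τ (𝟙 _))
  rw [up_dn, lam_self] at e1
  obtain ⟨N, hN, hNe⟩ := ample_symm L hL
  have e2 : pull (pullback.fst B.hom τ) (mk M hM) = mk N hN.1 := by
    rw [hNe]
    refine Eq.trans ?_ e1
    rw [hMe, ← Graph.gr_point]
    have h5 : (dn τ (𝟙 (Red.bc τ B))).left = pullback.fst B.hom τ :=
      (dn_left τ (𝟙 (Red.bc τ B))).trans (Category.id_comp _)
    rw [h5]
  rw [pull_mk _ hM] at e2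
  obtain ⟨e⟩ := (mk_eq_iff _ _).mp e2
  refine Groth.Agent.S2491.result B.hom τ M hM ?_
  exact Groth.Agent.CohqB.AmpCocycle.isAmple_of_iso e.symm hN

end pol

end K515.PolFin
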