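import Groth.Agent.AbVar.K515.PolFin
import Groth.Agent.AbVar.K515.PushRank
import Groth.Agent.AbVar.K515.Isotrop
import Groth.Agent.AbVar.K511.AmpleVan
import Groth.Agent.AbDual.K732.Dual
import Groth.Agent.S1842
import Groth.Agent.S4419
import Groth.Agent.Etdl.H427.RankComp
import Groth.Agent.Fixpt.H348.HHfin
import Groth.Agent.Sga3C.DimTop
import Groth.Agent.CalgB.ProjImm2

/-!
# Finiteness of polarised abelian varieties in an isogeny class over a finite field

`main` : S14941 from `FinAV` and the degree formula S14161 (as hypotheses).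
-/

set_option autoImplicit false
universe u

open CategoryTheory CategoryTheory.Limits MonoidalCategory CartesianMonoidalCategory AlgebraicGeometry
open scoped MonObj

namespace K515.PolFinMain

open Groth.Agent.Grpsch.PicGrp Groth.Agent.Grpsch.Cube Groth.Agent.Fga.RigGrp K732.PicZero K732.Prim
  K732.Dual K732.CubeSec K814.PrimGeom K814 K515.PolFin

/-- The statement of S14161. -/
def Stmt14161 : Prop := ∀ (S : Scheme.{u}) [IsLocallyNoetherian S] (A At : Over S) [GrpObj A] [IsCommMonObj A]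
    [GrpObj At] [IsCommMonObj At] (g : ℕ) (_ : AgPol.IsAbSch A g) (_ : RelProj.IsProjective A.hom)
    (φ : AgPol.DualMap A At) (_ : AbDual.IsDualAV Scheme.fppfPrecoverage A At φ)
    (L : A.left.Modules) (_ : PicF.IsInvertible L) (_ : RelAmple.IsRelAmple A.hom L)
    (lam : A ⟶ At) (_ : AgPol.IsLambda A At φ L lam) (r : ℕ)
    (_ : FlatMod.IsFinLocFreeOfRank r ((Coh.push A.hom).obj L)),
    AgPol.HasDegSq lam r

variable {k : Type u} [Field k]

theorem isAbSch (B : Over (Spec (CommRingCat.of k))) [GrpObj B] [IsProper B.hom]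
    [GeometricallyIntegral B.hom] (g : ℕ) (hg : topologicalKrullDim B.left = g) : AgPol.IsAbSch B g where
  smooth := K449.Basic.smooth B
  proper := inferInstance
  geomConnected := K814.Fibre.geomConn B.hom
  fibreDim := fun s => by
    have h1 : B.hom ⁻¹' {s} = Set.univ := by
      ext x
      simp only [Set.mem_preimage, Set.mem_singleton_iff, Set.mem_univ, iff_true]
      exact Subsingleton.elim _ _
    rw [← hg]
    exact IsHomeomorph.topologicalKrullDim_eq _
      (((B.hom.fiberHomeo s).trans (Homeomorph.setCongr h1)).trans (Homeomorph.Set.univ _)).isHomeomorph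

theorem isRelAmple (B : Over (Spec (CommRingCat.of k))) [IsProper B.hom] (M : B.left.Modules)
    (hM : CohB1.IsAmple M) : RelAmple.IsRelAmple B.hom M :=
  Groth.Agent.CalgB.ProjImm.isRelAmple_of_isAmple hM

theorem isProjective (B : Over (Spec (CommRingCat.of k))) [IsProper B.hom] (M : B.left.Modules)
    (hM : CohB1.IsAmple M) : RelProj.IsProjective B.hom :=
  Groth.Agent.S4419.result (Or.inl ⟨inferInstance, inferInstance⟩) B.hom
    ⟨inferInstance, inferInstance, M, isRelAmple B M hM⟩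

/-- The rank of `lam * lam`. -/
theorem finrank_sq {B Bt : Over (Spec (CommRingCat.of k))} [GrpObj B] [GrpObj Bt] [IsProper B.hom]
    [GeometricallyIntegral B.hom] (g : ℕ) (hg : topologicalKrullDim B.left = g) (lam : B ⟶ Bt)
    [IsMonHom lam] (d : ℕ) (h : AgPol.HasDegSq lam d) (y : Bt.left) :
    (lam * lam).left.finrank y = 2 ^ (2 * g) * d ^ 2 := by
  obtain ⟨i1, i2, i3, i4⟩ := h
  obtain ⟨j1, j2, j3⟩ := Groth.Agent.S1842.pos_case k B g hg 2 (by norm_num)
  have e : lam * lam = (𝟙 B ^ 2) ≫ lam := by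
    rw [MonObj.pow_comp, Category.id_comp, pow_two]
  rw [e, Over.comp_left, Groth.Agent.Etdl.H427.RankComp.finrank_comp _ _ (2 ^ (2 * g)) j3 y, i4 y]

/-- `χ(M)` is the dimension of `H^0`. -/
theorem euler_eq (B : Over (Spec (CommRingCat.of k))) [GrpObj B] [IsProper B.hom]
    [GeometricallyIntegral B.hom] (M : B.left.Modules) (hM : CohB1.IsAmple M) :
    @Curv2.euler k _ B.left ⟨B.hom⟩ M =
      @Module.finrank k (Coh.HH B.left M 0) _ _ (@Coh.moduleOver k _ B.left ⟨B.hom⟩ M 0) := by
  let _ : B.left.Over (Spec (CommRingCat.of k)) := ⟨B.hom⟩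
  change Curv2.euler k B.left M = Module.finrank k (Coh.HH B.left M 0)
  rw [Curv2.euler, finsum_eq_single _ 0]
  · simp
  · intro i hi
    have := K511.AmpleVan.vanish B M hM i (Nat.pos_of_ne_zero hi)
    rw [Module.finrank_zero_of_subsingleton]
    simp

theorem exists_M (h14161 : Stmt14161.{u}) {B Bt : Over (Spec (CommRingCat.of k))} [GrpObj B]
    [IsCommMonObj B] [IsProper B.hom] [GeometricallyIntegral B.hom] [GrpObj Bt] [IsCommMonObj Bt]
    (φ : AgPol.DualMap B Bt) (hD : AbDual.IsDualAV Scheme.fppfPrecoverage B Bt φ)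
    (g : ℕ) (hg : topologicalKrullDim B.left = g) (lam : B ⟶ Bt)
    (hpol : AgPol.IsPolarization B Bt φ lam) (d : ℕ) (hdeg : AgPol.HasDegSq lam d) :
    ∃ M : B.left.Modules, PicF.IsInvertible M ∧ CohB1.IsAmple M ∧
      Nonempty ((Scheme.Modules.pullback ((𝟙 B)⁻¹).left).obj M ≅ M) ∧
      @Curv2.euler k _ B.left ⟨B.hom⟩ M = (2 ^ g * d : ℕ) := by
  have := hpol.1
  have hsm := K449.Basic.smooth B
  obtain ⟨ξ, h1, h2, h3⟩ := exists_poinc hD (bijective_XTproj B.hom)
  obtain ⟨M, hM, hMe⟩ := exists_mk (ev (𝟙 B) lam ξ)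
  have hMa := ample_M hD h1 h2 h3 hpol M hM hMe.symm
  refine ⟨M, hM, hMa, ?_, ?_⟩
  · have h4 := symm_M hD h1 h2 h3 (lam := lam)
    rw [hMe] at h4
    rw [pull_mk _ hM] at h4
    exact (mk_eq_iff _ _).mp h4
  · let _ : B.left.Over (Spec (CommRingCat.of k)) := ⟨B.hom⟩
    have hpr : IsProper (B.left ↘ Spec (CommRingCat.of k)) := inferInstanceAs (IsProper B.hom)
    have hcoh : Coh.IsCoh M := Groth.Agent.VarietyA.CurveFin.isCoh_of_isInvertible hM
    have hfin : Module.Finite k (Coh.HH B.left M 0) := Groth.Agent.S0002.result k B.left M hcoh 0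
    set r := Module.finrank k (Coh.HH B.left M 0) with hr
    have h5 := h14161 (Spec (CommRingCat.of k)) B Bt g (isAbSch B g hg) (isProjective B M hMa) φ hD M hM
      (isRelAmple B M hMa) (lam * lam) (Graph.isLambda hD h1 h2 h3 hpol M hM hMe.symm) r
      (PushRank.isFinLocFreeOfRank_push B.hom M hcoh.1 r hfin rfl)
    have h6 : r ^ 2 = (2 ^ g * d) ^ 2 := by
      have h7 := h5.2.2.2 (η[Bt].left (IsLocalRing.closedPoint k))
      rw [finrank_sq g hg lam d hdeg] at h7
      rw [← h7, mul_pow, ← pow_mul, mul_comm g 2]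
    have h8 : r = 2 ^ g * d := (Nat.pow_left_injective (n := 2) (by norm_num)) h6
    rw [← h8]
    exact euler_eq B M hMa

/-- **Finiteness of polarised abelian varieties in an isogeny class.** -/
theorem main (h14161 : Stmt14161.{u}) (A : Over (Spec (CommRingCat.of k)))
    [GrpObj A] [IsProper A.hom] [GeometricallyIntegral A.hom] (d : ℕ) 
    (hFin : ∀ g c, K515.Isotrop.FinAV k g c) :
    ∃ (n : ℕ) (Bs : Fin n → Over (Spec (CommRingCat.of k))),
      ∀ (B Bt : Over (Spec (CommRingCat.of k))) [GrpObj B] [IsCommMonObj B] [IsProper B.hom] [GeometricallyIntegral B.hom]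
        [GrpObj Bt] [IsCommMonObj Bt] (φ : AgPol.DualMap B Bt),
        AbDual.IsDualAV Scheme.fppfPrecoverage B Bt φ →
        ∀ lam : B ⟶ Bt, AgPol.IsPolarization B Bt φ lam → AgPol.HasDegSq lam d →
        (∃ (u : A ⟶ B) (_ : IsMonHom u), IsFinite u.left ∧ Function.Surjective u.left.base) →
        ∃ i : Fin n, Nonempty (B ≅ Bs i) := by
  obtain ⟨g, hg⟩ := Groth.Agent.Sga7.H742.P1Dim.exists_dim A
  obtain ⟨n, Bs, hBs⟩ := hFin g (2 ^ g * d : ℕ)
  refine ⟨n, Bs, fun B Bt _ _ _ _ _ _ φ hD lam hpol hdeg hu => ?_⟩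
  obtain ⟨u, _, hu1, hu2⟩ := hu
  have : Surjective u.left := ⟨hu2⟩
  have hgB : topologicalKrullDim B.left = g :=
    (Groth.Agent.Sga3C.DimTop.topologicalKrullDim_eq_of_isIntegralHom u.left).symm.trans hg
  obtain ⟨M, hM, hMa, hs, he⟩ := exists_M h14161 φ hD g hgB lam hpol d hdeg
  exact hBs B M hgB hM hMa hs he

end K515.PolFinMain
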