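import Mathlib.RingTheory.Polynomial.RationalRoot
import Mathlib.FieldTheory.IsAlgClosed.Basic
import Mathlib.Analysis.Complex.Polynomial.Basic
import Mathlib.FieldTheory.Minpoly.Field

/-!
# Polynomials whose roots are roots of an irreducible polynomial
-/

set_option autoImplicit false

namespace K515.PolyPow

open Polynomial

/-- A monic rational polynomial all of whose complex roots are roots of the monic irreducible polynomial `h`
is a power of `h`. -/
theorem exists_pow {P h : ℚ[X]} (hP : P.Monic) (hh : h.Monic) (hi : Irreducible h)
    (hr : ∀ α : ℂ, aeval α P = 0 → aeval α h = 0) : ∃ n : ℕ, P = h ^ n := by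
  classical
  have key : ∀ q ∈ UniqueFactorizationMonoid.normalizedFactors P, q = h := by
    intro q hq
    have hqi := UniqueFactorizationMonoid.irreducible_of_normalized_factor q hq
    have hqd := UniqueFactorizationMonoid.dvd_of_mem_normalizedFactors hq
    obtain ⟨α, hα⟩ := IsAlgClosed.exists_aeval_eq_zero ℂ q (Polynomial.degree_pos_of_irreducible hqi).ne'
    have h1 : aeval α h = 0 := hr α (by
      obtain ⟨s, hs⟩ := hqd
      rw [hs, map_mul, hα, zero_mul])
    have h2 : h = minpoly ℚ α := minpoly.eq_of_irreducible_of_monic hi h1 hh
    have h3 : minpoly ℚ α ∣ q := minpoly.dvd ℚ α hα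
    have h4 : Associated h q := (hi.associated_of_dvd hqi (h2 ▸ h3))
    have h5 : normalize q = q := UniqueFactorizationMonoid.normalize_normalized_factor q hq
    rw [← h5, ← normalize_eq_normalize_iff_associated.mpr h4, hh.normalize_eq_self]
  have h6 := UniqueFactorizationMonoid.prod_normalizedFactors hP.ne_zero
  rw [Multiset.eq_replicate_of_mem key, Multiset.prod_replicate] at h6
  exact ⟨_, (Polynomial.eq_of_monic_of_associated (hh.pow _) hP h6).symm⟩

end K515.PolyPow
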