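import Groth.Agent.AbVar.K520.Prod
import Groth.Agent.S9816
import Groth.Agent.S2336
import Groth.Agent.Grpsch.CubePow

/-!
# Powers of an abelian variety with an ample product line bundle
-/

set_option autoImplicit false
universe u

open CategoryTheory CategoryTheory.Limits MonoidalCategory CartesianMonoidalCategory
  AlgebraicGeometry MonObj
open Groth.Agent.Grpsch.PicGrp Groth.Agent.Grpsch.Cube
open K520.Prod

namespace K515.PowAmp

variable {k : Type u} [Field k]

/-- Finite powers of an abelian variety, with the product of an ample line bundle. -/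
theorem exists_pow_ample (A : Over (Spec (CommRingCat.of k))) [GrpObj A] [IsCommMonObj A]
    [IsProper A.hom] [GeometricallyIntegral A.hom] (L : A.left.Modules) (hL : CohB1.IsAmple L)
    (n : ℕ) :
    ∃ (P : Over (Spec (CommRingCat.of k))) (_ : GrpObj P) (_ : IsCommMonObj P) (_ : IsProper P.hom)
      (_ : GeometricallyIntegral P.hom) (π : Fin n → (P ⟶ A)), (∀ i, IsMonHom (π i)) ∧
      (∀ (T : Over (Spec (CommRingCat.of k))) (a b : T ⟶ P), (∀ i, a ≫ π i = b ≫ π i) → a = b) ∧
      (∀ (T : Over (Spec (CommRingCat.of k))) (v : Fin n → (T ⟶ A)),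
        ∃ w : T ⟶ P, ∀ i, w ≫ π i = v i) ∧
      ∃ (M : P.left.Modules) (hM : CohB1.IsAmple M),
        mk M hM.1 = ∏ i, pl (π i) (mk L hL.1) := by
  induction n with
  | zero =>
    refine ⟨𝟙_ (Over _), inferInstance, inferInstance, inferInstanceAs (IsProper (𝟙 _)),
      geometricallyIntegral_unit, fun i => i.elim0, fun i => i.elim0, ?_, ?_, ?_⟩
    · intro T a b _
      exact toUnit_unique _ _
    · intro T v
      exact ⟨toUnit T, fun i => i.elim0⟩
    · have h1 : CohB1.IsAmple (Coh.structureModule (Spec (CommRingCat.of k))) :=
        (Groth.Agent.S2336.result _).mp inferInstance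
      refine ⟨Coh.structureModule (Spec (CommRingCat.of k)), h1, ?_⟩
      rw [Finset.univ_eq_empty, Finset.prod_empty]
      rfl
  | succ n ih =>
    obtain ⟨P, hP1, hP2, hP3, hP4, π, h4, h5, h6, M, hM, hMm⟩ := ih
    refine ⟨P ⊗ A, inferInstance, inferInstance, isProper_tensor _ _,
      geometricallyIntegral_tensor _ _, Fin.lastCases (snd _ _) (fun i => fst _ _ ≫ π i), ?_, ?_,
      ?_, ?_⟩
    · intro i
      refine Fin.lastCases ?_ (fun i => ?_) i
      · dsimp only
        rw [Fin.lastCases_last]
        infer_instance
      · dsimp only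
        rw [Fin.lastCases_castSucc]
        have := h4 i
        infer_instance
    · intro T a b hab
      apply CartesianMonoidalCategory.hom_ext
      · refine h5 _ _ _ fun i => ?_
        have := hab i.castSucc
        dsimp only at this
        rw [Fin.lastCases_castSucc] at this
        rw [Category.assoc, Category.assoc, this]
      · have := hab (Fin.last n)
        dsimp only at this
        rwa [Fin.lastCases_last] at this
    · intro T v
      obtain ⟨w, hw⟩ := h6 T (fun i => v i.castSucc)
      refine ⟨lift w (v (Fin.last n)), fun i => ?_⟩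
      refine Fin.lastCases ?_ (fun i => ?_) i
      · dsimp only
        rw [Fin.lastCases_last, lift_snd]
      · dsimp only
        rw [Fin.lastCases_castSucc, lift_fst_assoc, hw]
    · have h7 := Groth.Agent.S9816.result P.hom A.hom M L hM hL
      refine ⟨_, h7, ?_⟩
      have h8 : mk _ h7.1 = pl (fst P A) (mk M hM.1) * pl (snd P A) (mk L hL.1) := rfl
      rw [h8, hMm, Fin.prod_univ_castSucc, map_prod]
      congr 1
      · refine Finset.prod_congr rfl fun i _ => ?_
        dsimp only
        rw [Fin.lastCases_castSucc, pl_comp]
      · dsimp only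
        rw [Fin.lastCases_last]

end K515.PowAmp
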