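import Mathlib.LinearAlgebra.Matrix.NonsingularInverse
import Mathlib.LinearAlgebra.Dimension.Constructions
import Mathlib.LinearAlgebra.FiniteDimensional.Basic
import Mathlib.LinearAlgebra.Matrix.ToLin

/-!
# The quaternion trick: linear algebra
-/

set_option autoImplicit false

namespace K515.Quat

open Matrix Module

variable {F V VP : Type*} [Field F] [CharZero F] [AddCommGroup V] [Module F V]
  [AddCommGroup VP] [Module F VP]

/-- The data of an eightfold power of `V`. -/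
structure Pow8 (p : Fin 8 → (VP →ₗ[F] V)) (ι : Fin 8 → (V →ₗ[F] VP)) : Prop where
  pi_same : ∀ i x, p i (ι i x) = x
  pi_ne : ∀ i j, i ≠ j → ∀ x, p i (ι j x) = 0
  sum : ∀ v, ∑ i, ι i (p i v) = v

variable (p : Fin 8 → (VP →ₗ[F] V)) (I : Matrix (Fin 4) (Fin 4) F)

/-- the first four components -/
abbrev q (i : Fin 4) : VP →ₗ[F] V := p (Fin.castAdd 4 i)
/-- the last four components -/
abbrev r (i : Fin 4) : VP →ₗ[F] V := p (Fin.natAdd 4 i)

/-- `φ = q - Iᵀ r` -/
def φ (i : Fin 4) : VP →ₗ[F] V := q p i - ∑ j, I j i • r p j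

/-- `ψ = q + Iᵀ r` -/
def ψ (i : Fin 4) : VP →ₗ[F] V := q p i + ∑ j, I j i • r p j

/-- The subspace attached to a pair of subspaces. -/
def W' (W Wp : Submodule F V) : Submodule F VP :=
  (⨅ i, W.comap (φ p I i)) ⊓ (⨅ i, Wp.comap (ψ p I i))

variable {p I} {W Wp : Submodule F V}

omit [CharZero F] in
theorem mem_W' {v : VP} : v ∈ W' p I W Wp ↔ (∀ i, φ p I i v ∈ W) ∧ (∀ i, ψ p I i v ∈ Wp) := by
  simp [W']

omit [CharZero F] in
theorem q_add (i : Fin 4) (v : VP) : φ p I i v + ψ p I i v = (2 : F) • q p i v := by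
  simp only [φ, ψ, LinearMap.sub_apply, LinearMap.add_apply]
  rw [two_smul]
  abel

omit [CharZero F] in
theorem q_sub (i : Fin 4) (v : VP) :
    ψ p I i v - φ p I i v = (2 : F) • ∑ j, I j i • r p j v := by
  simp only [φ, ψ, LinearMap.sub_apply, LinearMap.add_apply, LinearMap.sum_apply,
    LinearMap.smul_apply]
  rw [two_smul]
  abel

omit [CharZero F] in
theorem mul_sum (hI : Iᵀ * I = -1) (x : Fin 4 → V) (i : Fin 4) :
    ∑ j, I j i • ∑ m, I j m • x m = - x i := by
  have h1 : ∀ j, I j i • ∑ m, I j m • x m = ∑ m, (Iᵀ i j * I j m) • x m := by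
    intro j
    rw [Finset.smul_sum]
    exact Finset.sum_congr rfl fun m _ => by rw [smul_smul, transpose_apply]
  rw [Finset.sum_congr rfl fun j _ => h1 j, Finset.sum_comm]
  have h2 : ∀ m, ∑ j, (Iᵀ i j * I j m) • x m = (-1 : Matrix (Fin 4) (Fin 4) F) i m • x m := by
    intro m
    rw [← Finset.sum_smul, ← hI, Matrix.mul_apply]
  rw [Finset.sum_congr rfl fun m _ => h2 m]
  simp [Matrix.one_apply]

omit [CharZero F] in
theorem mul_sum' (hI : Iᵀ * I = -1) (x : Fin 4 → V) (i : Fin 4) :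
    ∑ j, I i j • ∑ m, I m j • x m = - x i := by
  have hI' : I * Iᵀ = -1 := by
    have h1 : (-Iᵀ) * I = 1 := by rw [neg_mul, hI, neg_neg]
    have h2 := mul_eq_one_comm.mp h1
    rw [mul_neg] at h2
    rw [← h2, neg_neg]
  have := mul_sum (I := Iᵀ) (by rw [transpose_transpose]; exact hI') x i
  simpa using this

theorem eq_zero (hI : Iᵀ * I = -1) {ι : Fin 8 → (V →ₗ[F] VP)} (hp : Pow8 p ι) {v : VP}
    (h1 : ∀ i, φ p I i v = 0) (h2 : ∀ i, ψ p I i v = 0) : v = 0 := by
  have h2ne : (2 : F) ≠ 0 := two_ne_zero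
  have hq : ∀ i, q p i v = 0 := by
    intro i
    have h := q_add (p := p) (I := I) i v
    rw [h1, h2, add_zero] at h
    exact (smul_eq_zero_iff_right h2ne).mp h.symm
  have hr : ∀ i, r p i v = 0 := by
    intro i
    have h3 : ∀ j, ∑ m, I m j • r p m v = 0 := by
      intro j
      have h := q_sub (p := p) (I := I) j v
      rw [h1, h2, sub_zero] at h
      exact (smul_eq_zero_iff_right h2ne).mp h.symm
    have h4 := mul_sum' hI (fun m => r p m v) i
    simp only [h3, smul_zero, Finset.sum_const_zero] at h4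
    exact neg_eq_zero.mp h4.symm
  rw [← hp.sum v]
  refine Finset.sum_eq_zero fun i _ => ?_
  have h5 : p i v = 0 := by
    refine Fin.addCases (m := 4) (n := 4) (motive := fun i => p i v = 0) hq hr i
  rw [h5, map_zero]

theorem exists_eq (hI : Iᵀ * I = -1) {ι : Fin 8 → (V →ₗ[F] VP)} (hp : Pow8 p ι)
    (x y : Fin 4 → V) : ∃ v, (∀ i, φ p I i v = x i) ∧ ∀ i, ψ p I i v = y i := by
  have h2ne : (2 : F) ≠ 0 := two_ne_zero
  let a : Fin 4 → V := fun i => (2 : F)⁻¹ • (x i + y i)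
  let b : Fin 4 → V := fun i => ∑ j, I i j • ((2 : F)⁻¹ • (x j - y j))
  let z : Fin 8 → V := Fin.addCases (m := 4) (n := 4) a b
  let v : VP := ∑ i, ι i (z i)
  have hv : ∀ i, p i v = z i := by
    intro i
    rw [map_sum, Finset.sum_eq_single i]
    · exact hp.pi_same _ _
    · intro j _ hj
      exact hp.pi_ne _ _ hj.symm _
    · intro h; exact absurd (Finset.mem_univ i) h
  have hq : ∀ i, q p i v = a i := fun i => (hv _).trans (Fin.addCases_left _)
  have hr : ∀ i, r p i v = b i := fun i => (hv _).trans (Fin.addCases_right _)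
  have hs : ∀ i, ∑ j, I j i • r p j v = -((2 : F)⁻¹ • (x i - y i)) := by
    intro i
    simp only [hr]
    exact mul_sum hI _ i
  refine ⟨v, fun i => ?_, fun i => ?_⟩
  · simp only [φ, LinearMap.sub_apply, LinearMap.sum_apply, LinearMap.smul_apply]
    rw [hs, hq]
    change (2 : F)⁻¹ • (x i + y i) - -((2 : F)⁻¹ • (x i - y i)) = x i
    rw [sub_neg_eq_add, ← smul_add]
    have : x i + y i + (x i - y i) = (2 : F) • x i := by rw [two_smul]; abel
    rw [this, smul_smul, inv_mul_cancel₀ h2ne, one_smul]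
  · simp only [ψ, LinearMap.add_apply, LinearMap.sum_apply, LinearMap.smul_apply]
    rw [hs, hq]
    change (2 : F)⁻¹ • (x i + y i) + -((2 : F)⁻¹ • (x i - y i)) = y i
    rw [← sub_eq_add_neg, ← smul_sub]
    have : x i + y i - (x i - y i) = (2 : F) • y i := by rw [two_smul]; abel
    rw [this, smul_smul, inv_mul_cancel₀ h2ne, one_smul]

theorem finrank_W' [FiniteDimensional F V] (hI : Iᵀ * I = -1) {ι : Fin 8 → (V →ₗ[F] VP)}
    (hp : Pow8 p ι) :
    finrank F (W' p I W Wp) = 4 * finrank F W + 4 * finrank F Wp := by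
  let Θ : W' p I W Wp →ₗ[F] (Fin 4 → W) × (Fin 4 → Wp) :=
    LinearMap.prod
      (LinearMap.pi fun i => ((φ p I i).comp (W' p I W Wp).subtype).codRestrict W
        fun v => (mem_W'.mp v.2).1 i)
      (LinearMap.pi fun i => ((ψ p I i).comp (W' p I W Wp).subtype).codRestrict Wp
        fun v => (mem_W'.mp v.2).2 i)
  have hΘ : Function.Bijective Θ := by
    constructor
    · rw [← LinearMap.ker_eq_bot, LinearMap.ker_eq_bot']
      rintro ⟨v, hv⟩ h
      apply Subtype.ext
      refine eq_zero hI hp (fun i => ?_) (fun i => ?_)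
      · exact congrArg Subtype.val (congrFun (congrArg Prod.fst h) i)
      · exact congrArg Subtype.val (congrFun (congrArg Prod.snd h) i)
    · rintro ⟨x, y⟩
      obtain ⟨v, h1, h2⟩ := exists_eq hI hp (fun i => (x i : V)) (fun i => (y i : V))
      refine ⟨⟨v, mem_W'.mpr ⟨fun i => by rw [h1]; exact (x i).2,
        fun i => by rw [h2]; exact (y i).2⟩⟩, Prod.ext ?_ ?_⟩
      · funext i
        exact Subtype.ext (h1 i)
      · funext i
        exact Subtype.ext (h2 i)
  rw [(LinearEquiv.ofBijective Θ hΘ).finrank_eq, finrank_prod, finrank_pi_fintype,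
    finrank_pi_fintype]
  simp

/-- `φ 0` maps `W'` onto `W`. -/
theorem map_W' (hI : Iᵀ * I = -1) {ι : Fin 8 → (V →ₗ[F] VP)} (hp : Pow8 p ι) :
    (W' p I W Wp).map (φ p I 0) = W := by
  apply le_antisymm
  · rintro _ ⟨v, hv, rfl⟩
    exact (mem_W'.mp hv).1 0
  · intro w hw
    obtain ⟨v, h1, h2⟩ := exists_eq hI hp (fun _ => w) (fun _ => 0)
    refine ⟨v, mem_W'.mpr ⟨fun i => by rw [h1]; exact hw, fun i => by rw [h2]; exact zero_mem _⟩,
      h1 0⟩

/-- stability -/
theorem map_W'_le {g : V →ₗ[F] V} {G : VP →ₗ[F] VP} (hg : ∀ i v, p i (G v) = g (p i v))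
    (h1 : W.map g ≤ W) (h2 : Wp.map g ≤ Wp) : (W' p I W Wp).map G ≤ W' p I W Wp := by
  rintro _ ⟨v, hv, rfl⟩
  rw [mem_W']
  have hφ : ∀ i, φ p I i (G v) = g (φ p I i v) := by
    intro i
    simp only [φ, LinearMap.sub_apply, LinearMap.sum_apply, LinearMap.smul_apply, hg, map_sub,
      map_sum, map_smul]
  have hψ : ∀ i, ψ p I i (G v) = g (ψ p I i v) := by
    intro i
    simp only [ψ, LinearMap.add_apply, LinearMap.sum_apply, LinearMap.smul_apply, hg, map_add,
      map_sum, map_smul]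
  exact ⟨fun i => by rw [hφ]; exact h1 ⟨_, (mem_W'.mp hv).1 i, rfl⟩,
    fun i => by rw [hψ]; exact h2 ⟨_, (mem_W'.mp hv).2 i, rfl⟩⟩

/-- isotropy -/
theorem sum_eq_zero (hI : Iᵀ * I = -1) (B : V →ₗ[F] V →ₗ[F] F)
    (h1 : ∀ w ∈ W, ∀ v ∈ Wp, B w v = 0) (h2 : ∀ w ∈ W, ∀ v ∈ Wp, B v w = 0) {u v : VP}
    (hu : u ∈ W' p I W Wp) (hv : v ∈ W' p I W Wp) : ∑ i, B (p i u) (p i v) = 0 := by
  have h2ne : (2 : F) ≠ 0 := two_ne_zero
  obtain ⟨hu1, hu2⟩ := mem_W'.mp hu
  obtain ⟨hv1, hv2⟩ := mem_W'.mp hv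
  have hsum : ∑ i, B (p i u) (p i v) =
      ∑ i : Fin 4, B (q p i u) (q p i v) + ∑ i : Fin 4, B (r p i u) (r p i v) :=
    Fin.sum_univ_add (a := 4) (b := 4) (fun i => B (p i u) (p i v))
  -- `∑ B(r u, r v) = -∑ B(Iᵀ r u, Iᵀ r v)`
  have hr : ∑ i : Fin 4, B (r p i u) (r p i v) =
      - ∑ i : Fin 4, B (∑ j, I j i • r p j u) (∑ j, I j i • r p j v) := by
    have h3 : ∀ i : Fin 4, B (∑ j, I j i • r p j u) (∑ j, I j i • r p j v) =
        ∑ j, B (r p j u) (I j i • ∑ m, I m i • r p m v) := by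
      intro i
      rw [LinearMap.map_sum₂]
      refine Finset.sum_congr rfl fun j _ => ?_
      rw [LinearMap.map_smul₂, map_smul]
    rw [Finset.sum_congr rfl fun i _ => h3 i, Finset.sum_comm]
    have h4 : ∀ j : Fin 4, ∑ i, B (r p j u) (I j i • ∑ m, I m i • r p m v) =
        - B (r p j u) (r p j v) := by
      intro j
      rw [← map_sum, mul_sum' hI (fun m => r p m v) j, map_neg]
    rw [Finset.sum_congr rfl fun j _ => h4 j, Finset.sum_neg_distrib, neg_neg]
  have key : ∀ i : Fin 4, (4 : F) * (B (q p i u) (q p i v) -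
      B (∑ j, I j i • r p j u) (∑ j, I j i • r p j v)) = 0 := by
    intro i
    have e1 := q_add (p := p) (I := I) i u
    have e2 := q_add (p := p) (I := I) i v
    have e3 := q_sub (p := p) (I := I) i u
    have e4 := q_sub (p := p) (I := I) i v
    have e5 : B (φ p I i u + ψ p I i u) (φ p I i v + ψ p I i v) = 4 * B (q p i u) (q p i v) := by
      rw [e1, e2]
      simp only [map_smul, LinearMap.smul_apply, smul_eq_mul]
      ring
    have e6 : B (ψ p I i u - φ p I i u) (ψ p I i v - φ p I i v) =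
        4 * B (∑ j, I j i • r p j u) (∑ j, I j i • r p j v) := by
      rw [e3, e4]
      simp only [map_smul, LinearMap.smul_apply, smul_eq_mul]
      ring
    rw [mul_sub, ← e5, ← e6]
    simp only [map_add, map_sub, LinearMap.add_apply, LinearMap.sub_apply]
    rw [h1 _ (hu1 i) _ (hv2 i), h2 _ (hv1 i) _ (hu2 i)]
    ring
  rw [hsum, hr, ← sub_eq_add_neg, ← Finset.sum_sub_distrib]
  refine Finset.sum_eq_zero fun i _ => ?_
  exact (mul_eq_zero.mp (key i)).resolve_left (by norm_num)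

end K515.Quat
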