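import Groth.Agent.AbVar.K515.TateRank
import Groth.Agent.AbVar.K515.PowAmp
import Groth.Agent.AbVar.K515.Quat
import Groth.Agent.AbVar.K515.FourSq

/-!
# The eighth power of an abelian variety: Tate modules and pairings
-/

set_option autoImplicit false
universe u

open CategoryTheory CategoryTheory.Limits MonoidalCategory CartesianMonoidalCategory
  AlgebraicGeometry MonObj
open Groth.Agent.Grpsch.PicGrp Groth.Agent.Grpsch.Cube
open K515.Bc K515.TateE K515.TateForm K515.Lattice K515.TateRank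
open AbDual
open scoped TensorProduct

noncomputable section

namespace K515.Pow8

variable {k : Type u} [Field k]

theorem isMonHom_one {S : Scheme.{u}} (G H : Over S) [GrpObj G] [GrpObj H] :
    IsMonHom (1 : G ⟶ H) where
  one_hom := by
    rw [Hom.one_def, ← Category.assoc, toUnit_unique (η[G] ≫ toUnit G) (𝟙 _), Category.id_comp]
  mul_hom := by
    rw [MonObj.comp_one, ← lift_fst_comp_snd_comp, ← Hom.mul_def, MonObj.comp_one,
      MonObj.comp_one, _root_.mul_one]

section inc

variable {A P : Over (Spec (CommRingCat.of k))} [GrpObj A] [IsCommMonObj A] [GrpObj P]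
  [IsCommMonObj P] {n : ℕ} {π : Fin n → (P ⟶ A)}

/-- the inclusions -/
theorem exists_inc (hπ : ∀ i, IsMonHom (π i))
    (h5 : ∀ (T : Over (Spec (CommRingCat.of k))) (a b : T ⟶ P),
      (∀ i, a ≫ π i = b ≫ π i) → a = b)
    (h6 : ∀ (T : Over (Spec (CommRingCat.of k))) (v : Fin n → (T ⟶ A)),
        ∃ w : T ⟶ P, ∀ i, w ≫ π i = v i) :
    ∃ inc : Fin n → (A ⟶ P), (∀ i, IsMonHom (inc i)) ∧ (∀ i, inc i ≫ π i = 𝟙 A) ∧
      (∀ i j, i ≠ j → inc i ≫ π j = 1) := by
  classical
  have h7 : ∀ i, ∃ w : A ⟶ P, IsMonHom w ∧ ∀ j, w ≫ π j = if i = j then 𝟙 A else 1 := by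
    intro i
    obtain ⟨w, hw⟩ := h6 A (fun j => if i = j then 𝟙 A else 1)
    have hv : ∀ j, IsMonHom (w ≫ π j) := by
      intro j
      rw [hw]
      split_ifs
      · infer_instance
      · exact isMonHom_one _ _
    refine ⟨w, ?_, hw⟩
    constructor
    · refine h5 _ _ _ fun j => ?_
      have := hπ j
      have := hv j
      rw [Category.assoc, IsMonHom.one_hom, IsMonHom.one_hom]
    · refine h5 _ _ _ fun j => ?_
      have := hπ j
      have := hv j
      rw [Category.assoc, Category.assoc, IsMonHom.mul_hom, IsMonHom.mul_hom,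
        ← tensorHom_comp_tensorHom_assoc]
  choose inc hinc hinc' using h7
  refine ⟨inc, hinc, fun i => ?_, fun i j hij => ?_⟩
  · rw [hinc', if_pos rfl]
  · rw [hinc', if_neg hij]

end inc

/-! ### Tate modules -/

section tate

variable (Ω : Type u) [Field Ω] [Algebra k Ω] (l : ℕ) [hl : Fact l.Prime]
  {X Y Z P : Over (Spec (CommRingCat.of k))} [GrpObj X] [IsCommMonObj X] [GrpObj Y] [IsCommMonObj Y]
  [GrpObj Z] [IsCommMonObj Z] [GrpObj P] [IsCommMonObj P]

/-- The rational Tate module. -/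
abbrev V (X : Over (Spec (CommRingCat.of k))) [GrpObj X] [IsCommMonObj X] : Type u :=
  ℚ_[l] ⊗[ℤ_[l]] TateMod X l (SGA7.pt Ω)

/-- The map on rational Tate modules. -/
abbrev Vmap (f : X ⟶ Y) [IsMonHom f] : V Ω l X →ₗ[ℚ_[l]] V Ω l Y :=
  (tateMapₗ (l := l) (T := SGA7.pt Ω) f).baseChange ℚ_[l]

/-- The span of the maps of homomorphisms. -/
def H (X Y : Over (Spec (CommRingCat.of k))) [GrpObj X] [IsCommMonObj X] [GrpObj Y]
    [IsCommMonObj Y] : Submodule ℚ_[l] (V Ω l X →ₗ[ℚ_[l]] V Ω l Y) :=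
  Submodule.span ℚ_[l] {ψ | ∃ (f : X ⟶ Y) (_ : IsMonHom f), ψ = Vmap Ω l f}

variable {Ω l}

theorem Vmap_mem (f : X ⟶ Y) [IsMonHom f] : Vmap Ω l f ∈ H Ω l X Y :=
  Submodule.subset_span ⟨f, inferInstance, rfl⟩

theorem Vmap_comp (f : X ⟶ Y) [IsMonHom f] (g : Y ⟶ Z) [IsMonHom g] :
    Vmap Ω l (f ≫ g) = Vmap Ω l g ∘ₗ Vmap Ω l f := by
  rw [Vmap, K519.Tate.tateMapₗ_comp, LinearMap.baseChange_comp]

theorem comp_mem {a : V Ω l X →ₗ[ℚ_[l]] V Ω l Y} {b : V Ω l Y →ₗ[ℚ_[l]] V Ω l Z}
    (ha : a ∈ H Ω l X Y) (hb : b ∈ H Ω l Y Z) : b ∘ₗ a ∈ H Ω l X Z := by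
  induction hb using Submodule.span_induction with
  | mem b hb =>
    obtain ⟨g, _, rfl⟩ := hb
    induction ha using Submodule.span_induction with
    | mem a ha =>
      obtain ⟨f, _, rfl⟩ := ha
      rw [← Vmap_comp]
      exact Vmap_mem _
    | zero => rw [LinearMap.comp_zero]; exact zero_mem _
    | add a a' _ _ h h' => rw [LinearMap.comp_add]; exact add_mem h h'
    | smul c a _ h => rw [LinearMap.comp_smul]; exact Submodule.smul_mem _ _ h
  | zero => rw [LinearMap.zero_comp]; exact zero_mem _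
  | add b b' _ _ h h' => rw [LinearMap.add_comp]; exact add_mem h h'
  | smul c b _ h => rw [LinearMap.smul_comp]; exact Submodule.smul_mem _ _ h

theorem tateMap_one (x : TateMod X l (SGA7.pt Ω)) :
    (haveI := isMonHom_one X Y; tateMapₗ (l := l) (T := SGA7.pt Ω) (1 : X ⟶ Y)) x = 0 := by
  have := isMonHom_one X Y
  refine TateMod.ext fun n => ?_
  apply Additive.toMul.injective
  exact MonObj.comp_one (M := Y) (c n x)

theorem ext_of_jointly {n : ℕ} {π : Fin n → (P ⟶ X)} (hπ : ∀ i, IsMonHom (π i))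
    (h5 : ∀ (T : Over (Spec (CommRingCat.of k))) (a b : T ⟶ P),
      (∀ i, a ≫ π i = b ≫ π i) → a = b) {x y : TateMod P l (SGA7.pt Ω)}
    (h : ∀ i, tateMapₗ (π i) x = tateMapₗ (π i) y) : x = y := by
  refine TateMod.ext fun m => ?_
  apply Additive.toMul.injective
  refine h5 _ _ _ fun i => ?_
  exact congrArg (c m) (h i)

/-- The rational Tate module of the power. -/
theorem pow8 {π : Fin 8 → (P ⟶ X)} (hπ : ∀ i, IsMonHom (π i))
    (h5 : ∀ (T : Over (Spec (CommRingCat.of k))) (a b : T ⟶ P),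
      (∀ i, a ≫ π i = b ≫ π i) → a = b)
    {inc : Fin 8 → (X ⟶ P)} (hinc : ∀ i, IsMonHom (inc i)) (h1 : ∀ i, inc i ≫ π i = 𝟙 X)
    (h2 : ∀ i j, i ≠ j → inc i ≫ π j = 1) :
    Quat.Pow8 (fun i => Vmap Ω l (π i)) (fun i => Vmap Ω l (inc i)) := by
  have e1 : ∀ i (x : TateMod X l (SGA7.pt Ω)), tateMapₗ (π i) (tateMapₗ (inc i) x) = x := by
    intro i x
    refine TateMod.ext fun n => ?_
    apply Additive.toMul.injective
    change (c n x ≫ inc i) ≫ π i = c n x
    rw [Category.assoc, h1, Category.comp_id]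
  have e2 : ∀ i j, i ≠ j → ∀ x : TateMod X l (SGA7.pt Ω),
      tateMapₗ (π i) (tateMapₗ (inc j) x) = 0 := by
    intro i j hij x
    refine TateMod.ext fun n => ?_
    apply Additive.toMul.injective
    change (c n x ≫ inc j) ≫ π i = 1
    rw [Category.assoc, h2 j i hij.symm, MonObj.comp_one]
  have e3 : ∀ x : TateMod P l (SGA7.pt Ω), ∑ i, tateMapₗ (inc i) (tateMapₗ (π i) x) = x := by
    intro x
    refine ext_of_jointly hπ h5 fun j => ?_
    rw [map_sum, Finset.sum_eq_single j]
    · exact e1 j _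
    · intro i _ hij
      exact e2 j i hij.symm _
    · intro h; exact absurd (Finset.mem_univ j) h
  refine ⟨fun i x => ?_, fun i j hij x => ?_, fun v => ?_⟩
  · induction x using TensorProduct.induction_on with
    | zero => simp
    | tmul a x =>
      beta_reduce
      rw [LinearMap.baseChange_tmul, LinearMap.baseChange_tmul, e1]
    | add x y hx hy => rw [map_add, map_add, hx, hy]
  · induction x using TensorProduct.induction_on with
    | zero => simp
    | tmul a x =>
      beta_reduce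
      rw [LinearMap.baseChange_tmul, LinearMap.baseChange_tmul, e2 i j hij, TensorProduct.tmul_zero]
    | add x y hx hy => rw [map_add, map_add, hx, hy, add_zero]
  · induction v using TensorProduct.induction_on with
    | zero => simp
    | tmul a x =>
      beta_reduce
      simp only [LinearMap.baseChange_tmul]
      rw [← TensorProduct.tmul_sum, e3]
    | add x y hx hy =>
      simp only [map_add, Finset.sum_add_distrib]
      rw [hx, hy]

end tate

end K515.Pow8
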