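import Mathlib.RingTheory.SimpleModule.Basic
import Mathlib.RingTheory.SimpleModule.WedderburnArtin

/-!
# Ranges in semisimple algebras of endomorphisms
-/

set_option autoImplicit false

namespace K515.RangeGlue

open MulOpposite

/-- In a semisimple algebra of endomorphisms a sum of ranges is a range. -/
theorem exists_single {K V : Type*} [Field K] [AddCommGroup V] [Module K V]
    (E : Subalgebra K (Module.End K V)) [IsSemisimpleRing E] {n : ℕ}
    (u : Fin n → Module.End K V) (hu : ∀ j, u j ∈ E) :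
    ∃ e ∈ E, LinearMap.range e = ⨆ j, LinearMap.range (u j) := by
  let U : Fin n → Eᵐᵒᵖ := fun j => op ⟨u j, hu j⟩
  obtain ⟨e, -, hs⟩ := IsSemisimpleRing.ideal_eq_span_idempotent (Ideal.span (Set.range U))
  refine ⟨(unop e : E), (unop e).2, le_antisymm ?_ ?_⟩
  · have h1 : e ∈ Ideal.span (Set.range U) := hs ▸ Ideal.mem_span_singleton_self e
    obtain ⟨c, hc⟩ := Submodule.mem_span_range_iff_exists_fun _ |>.mp h1
    rintro _ ⟨v, rfl⟩
    have h2 : ((unop e : E) : Module.End K V) = ∑ i, u i * (unop (c i) : E) := by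
      rw [← hc, Finset.unop_sum, AddSubmonoidClass.coe_finset_sum]
      rfl
    rw [h2, LinearMap.sum_apply]
    exact Submodule.sum_mem _ fun i _ => Submodule.mem_iSup_of_mem i ⟨_, rfl⟩
  · refine iSup_le fun j => ?_
    have h1 : U j ∈ Ideal.span {e} := hs ▸ Ideal.subset_span ⟨j, rfl⟩
    obtain ⟨a, ha⟩ := Ideal.mem_span_singleton'.mp h1
    have h2 : u j = ((unop e : E) : Module.End K V) * (unop a : E) := by
      have h3 := congrArg (fun x => ((unop x : E) : Module.End K V)) ha
      exact h3.symm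
    rintro _ ⟨v, rfl⟩
    rw [h2]
    exact ⟨_, rfl⟩

end K515.RangeGlue
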