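import Groth.Agent.AbVar.K515.TateRank
import Groth.Prelude.Def_EndTate

/-!
# Tate modules and base change

* `tateEquiv e : TateMod A l T ≃ₗ TateMod B l T'` for an isomorphism `e` of groups of points (any base schemes).
* `bcEquiv : TateMod X l (SGA7.pt Ω) ≃ₗ TateMod (bc Ω X) l (Over.mk (𝟙 _))` and `charpoly_eq`.
-/

set_option autoImplicit false
universe u

open CategoryTheory CategoryTheory.Limits MonoidalCategory CartesianMonoidalCategory
  AlgebraicGeometry MonObj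
open AbDual K515.Bc

noncomputable section

namespace K515.TateBC

section

variable {S S' : Scheme.{u}} {A : Over S} {B : Over S'} [GrpObj A] [IsCommMonObj A] [GrpObj B]
  [IsCommMonObj B] {T : Over S} {T' : Over S'} (l : ℕ) [hl : Fact l.Prime]

/-- The map of Tate modules. -/
def tateHom (e : (T ⟶ A) →* (T' ⟶ B)) : TateMod A l T →ₗ[ℤ_[l]] TateMod B l T' where
  toFun x := ⟨fun n => Additive.ofMul (e ((x : ℕ → Additive (T ⟶ A)) n).toMul),
    ⟨fun n => by
        have h := congrArg (MonoidHom.toAdditive e) (x.torsion n)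
        rw [map_nsmul, map_zero] at h
        exact h,
      fun n => by
        have h := congrArg (MonoidHom.toAdditive e) (x.compat n)
        rw [map_nsmul] at h
        exact h⟩⟩
  map_add' x y := TateMod.ext fun n => (MonoidHom.toAdditive e).map_add _ _
  map_smul' a x := TateMod.ext fun n => (MonoidHom.toAdditive e).map_nsmul _ _

theorem tateHom_apply (e : (T ⟶ A) →* (T' ⟶ B)) (x : TateMod A l T) (n : ℕ) :
    (tateHom l e x : ℕ → Additive (T' ⟶ B)) n =
      Additive.ofMul (e ((x : ℕ → Additive (T ⟶ A)) n).toMul) := rfl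

/-- The isomorphism of Tate modules. -/
def tateEquiv (e : (T ⟶ A) ≃* (T' ⟶ B)) : TateMod A l T ≃ₗ[ℤ_[l]] TateMod B l T' :=
  LinearEquiv.ofLinear (tateHom l e.toMonoidHom) (tateHom l e.symm.toMonoidHom)
    (LinearMap.ext fun x => TateMod.ext fun n => by
      rw [LinearMap.comp_apply, tateHom_apply, tateHom_apply]
      exact e.apply_symm_apply _)
    (LinearMap.ext fun x => TateMod.ext fun n => by
      rw [LinearMap.comp_apply, tateHom_apply, tateHom_apply]
      exact e.symm_apply_apply _)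

theorem tateEquiv_apply (e : (T ⟶ A) ≃* (T' ⟶ B)) (x : TateMod A l T) (n : ℕ) :
    (tateEquiv l e x : ℕ → Additive (T' ⟶ B)) n =
      Additive.ofMul (e ((x : ℕ → Additive (T ⟶ A)) n).toMul) := rfl

theorem tateEquiv_comp {A' : Over S} {B' : Over S'} [GrpObj A'] [IsCommMonObj A'] [GrpObj B']
    [IsCommMonObj B'] (e : (T ⟶ A) ≃* (T' ⟶ B)) (e' : (T ⟶ A') ≃* (T' ⟶ B'))
    (f : A ⟶ A') [IsMonHom f] (f' : B ⟶ B') [IsMonHom f'] (h : ∀ x, e' (x ≫ f) = e x ≫ f')
    (x : TateMod A l T) : tateEquiv l e' (tateMapₗ f x) = tateMapₗ f' (tateEquiv l e x) :=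
  TateMod.ext fun n => congrArg Additive.ofMul (h _)

end

variable {k Ω : Type u} [Field k] [Field Ω] [Algebra k Ω] (l : ℕ) [hl : Fact l.Prime]
  {X Y : Over (Spec (CommRingCat.of k))} [GrpObj X] [IsCommMonObj X] [IsProper X.hom]
  [GeometricallyIntegral X.hom] [GrpObj Y] [IsCommMonObj Y] [IsProper Y.hom]
  [GeometricallyIntegral Y.hom]

variable (Ω X) in
/-- Points of the base change. -/
def ptsE : (SGA7.pt (K := k) Ω ⟶ X) ≃* (Over.mk (𝟙 (Spec (CommRingCat.of Ω))) ⟶ bc Ω X) :=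
  (ptE Ω (X := X)).symm

theorem ptsE_comp (f : X ⟶ Y) (x : SGA7.pt (K := k) Ω ⟶ X) :
    ptsE Ω Y (x ≫ f) = ptsE Ω X x ≫ bcHom Ω f := by
  apply (ptE Ω (X := Y)).injective
  change ptE Ω ((ptE Ω).symm (x ≫ f)) = ptE Ω ((ptE Ω).symm x ≫ bcHom Ω f)
  rw [ptE_comp, MulEquiv.apply_symm_apply, MulEquiv.apply_symm_apply]

variable (Ω X) in
/-- **The Tate module of the base change.** -/
def bcEquiv : TateMod X l (SGA7.pt (K := k) Ω) ≃ₗ[ℤ_[l]]
    TateMod (bc Ω X) l (Over.mk (𝟙 (Spec (CommRingCat.of Ω)))) := tateEquiv l (ptsE Ω X)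

theorem bcEquiv_comp (f : X ⟶ Y) [IsMonHom f] (x : TateMod X l (SGA7.pt (K := k) Ω)) :
    bcEquiv Ω l Y (tateMapₗ f x) = tateMapₗ (bcHom Ω f) (bcEquiv Ω l X x) :=
  tateEquiv_comp l _ _ f (bcHom Ω f) (ptsE_comp f) x

theorem charpoly_eq [Module.Free ℤ_[l] (TateMod X l (SGA7.pt (K := k) Ω))]
    [Module.Finite ℤ_[l] (TateMod X l (SGA7.pt (K := k) Ω))]
    [Module.Free ℤ_[l] (TateMod (bc Ω X) l (Over.mk (𝟙 (Spec (CommRingCat.of Ω)))))]
    [Module.Finite ℤ_[l] (TateMod (bc Ω X) l (Over.mk (𝟙 (Spec (CommRingCat.of Ω)))))]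
    (f : X ⟶ X) [IsMonHom f] :
    (tateMapₗ (l := l) (T := SGA7.pt (K := k) Ω) f).charpoly =
      (tateMapₗ (l := l) (T := Over.mk (𝟙 (Spec (CommRingCat.of Ω)))) (bcHom Ω f)).charpoly := by
  have h1 : tateMapₗ (l := l) (T := Over.mk (𝟙 (Spec (CommRingCat.of Ω)))) (bcHom Ω f) =
      (bcEquiv Ω l X).conj (tateMapₗ (l := l) (T := SGA7.pt (K := k) Ω) f) := by
    refine LinearMap.ext fun x => ?_
    rw [LinearEquiv.conj_apply_apply, bcEquiv_comp, LinearEquiv.apply_symm_apply]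
  rw [h1, LinearEquiv.charpoly_conj]

end K515.TateBC
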