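import Groth.Agent.AbVar.K515.PolyPow
import Groth.Agent.AbVar.K515.TateBC
import Groth.Agent.AbVar.K522.CharRoots
import Mathlib.RingTheory.Localization.Integral

/-!
# The characteristic polynomial of an endomorphism of a simple abelian variety
-/

set_option autoImplicit false
universe u

open CategoryTheory CategoryTheory.Limits MonoidalCategory CartesianMonoidalCategory
  AlgebraicGeometry MonObj Polynomial

namespace K515.SimplePow

variable {k : Type u} [Field k] {A : Over (Spec (CommRingCat.of k))} [GrpObj A] [IsCommMonObj A]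

theorem toEnd0_injective [IsAddTorsionFree (EndAV.End A)] :
    Function.Injective (EndAV.toEnd0 (A := A)) := by
  rw [injective_iff_map_eq_zero]
  intro e he
  obtain ⟨c, hc⟩ := (IsLocalizedModule.eq_zero_iff (nonZeroDivisors ℤ)
    (TensorProduct.mk ℤ ℚ (EndAV.End A) 1)).mp he
  exact (smul_eq_zero_iff_right (nonZeroDivisors.ne_zero c.2)).mp hc

/-- The characteristic polynomial is a power of an irreducible polynomial when `End⁰` is a division algebra. -/
theorem exists_pow [IsAddTorsionFree (EndAV.End A)] [Module.Finite ℤ (EndAV.End A)]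
    (hdiv : ∀ x : EndAV.End0 A, x ≠ 0 → IsUnit x) (f : EndAV.End A) {l : ℕ} [hl : Fact l.Prime]
    {T : Over (Spec (CommRingCat.of k))}
    [Module.Free ℤ_[l] (AbDual.TateMod A l T)] [Module.Finite ℤ_[l] (AbDual.TateMod A l T)]
    (P : ℤ[X]) (hP : (EndAV.End.tateRep l T f).charpoly = P.map (Int.castRingHom ℤ_[l])) :
    ∃ (h : ℚ[X]) (n : ℕ), Irreducible h ∧
      ((EndAV.End.tateRep l T f).charpoly).map (algebraMap ℤ_[l] ℚ_[l]) =
        (h.map (algebraMap ℚ ℚ_[l])) ^ n := by
  by_cases hnt : Nontrivial (EndAV.End0 A)
  · have hno : NoZeroDivisors (EndAV.End0 A) := ⟨fun {a b} hab => by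
      by_contra hcon
      push Not at hcon
      obtain ⟨u, hu⟩ := hdiv a hcon.1
      apply hcon.2
      rw [← hu] at hab
      exact (Units.mul_right_eq_zero u).mp hab⟩
    have hdom : IsDomain (EndAV.End0 A) := NoZeroDivisors.to_isDomain _
    have hfin : Module.Finite ℚ (EndAV.End0 A) := inferInstance
    let x : EndAV.End0 A := EndAV.toEnd0 f
    have hint : _root_.IsIntegral ℚ x := IsIntegral.of_finite ℚ x
    obtain ⟨b, hb⟩ := IsLocalization.integerNormalization_map_to_map (nonZeroDivisors ℤ)
      (minpoly ℚ x)
    let m := IsLocalization.integerNormalization (nonZeroDivisors ℤ) (minpoly ℚ x)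
    have hm : aeval f m = 0 := by
      apply toEnd0_injective
      rw [map_zero, ← Polynomial.aeval_algHom_apply]
      have h1 : aeval (EndAV.toEnd0 f) m = aeval x (m.map (algebraMap ℤ ℚ)) :=
        (Polynomial.aeval_map_algebraMap ℚ x m).symm
      rw [h1, hb, map_zsmul, minpoly.aeval, smul_zero]
    have hT : aeval (EndAV.End.tateRep l T f) (m.map (Int.castRingHom ℤ_[l])) = 0 := by
      have h1 := Polynomial.aeval_map_algebraMap ℤ_[l] (EndAV.End.tateRep l T f) m
      have h2 : aeval (EndAV.End.tateRep l T f) m =
          (EndAV.End.tateRep l T) (aeval f m) := by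
        let ψ : EndAV.End A →ₐ[ℤ] Module.End ℤ_[l] (AbDual.TateMod A l T) :=
          { EndAV.End.tateRep l T with
            commutes' := fun n => by
              change EndAV.End.tateRep l T (algebraMap ℤ (EndAV.End A) n) = _
              rw [eq_intCast, eq_intCast, map_intCast] }
        exact Polynomial.aeval_algHom_apply ψ f m
      rw [h2, hm, map_zero] at h1
      exact h1
    have hPm : P.Monic := by
      have h1 : (P.map (Int.castRingHom ℤ_[l])).Monic := hP ▸ LinearMap.charpoly_monic _
      exact Polynomial.monic_of_injective (RingHom.injective_int (Int.castRingHom ℤ_[l])) h1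
    obtain ⟨n, hn⟩ := K515.PolyPow.exists_pow (hPm.map (Int.castRingHom ℚ)) (minpoly.monic hint)
      (minpoly.irreducible hint) (fun α hα => by
        have h1 : (P.map (Int.castRingHom ℂ)).eval α = 0 := by
          have h2 : aeval α (P.map (Int.castRingHom ℚ)) = (P.map (Int.castRingHom ℂ)).eval α := by
            rw [aeval_def, eval₂_map, eval_map]
            congr 1
          rw [← h2, hα]
        have h3 := K522.CharRoots.isRoot_of_isRoot_charpoly (EndAV.End.tateRep l T f) P m hP hT α h1
        have h4 : aeval α (m.map (algebraMap ℤ ℚ)) = (m.map (Int.castRingHom ℂ)).eval α := by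
          rw [aeval_def, eval₂_map, eval_map]
          congr 1
        rw [← h4, hb, map_zsmul] at h3
        exact (smul_eq_zero_iff_right (nonZeroDivisors.ne_zero b.2)).mp h3)
    refine ⟨minpoly ℚ x, n, minpoly.irreducible hint, ?_⟩
    rw [← Polynomial.map_pow, ← hn, hP, Polynomial.map_map, Polynomial.map_map]
    congr 1
  · have h1 : Subsingleton (EndAV.End0 A) := not_nontrivial_iff_subsingleton.mp hnt
    have h2 : (1 : EndAV.End A) = 0 := toEnd0_injective (Subsingleton.elim _ _)
    have h3 : (1 : Module.End ℤ_[l] (AbDual.TateMod A l T)) = 0 := by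
      rw [← map_one (EndAV.End.tateRep l T), h2, map_zero]
    have h4 : Subsingleton (AbDual.TateMod A l T) := ⟨fun x y => by
      have hx := LinearMap.congr_fun h3 x
      have hy := LinearMap.congr_fun h3 y
      exact (hx.trans hy.symm)⟩
    refine ⟨X, 0, irreducible_X, ?_⟩
    have h5 : (EndAV.End.tateRep l T f).charpoly = 1 := by
      have h6 := LinearMap.charpoly_monic (EndAV.End.tateRep l T f)
      have h7 := LinearMap.charpoly_natDegree (EndAV.End.tateRep l T f)
      rw [Module.finrank_zero_of_subsingleton] at h7
      exact Polynomial.eq_one_of_monic_natDegree_zero h6 h7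
    rw [h5, Polynomial.map_one, pow_zero]

end K515.SimplePow
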