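import Groth.Agent.AbVar.K515.Pow8
import Groth.Agent.AbVar.K515.FormQ
import Groth.Agent.AbVar.K515.Isotrop

/-!
# Galois stable subspaces of the rational Tate module over a finite field
-/

set_option autoImplicit false
universe u

open CategoryTheory CategoryTheory.Limits MonoidalCategory CartesianMonoidalCategory
  AlgebraicGeometry MonObj
open Groth.Agent.Grpsch.PicGrp Groth.Agent.Grpsch.Cube
open K515.Bc K515.TateE K515.TateForm K515.Lattice K515.TateRank K515.Pow8 K515.Isotrop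
open AbDual
open scoped TensorProduct

namespace K515.Stable

/-- Tate's limit argument. -/
def TateLim (k Ω : Type u) [Field k] [Field Ω] [Algebra k Ω] (l : ℕ) [Fact l.Prime] : Prop :=
  ∀ (X : Over (Spec (CommRingCat.of k))) [GrpObj X] [IsCommMonObj X] [IsProper X.hom]
    [GeometricallyIntegral X.hom]
    (ρ : (Ω ≃ₐ[k] Ω) → Module.End ℤ_[l] (AbDual.TateMod X l (SGA7.pt Ω)))
    (_ : ∀ (τ : Ω ≃ₐ[k] Ω) (z : AbDual.TateMod X l (SGA7.pt Ω)) (m : ℕ),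
      (AbDual.TateMod.component X l (SGA7.pt Ω) m (ρ τ z)).toMul =
        SGA7.galAct τ (AbDual.TateMod.component X l (SGA7.pt Ω) m z).toMul)
    [Module.Free ℤ_[l] (AbDual.TateMod X l (SGA7.pt Ω))]
    [Module.Finite ℤ_[l] (AbDual.TateMod X l (SGA7.pt Ω))]
    (W : Submodule ℚ_[l] (ℚ_[l] ⊗[ℤ_[l]] AbDual.TateMod X l (SGA7.pt Ω)))
    (_ : ∀ τ : Ω ≃ₐ[k] Ω, W.map ((ρ τ).baseChange ℚ_[l]) ≤ W)
    (_ : ∃ (J : Type u) (_ : Finite J) (F : J → Over (Spec (CommRingCat.of k))),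
      ∀ (Y : Over (Spec (CommRingCat.of k))) [GrpObj Y] [IsCommMonObj Y] [IsProper Y.hom]
        [GeometricallyIntegral Y.hom] (u : X ⟶ Y) [IsMonHom u] (v : Y ⟶ X) [IsMonHom v] (n : ℕ),
        IsFinite u.left → Flat u.left → Surjective u.left → ((l : k) ≠ 0 → Etale u.left) →
        u ≫ v = (𝟙 X) ^ (l ^ n) → v ≫ u = (𝟙 Y) ^ (l ^ n) →
        (∀ x : SGA7.Pts Ω X, x ≫ u = 1 ↔ ∃ t : TateMod X l (SGA7.pt Ω),
          (1 : ℚ_[l]) ⊗ₜ[ℤ_[l]] t ∈ W ∧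
            (TateMod.component X l (SGA7.pt Ω) n t).toMul = x) →
        ∃ i, Nonempty (Y ≅ F i)),
    ∃ u ∈ Submodule.span ℚ_[l] {ψ : Module.End ℚ_[l] (ℚ_[l] ⊗[ℤ_[l]] AbDual.TateMod X l (SGA7.pt Ω)) |
          ∃ (f : X ⟶ X) (_ : IsMonHom f), ψ = (AbDual.tateMapₗ (l := l) (T := SGA7.pt Ω) f).baseChange ℚ_[l]},
      LinearMap.range u = W

variable {k Ω : Type u} [Field k] [Field Ω] [Algebra k Ω] [IsAlgClosure k Ω]
  {l : ℕ} [hl : Fact l.Prime]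

theorem E_one {X : Over (Spec (CommRingCat.of k))} [GrpObj X] [IsCommMonObj X] [IsProper X.hom]
    [GeometricallyIntegral X.hom] (n : ℕ) (x y : TateMod X l (SGA7.pt Ω)) :
    E (1 : Pic X.left) n x y = 1 := by
  have h := E_mul (L := (1 : Pic X.left)) (M := 1) (n := n) (x := x) (y := y)
  rw [_root_.mul_one] at h
  exact (left_eq_mul.mp h)

theorem E_prod {X : Over (Spec (CommRingCat.of k))} [GrpObj X] [IsCommMonObj X] [IsProper X.hom]
    [GeometricallyIntegral X.hom] {J : Type*} (s : Finset J) (L : J → Pic X.left) (n : ℕ)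
    (x y : TateMod X l (SGA7.pt Ω)) :
    E (∏ i ∈ s, L i) n x y = ∏ i ∈ s, E (L i) n x y := by
  classical
  induction s using Finset.induction_on with
  | empty => rw [Finset.prod_empty, Finset.prod_empty, E_one]
  | insert i s hi ih => rw [Finset.prod_insert hi, Finset.prod_insert hi, E_mul, ih]

theorem prod_pow_appr {G : Type*} [CommGroup G] {ζ : ℕ → G} (hζ : ∀ n, orderOf (ζ n) = l ^ n)
    {J : Type*} (s : Finset J) (z : J → ℤ_[l]) (n : ℕ) :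
    ∏ i ∈ s, ζ n ^ (z i).appr n = ζ n ^ (∑ i ∈ s, z i).appr n := by
  classical
  induction s using Finset.induction_on with
  | empty =>
    rw [Finset.prod_empty, Finset.sum_empty]
    exact ((pow_appr_eq_one_iff hζ 0).mpr rfl n).symm
  | insert i s hi ih =>
    rw [Finset.prod_insert hi, Finset.sum_insert hi, ih, FormLim.pow_appr_add hζ]

theorem matrix_map {I0 : Matrix (Fin 4) (Fin 4) ℤ_[l]} (hI0 : I0.transpose * I0 = -1) :
    (I0.map (algebraMap ℤ_[l] ℚ_[l])).transpose * I0.map (algebraMap ℤ_[l] ℚ_[l]) = -1 := by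
  have h1 := congrArg (RingHom.mapMatrix (algebraMap ℤ_[l] ℚ_[l])) hI0
  rw [map_mul, map_neg, map_one] at h1
  exact h1

theorem symm_prod {X P : Over (Spec (CommRingCat.of k))} [GrpObj X] [GrpObj P] {n : ℕ}
    (π : Fin n → (P ⟶ X)) (hπ : ∀ i, IsMonHom (π i)) {L : Pic X.left}
    (hL : pl (𝟙 X)⁻¹ L = L) {M : Pic P.left} (hM : M = ∏ i, pl (π i) L) :
    pl (𝟙 P)⁻¹ M = M := by
  rw [hM, map_prod]
  refine Finset.prod_congr rfl fun i _ => ?_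
  have := hπ i
  have h1 : (𝟙 P)⁻¹ ≫ π i = π i ≫ (𝟙 X)⁻¹ := by
    rw [GrpObj.inv_comp, GrpObj.comp_inv, Category.id_comp, Category.comp_id]
  rw [← pl_comp, h1, pl_comp, hL]

theorem E_prod_pull {X P : Over (Spec (CommRingCat.of k))} [GrpObj X] [IsCommMonObj X]
    [IsProper X.hom] [GeometricallyIntegral X.hom] [GrpObj P] [IsCommMonObj P]
    [IsProper P.hom] [GeometricallyIntegral P.hom] {m : ℕ}
    (π : Fin m → (P ⟶ X)) (hπ : ∀ i, IsMonHom (π i))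
    (inc : Fin m → (X ⟶ P)) (hinc : ∀ i, inc i ≫ π i = 𝟙 X)
    {L : Pic X.left} {M : Pic P.left} (hM : M = ∏ i, pl (π i) L)
    {ζ : ℕ → Ωˣ} (hζ : ∀ n, orderOf (ζ n) = l ^ n)
    {B : TateMod X l (SGA7.pt Ω) →ₗ[ℤ_[l]] TateMod X l (SGA7.pt Ω) →ₗ[ℤ_[l]] ℤ_[l]}
    (hB : ∀ x y n, E L n x y = ζ n ^ (B x y).appr n)
    (x y : TateMod P l (SGA7.pt Ω))
    (h0 : ∑ i, B ((haveI := hπ i; tateMapₗ (l := l) (T := SGA7.pt Ω) (π i)) x)
      ((haveI := hπ i; tateMapₗ (l := l) (T := SGA7.pt Ω) (π i)) y) = 0) (n : ℕ) :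
    E M n x y = 1 := by
  have h1 : ∀ i, E (pl (π i) L) n x y =
      ζ n ^ (B ((haveI := hπ i; tateMapₗ (l := l) (T := SGA7.pt Ω) (π i)) x)
        ((haveI := hπ i; tateMapₗ (l := l) (T := SGA7.pt Ω) (π i)) y)).appr n := by
    intro i
    have := hπ i
    have : Surjective (π i).left := by
      constructor
      intro z
      refine ⟨(inc i).left z, ?_⟩
      rw [← Scheme.Hom.comp_apply, ← Over.comp_left, hinc]
      rfl
    rw [← hB]
    exact E_pull (π i)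
  rw [hM, E_prod, Finset.prod_congr rfl fun i _ => h1 i, prod_pow_appr hζ, h0]
  exact (pow_appr_eq_one_iff hζ 0).mpr rfl n

/-- Everything about one abelian variety. -/
theorem exists_data (hlk : (l : k) ≠ 0) (X : Over (Spec (CommRingCat.of k))) [GrpObj X]
    [IsCommMonObj X] [IsProper X.hom] [GeometricallyIntegral X.hom] :
    ∃ (g : ℕ) (_ : topologicalKrullDim X.left = g)
      (M : X.left.Modules) (hM : CohB1.IsAmple M) (_ : pl (𝟙 X)⁻¹ (mk M hM.1) = mk M hM.1)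
      (ζ : ℕ → Ωˣ) (_ : ∀ n, orderOf (ζ n) = l ^ n)
      (B : TateMod X l (SGA7.pt Ω) →ₗ[ℤ_[l]] TateMod X l (SGA7.pt Ω) →ₗ[ℤ_[l]] ℤ_[l])
      (_ : ∀ x y n, E (mk M hM.1) n x y = ζ n ^ (B x y).appr n)
      (_ : ∀ x, B x x = 0) (_ : ∀ x, (∀ y, B y x = 0) → x = 0),
      ∀ (τ : Ω ≃ₐ[k] Ω) x y, B x y = 0 → B (galT τ X l x) (galT τ X l y) = 0 := by
  have : IsAlgClosed Ω := IsAlgClosure.isAlgClosed k
  obtain ⟨g, hg⟩ := Groth.Agent.Sga7.H742.P1Dim.exists_dim X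
  obtain ⟨M, hM, hsym⟩ := Groth.Agent.Grpsch.MulFin.exists_symm_ample X
  obtain ⟨ζ, hζ, B, hB⟩ := exists_form (X := X) Ω l (L := mk M hM.1) hlk hsym
  have hB0 : ∀ x y, B x y = 0 ↔ ∀ n, E (mk M hM.1) n x y = 1 := by
    intro x y
    rw [← pow_appr_eq_one_iff hζ]
    simp only [hB]
  refine ⟨g, hg, M, hM, hsym, ζ, hζ, B, fun x y n => hB n x y,
    fun x => (hB0 x x).mpr fun n => E_self,
    fun x hx => eq_zero_of_E hlk M hM hsym fun n y => (hB0 y x).mp (hx y) n, ?_⟩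
  intro τ x y h
  rw [hB0] at h ⊢
  intro n
  rw [E_gal τ (x := x) (y := y) (fun _ => rfl) (fun _ => rfl), h n, map_one]

theorem finrank_V (hlk : (l : k) ≠ 0) (X : Over (Spec (CommRingCat.of k))) [GrpObj X]
    [IsCommMonObj X] [IsProper X.hom] [GeometricallyIntegral X.hom] (g : ℕ)
    (hg : topologicalKrullDim X.left = g) : Module.finrank ℚ_[l] (V Ω l X) = 2 * g := by
  have : IsAlgClosed Ω := IsAlgClosure.isAlgClosed k
  have := TateRank.finite Ω X l hlk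
  have := TateRank.free Ω X l hlk
  rw [← TateRank.finrank_eq Ω X l hlk g hg]
  exact Module.finrank_baseChange

/-- The dimension of the eighth power. -/
theorem dim_pow8 (hlk : (l : k) ≠ 0) {X P : Over (Spec (CommRingCat.of k))} [GrpObj X]
    [IsCommMonObj X] [IsProper X.hom] [GeometricallyIntegral X.hom] [GrpObj P]
    [IsCommMonObj P] [IsProper P.hom] [GeometricallyIntegral P.hom] {g gP : ℕ}
    (hg : topologicalKrullDim X.left = g) (hgP : topologicalKrullDim P.left = gP)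
    {π : Fin 8 → (V Ω l P →ₗ[ℚ_[l]] V Ω l X)} {inc : Fin 8 → (V Ω l X →ₗ[ℚ_[l]] V Ω l P)}
    (hp : Quat.Pow8 π inc) {I : Matrix (Fin 4) (Fin 4) ℚ_[l]} (hI : I.transpose * I = -1) :
    gP = 8 * g := by
  have : IsAlgClosed Ω := IsAlgClosure.isAlgClosed k
  have := TateRank.finite Ω X l hlk
  have := TateRank.finite Ω P l hlk
  have h1 := Quat.finrank_W' (W := ⊤) (Wp := ⊤) hI hp
  have h2 : Quat.W' π I ⊤ ⊤ = ⊤ := by
    rw [eq_top_iff]
    intro v _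
    exact Quat.mem_W'.mpr ⟨fun _ => trivial, fun _ => trivial⟩
  rw [h2, finrank_top, finrank_top, finrank_V hlk X g hg, finrank_V hlk P gP hgP] at h1
  omega

/-- `W'` is isotropic. -/
theorem isotropic {X P : Over (Spec (CommRingCat.of k))} [GrpObj X] [IsCommMonObj X]
    [IsProper X.hom] [GeometricallyIntegral X.hom] [GrpObj P] [IsCommMonObj P]
    [IsProper P.hom] [GeometricallyIntegral P.hom]
    (π : Fin 8 → (P ⟶ X)) (hπ : ∀ i, IsMonHom (π i))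
    (inc : Fin 8 → (X ⟶ P)) (hinc : ∀ i, inc i ≫ π i = 𝟙 X)
    {L : Pic X.left} {M : Pic P.left} (hM : M = ∏ i, pl (π i) L)
    {ζ : ℕ → Ωˣ} (hζ : ∀ n, orderOf (ζ n) = l ^ n)
    {B : TateMod X l (SGA7.pt Ω) →ₗ[ℤ_[l]] TateMod X l (SGA7.pt Ω) →ₗ[ℤ_[l]] ℤ_[l]}
    (hB : ∀ x y n, E L n x y = ζ n ^ (B x y).appr n) (halt : ∀ x, B x x = 0)
    {I : Matrix (Fin 4) (Fin 4) ℚ_[l]} (hI : I.transpose * I = -1)
    {W Wp : Submodule ℚ_[l] (V Ω l X)} (hWp : Wp = FormQ.perp B W)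
    {W' : Submodule ℚ_[l] (V Ω l P)}
    (hW' : W' = Quat.W' (fun i => haveI := hπ i; Vmap Ω l (π i)) I W Wp)
    (x : TateMod P l (SGA7.pt Ω)) (hx : x ∈ lat W') (y : TateMod P l (SGA7.pt Ω))
    (hy : y ∈ lat W') (n : ℕ) : E M n x y = 1 := by
  refine E_prod_pull π hπ inc hinc hM hζ hB x y ?_ n
  subst hWp
  rw [mem_lat, hW'] at hx hy
  have h3 := Quat.sum_eq_zero hI (FormQ.BQ B) (W := W) (Wp := FormQ.perp B W)
    (fun w hw v hv => FormQ.mem_perp.mp hv w hw)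
    (fun w hw v hv => by rw [FormQ.BQ_swap halt, FormQ.mem_perp.mp hv w hw, neg_zero])
    hx hy
  simp only [Vmap, LinearMap.baseChange_tmul, FormQ.BQ_tmul] at h3
  rw [← map_sum] at h3
  exact (FaithfulSMul.algebraMap_eq_zero_iff ℤ_[l] ℚ_[l]).mp h3

/-- `W'` is stable under Galois. -/
theorem stable' {X P : Over (Spec (CommRingCat.of k))} [GrpObj X] [IsCommMonObj X]
    [GrpObj P] [IsCommMonObj P]
    (π : Fin 8 → (P ⟶ X)) (hπ : ∀ i, IsMonHom (π i))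
    {I : Matrix (Fin 4) (Fin 4) ℚ_[l]}
    {W Wp : Submodule ℚ_[l] (V Ω l X)}
    (hW : ∀ τ : Ω ≃ₐ[k] Ω, W.map ((galT τ X l).baseChange ℚ_[l]) ≤ W)
    (hWp : ∀ τ : Ω ≃ₐ[k] Ω, Wp.map ((galT τ X l).baseChange ℚ_[l]) ≤ Wp)
    {W' : Submodule ℚ_[l] (V Ω l P)}
    (hW' : W' = Quat.W' (fun i => haveI := hπ i; Vmap Ω l (π i)) I W Wp)
    (τ : Ω ≃ₐ[k] Ω) : W'.map ((galT τ P l).baseChange ℚ_[l]) ≤ W' := by
  subst hW'
  refine Quat.map_W'_le (g := (galT τ X l).baseChange ℚ_[l]) (fun i v => ?_) (hW τ) (hWp τ)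
  have := hπ i
  have h1 : Vmap Ω l (π i) ∘ₗ (galT τ P l).baseChange ℚ_[l] =
      (galT τ X l).baseChange ℚ_[l] ∘ₗ Vmap Ω l (π i) := by
    rw [Vmap, ← LinearMap.baseChange_comp, ← LinearMap.baseChange_comp]
    congr 1
  exact LinearMap.congr_fun h1 v

/-- The main step on the eighth power. -/
theorem core (hFin : ∀ g c, FinAV k g c) (hNum : NumModel k Ω) (hTate : TateLim k Ω l)
    (hlk : (l : k) ≠ 0) {X P : Over (Spec (CommRingCat.of k))} [GrpObj X]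
    [IsCommMonObj X] [IsProper X.hom] [GeometricallyIntegral X.hom] [GrpObj P]
    [IsCommMonObj P] [IsProper P.hom] [GeometricallyIntegral P.hom] (g : ℕ)
    (hg : topologicalKrullDim X.left = g) (M : X.left.Modules) (hM : CohB1.IsAmple M)
    (hsym : pl (𝟙 X)⁻¹ (mk M hM.1) = mk M hM.1)
    (ζ : ℕ → Ωˣ) (hζ : ∀ n, orderOf (ζ n) = l ^ n)
    (B : TateMod X l (SGA7.pt Ω) →ₗ[ℤ_[l]] TateMod X l (SGA7.pt Ω) →ₗ[ℤ_[l]] ℤ_[l])
    (hB : ∀ x y n, E (mk M hM.1) n x y = ζ n ^ (B x y).appr n) (halt : ∀ x, B x x = 0)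
    (π : Fin 8 → (P ⟶ X)) (hπ : ∀ i, IsMonHom (π i))
    (inc : Fin 8 → (X ⟶ P)) (hinc : ∀ i, IsMonHom (inc i)) (hi1 : ∀ i, inc i ≫ π i = 𝟙 X)
    (hp : Quat.Pow8 (fun i => haveI := hπ i; Vmap Ω l (π i))
      (fun i => haveI := hinc i; Vmap Ω l (inc i)))
    (MP : P.left.Modules) (hMP : CohB1.IsAmple MP)
    (hMPm : mk MP hMP.1 = ∏ i, pl (π i) (mk M hM.1))
    (I : Matrix (Fin 4) (Fin 4) ℚ_[l]) (hI : I.transpose * I = -1)
    (W Wp : Submodule ℚ_[l] (V Ω l X)) (hWpdef : Wp = FormQ.perp B W)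
    (hW : ∀ τ : Ω ≃ₐ[k] Ω, W.map ((galT τ X l).baseChange ℚ_[l]) ≤ W)
    (hWp : ∀ τ : Ω ≃ₐ[k] Ω, Wp.map ((galT τ X l).baseChange ℚ_[l]) ≤ Wp)
    (hdim : Module.finrank ℚ_[l] W + Module.finrank ℚ_[l] Wp = 2 * g)
    (W' : Submodule ℚ_[l] (V Ω l P))
    (hW'def : W' = Quat.W' (fun i => haveI := hπ i; Vmap Ω l (π i)) I W Wp) :
    ∃ u ∈ H Ω l P P, LinearMap.range u = W' := by
  have : IsAlgClosed Ω := IsAlgClosure.isAlgClosed k
  have hfinX := TateRank.finite Ω X l hlk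
  have hfinP := TateRank.finite Ω P l hlk
  have hfreeP := TateRank.free Ω P l hlk
  obtain ⟨gP, hgP⟩ := Groth.Agent.Sga7.H742.P1Dim.exists_dim P
  have hgP8 : gP = 8 * g := dim_pow8 hlk hg hgP hp hI
  have hdimW' : Module.finrank ℚ_[l] W' = gP := by
    have h1 : Module.finrank ℚ_[l] W' =
      4 * Module.finrank ℚ_[l] W + 4 * Module.finrank ℚ_[l] Wp := by
      rw [hW'def]
      exact Quat.finrank_W' (W := W) (Wp := Wp) hI hp
    rw [hgP8, h1]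
    omega
  have hsymP : pl (𝟙 P)⁻¹ (mk MP hMP.1) = mk MP hMP.1 := symm_prod π hπ hsym hMPm
  have hiso : ∀ x ∈ lat W', ∀ y ∈ lat W', ∀ n, E (mk MP hMP.1) n x y = 1 :=
    isotropic π hπ inc hi1 hMPm hζ hB halt hI hWpdef hW'def
  obtain ⟨u, hu, hur⟩ := hTate P (fun τ => galT τ P l) (fun τ z m => rfl) W'
    (stable' π hπ hW hWp hW'def)
    (Isotrop.exists_finite hlk gP hgP MP hMP hsymP W' hdimW' hiso (hFin _ _) hNum)
  exact ⟨u, hu, hur⟩

theorem range_comp {V1 V2 : Type*} [AddCommGroup V1] [Module ℚ_[l] V1] [AddCommGroup V2]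
    [Module ℚ_[l] V2] {p : Fin 8 → (V2 →ₗ[ℚ_[l]] V1)} {i : Fin 8 → (V1 →ₗ[ℚ_[l]] V2)}
    (hp : Quat.Pow8 p i) {φ : V2 →ₗ[ℚ_[l]] V1} {u : V2 →ₗ[ℚ_[l]] V2} {W' : Submodule ℚ_[l] V2}
    {W : Submodule ℚ_[l] V1} (hur : LinearMap.range u = W') (hφ : W'.map φ = W) :
    ⨆ j, LinearMap.range (φ ∘ₗ u ∘ₗ i j) = W := by
  apply le_antisymm
  · refine iSup_le fun j => ?_
    rintro _ ⟨x, rfl⟩
    rw [← hφ]
    exact ⟨_, hur ▸ ⟨_, rfl⟩, rfl⟩
  · intro w hw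
    rw [← hφ, ← hur] at hw
    obtain ⟨_, ⟨v, rfl⟩, rfl⟩ := hw
    rw [← hp.sum v, map_sum, map_sum]
    refine sum_mem fun j _ => ?_
    exact (le_iSup (fun j => LinearMap.range (φ ∘ₗ u ∘ₗ i j)) j) ⟨_, rfl⟩

/-- **Galois stable subspaces are sums of ranges of endomorphisms.** -/
theorem exists_ranges (hFin : ∀ g c, FinAV k g c) (hNum : NumModel k Ω) (hTate : TateLim k Ω l)
    (hlk : (l : k) ≠ 0) (X : Over (Spec (CommRingCat.of k))) [GrpObj X] [IsCommMonObj X]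
    [IsProper X.hom] [GeometricallyIntegral X.hom] (W : Submodule ℚ_[l] (V Ω l X))
    (hW : ∀ τ : Ω ≃ₐ[k] Ω, W.map ((galT τ X l).baseChange ℚ_[l]) ≤ W) :
    ∃ u : Fin 8 → (V Ω l X →ₗ[ℚ_[l]] V Ω l X), (∀ j, u j ∈ H Ω l X X) ∧
      ⨆ j, LinearMap.range (u j) = W := by
  have : IsAlgClosed Ω := IsAlgClosure.isAlgClosed k
  have hfin := TateRank.finite Ω X l hlk
  have hfree := TateRank.free Ω X l hlk
  obtain ⟨g, hg, M, hM, hsym, ζ, hζ, B, hB, halt, hnd, hgal⟩ := exists_data (Ω := Ω) hlk X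
  have hrank := TateRank.finrank_eq Ω X l hlk g hg
  obtain ⟨Wp, hWpdef⟩ : ∃ Wp, Wp = FormQ.perp B W := ⟨_, rfl⟩
  have hWp : ∀ τ : Ω ≃ₐ[k] Ω, Wp.map ((galT τ X l).baseChange ℚ_[l]) ≤ Wp := fun τ => by
    rw [hWpdef]
    exact FormQ.map_perp_le (g' := galT τ⁻¹ X l) (fun x => galT_inv' τ x) (hW τ⁻¹) (hgal τ)
  have hdim : Module.finrank ℚ_[l] W + Module.finrank ℚ_[l] Wp = 2 * g := by
    rw [← hrank, hWpdef]
    exact FormQ.finrank_perp halt hnd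
  -- the eighth power
  obtain ⟨P, _, _, _, _, π, hπ, h5, h6, MP, hMP, hMPm⟩ := PowAmp.exists_pow_ample X M hM 8
  obtain ⟨inc, hinc, hi1, hi2⟩ := exists_inc hπ h5 h6
  have hp : Quat.Pow8 (fun i => Vmap Ω l (π i)) (fun i => Vmap Ω l (inc i)) :=
    pow8 hπ h5 hinc hi1 hi2
  obtain ⟨I0, hI0⟩ := FourSq.exists_matrix l
  obtain ⟨I, hI⟩ : ∃ I : Matrix (Fin 4) (Fin 4) ℚ_[l], I.transpose * I = -1 :=
    ⟨_, matrix_map hI0⟩
  obtain ⟨W', hW'def⟩ : ∃ W' : Submodule ℚ_[l] (V Ω l P),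
    W' = Quat.W' (fun i => Vmap Ω l (π i)) I W Wp := ⟨_, rfl⟩
  obtain ⟨u, hu, hur⟩ := core hFin hNum hTate hlk g hg M hM hsym ζ hζ B hB halt π hπ inc hinc
    hi1 hp MP hMP hMPm I hI W Wp hWpdef hW hWp hdim W' hW'def
  have hφ0 : Quat.φ (fun i => Vmap Ω l (π i)) I 0 ∈ H Ω l P X := by
    refine sub_mem (Vmap_mem _) (sum_mem fun j _ => Submodule.smul_mem _ _ (Vmap_mem _))
  have hφW : W'.map (Quat.φ (fun i => Vmap Ω l (π i)) I 0) = W := by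
    rw [hW'def]
    exact Quat.map_W' hI hp
  exact ⟨fun j => Quat.φ (fun i => Vmap Ω l (π i)) I 0 ∘ₗ u ∘ₗ Vmap Ω l (inc j),
    fun j => comp_mem (comp_mem (Vmap_mem _) hu) hφ0, range_comp hp hur hφW⟩

end K515.Stable
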