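import Groth.Agent.AbVar.K515.TateE
import Groth.Agent.AbVar.K515.FormLim
import Mathlib.RingTheory.RootsOfUnity.AlgebraicallyClosed

/-!
# The `l`-adic form of a symmetric line bundle on the Tate module
-/

set_option autoImplicit false
universe u

open CategoryTheory CategoryTheory.Limits MonoidalCategory CartesianMonoidalCategory
  AlgebraicGeometry MonObj
open Groth.Agent.Sga7.H761.TransSig Groth.Agent.Grpsch.PicGrp Groth.Agent.Grpsch.Cube
open K515.Bc K515.Geo K515.TateE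
open AbDual

noncomputable section

namespace K515.TateForm

/-- compatible roots of unity -/
theorem exists_zeta (Ω : Type*) [Field Ω] [IsAlgClosed Ω] (l : ℕ) [hl : Fact l.Prime]
    (h : (l : Ω) ≠ 0) :
    ∃ ζ : ℕ → Ωˣ, (∀ n, orderOf (ζ n) = l ^ n) ∧ ∀ n, ζ (n + 1) ^ l = ζ n := by
  have : NeZero (l : Ω) := ⟨h⟩
  obtain ⟨z, hz⟩ := HasEnoughRootsOfUnity.exists_primitiveRoot Ω l
  have hz0 : z ≠ 0 := hz.ne_zero hl.out.ne_zero
  have hr : ∀ x : Ωˣ, ∃ y : Ωˣ, y ^ l = x := by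
    intro x
    obtain ⟨y, hy⟩ := IsAlgClosed.exists_pow_nat_eq (x : Ω) hl.out.pos
    have hy0 : y ≠ 0 := by
      rintro rfl
      rw [zero_pow hl.out.ne_zero] at hy
      exact x.ne_zero hy.symm
    exact ⟨Units.mk0 y hy0, Units.ext (by simpa using hy)⟩
  choose r hr using hr
  let ζ : ℕ → Ωˣ := fun n => Nat.casesOn n 1 (fun m => r^[m] (Units.mk0 z hz0))
  have h1 : ∀ n, ζ (n + 1) ^ l = ζ n := by
    intro n
    cases n with
    | zero =>
      apply Units.ext
      change z ^ l = 1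
      exact hz.pow_eq_one
    | succ n =>
      change (r^[n + 1] (Units.mk0 z hz0)) ^ l = r^[n] (Units.mk0 z hz0)
      rw [Function.iterate_succ_apply', hr]
  have h2 : ∀ n, orderOf (ζ (n + 1)) = l ^ (n + 1) := by
    intro n
    induction n with
    | zero =>
      rw [zero_add, pow_one]
      change orderOf (Units.mk0 z hz0) = l
      rw [← orderOf_units, Units.val_mk0]
      exact hz.eq_orderOf.symm
    | succ n ih =>
      have h3 : orderOf (ζ (n + 1 + 1)) = l ^ (n + 1 + 1) := by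
        refine orderOf_eq_prime_pow ?_ ?_
        · intro h4
          have h5 : ζ (n + 1) ^ l ^ n = 1 := by
            rw [← h1 (n + 1), ← pow_mul, ← pow_succ', h4]
          have h6 := orderOf_dvd_of_pow_eq_one h5
          rw [ih] at h6
          have h7 := Nat.le_of_dvd (pow_pos hl.out.pos _) h6
          exact absurd h7 (not_le.mpr (Nat.pow_lt_pow_right hl.out.one_lt (Nat.lt_succ_self n)))
        · rw [pow_succ', pow_mul, h1, ← ih, pow_orderOf_eq_one]
      exact h3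
  refine ⟨ζ, fun n => ?_, h1⟩
  cases n with
  | zero =>
    rw [pow_zero]
    exact orderOf_one
  | succ n => exact h2 n

variable {k : Type u} [Field k] {Ω : Type u} [Field Ω] [Algebra k Ω]
  {X : Over (Spec (CommRingCat.of k))} [GrpObj X] [IsCommMonObj X] [IsProper X.hom]
  [GeometricallyIntegral X.hom] {l : ℕ} [hl : Fact l.Prime]

/-- The components. -/
abbrev c (n : ℕ) (x : TateMod X l (SGA7.pt Ω)) : SGA7.Pts Ω X :=
  (TateMod.component X l (SGA7.pt Ω) n x).toMul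

omit [IsProper X.hom] [GeometricallyIntegral X.hom] hl in
lemma c_pow (n : ℕ) (x : TateMod X l (SGA7.pt Ω)) : c n x ^ l ^ n = 1 := x.torsion n

omit [IsProper X.hom] [GeometricallyIntegral X.hom] hl in
lemma c_succ (n : ℕ) (x : TateMod X l (SGA7.pt Ω)) : c (n + 1) x ^ l = c n x := x.compat n

omit [IsProper X.hom] [GeometricallyIntegral X.hom] hl in
lemma c_add (n : ℕ) (x y : TateMod X l (SGA7.pt Ω)) : c n (x + y) = c n x * c n y := rfl

/-- The pairing at level `n`. -/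
def E (L : Pic X.left) (n : ℕ) (x y : TateMod X l (SGA7.pt Ω)) : Ωˣ :=
  eN Ω L (l ^ n) (c n x) (c n y)

variable {L M : Pic X.left} {n : ℕ} {x y z : TateMod X l (SGA7.pt Ω)}

omit hl in
lemma E_add_left : E L n (x + y) z = E L n x z * E L n y z :=
  eN_mul_left (c_pow n x) (c_pow n y) (c_pow n z)

omit hl in
lemma E_add_right : E L n x (y + z) = E L n x y * E L n x z :=
  eN_mul_right (c_pow n x) (c_pow n y) (c_pow n z)

omit hl in
lemma E_self : E L n x x = 1 := eN_self (c_pow n x)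

omit hl in
lemma E_pow : E L n x y ^ l ^ n = 1 := eN_pow (c_pow n x) (c_pow n y)

omit hl in
lemma E_mul : E (L * M) n x y = E L n x y * E M n x y := eN_mul (c_pow n x) (c_pow n y)

lemma E_succ [IsSepClosed Ω] (hlΩ : (l : Ω) ≠ 0) (hsym : pl (𝟙 X)⁻¹ L = L) :
    E L (n + 1) x y ^ l = E L n x y := by
  obtain ⟨g, hg⟩ := Groth.Agent.Sga7.H742.P1Dim.exists_dim X
  have h := eN_succ (x := c (n + 1) x) (y := c (n + 1) y) hsym g hg (l ^ n) l hlΩ
    (c_pow (n + 1) x) (c_pow (n + 1) y)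
  rw [c_succ, c_succ] at h
  exact h

omit hl in
lemma E_pull {Y : Over (Spec (CommRingCat.of k))} [GrpObj Y] [IsCommMonObj Y] [IsProper Y.hom]
    [GeometricallyIntegral Y.hom] (u : Y ⟶ X) [IsMonHom u] [Surjective u.left]
    {x y : TateMod Y l (SGA7.pt Ω)} :
    E (pl u L) n x y = E L n (tateMap u x) (tateMap u y) := eN_pull u (c_pow n x) (c_pow n y)

omit hl in
lemma E_gal (σ : Ω ≃ₐ[k] Ω) {x' y' : TateMod X l (SGA7.pt Ω)}
    (hx : ∀ n, c n x' = SGA7.galAct σ (c n x)) (hy : ∀ n, c n y' = SGA7.galAct σ (c n y)) :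
    E L n x' y' = Units.map ((σ : Ω →+* Ω) : Ω →* Ω) (E L n x y) := by
  rw [E, hx, hy]
  exact eN_gal σ (c_pow n x) (c_pow n y)

omit hl in
lemma E_zero_left : E L n 0 y = 1 := by
  have h := E_add_left (L := L) (n := n) (x := (0 : TateMod X l (SGA7.pt Ω))) (y := 0) (z := y)
  rw [add_zero] at h
  exact (left_eq_mul.mp h)

/-- **Nondegeneracy.** -/
theorem eq_zero_of_E [IsAlgClosed Ω] (hlk : (l : k) ≠ 0) (M : X.left.Modules)
    (hM : CohB1.IsAmple M)
    (hsym : pl (𝟙 X)⁻¹ (mk M hM.1) = mk M hM.1)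
    (h : ∀ n y, E (mk M hM.1) n y x = 1) : x = 0 := by
  have hlΩ : (l : Ω) ≠ 0 := fun h0 => hlk ((algebraMap k Ω).injective (by
    rw [map_natCast, map_zero, h0]))
  let L := mk M hM.1
  -- the base change is ample
  have hMΩ : CohB1.IsAmple ((Scheme.Modules.pullback (pr Ω X)).obj M) := by
    have : IsAffineHom (pr Ω X) := MorphismProperty.pullback_fst _ _ inferInstance
    exact Groth.Agent.Sga5.AmpleFib.isAmple_pullback _ hM
  have hfin := Groth.Agent.Sga7.H270.FinStab.finite_stab Ω (bc Ω X) _ hMΩ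
  have hK : ∀ n, (ptE Ω).symm (c n x) ∈ KL (LΩ Ω L) := by
    intro n
    refine mem_KL_of_eN hsym (l ^ n) ?_ (c_pow n x) fun y hy => ?_
    · rw [Nat.cast_pow]
      exact pow_ne_zero n hlΩ
    · obtain ⟨z, hz⟩ := K519.Tate.exists_apply_eq (l := l) (A := X) (T := SGA7.pt Ω)
        (fun y => Groth.Agent.Sga7.H734.Divis.exists_pow_eq X l hlk y) n y hy
      have h1 := h n z
      rw [E] at h1
      have h2 : c n z = y := congrArg Additive.toMul hz
      rwa [h2] at h1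
  have hK' : (KL (LΩ Ω L) : Set (Pt (bc Ω X))).Finite := by
    refine hfin.subset fun w hw => ?_
    have h1 : pl (t w) (LΩ Ω L) = LΩ Ω L := mem_KL.mp hw
    have h2 : (Groth.Agent.Sga7.H730.Tr.tr w : bc Ω X ⟶ bc Ω X) = t w := by
      rw [t]
      change (toUnit _ ≫ w) * 𝟙 _ = _
      exact mul_comm _ _
    change Nonempty _
    rw [h2]
    exact (mk_eq_iff _ _).mp h1
  have hK'' : Finite (KL (LΩ Ω L)) := hK'.to_subtype
  refine K519.Tate.eq_zero_of_nsmul_eq_zero (Nat.card (KL (LΩ Ω L))) Nat.card_pos.ne' x ?_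
  refine TateMod.ext fun n => ?_
  rw [K519.Tate.nsmul_apply]
  have h1 : (⟨_, hK n⟩ : KL (LΩ Ω L)) ^ Nat.card (KL (LΩ Ω L)) = 1 := pow_card_eq_one'
  have h2 := congrArg Subtype.val h1
  change (ptE Ω).symm (c n x) ^ Nat.card (KL (LΩ Ω L)) = 1 at h2
  rw [← map_pow, MulEquiv.map_eq_one_iff] at h2
  exact Additive.toMul.injective h2

/-- `ζ^z = 1` at all levels iff `z = 0`. -/
theorem pow_appr_eq_one_iff {G : Type*} [CommGroup G] {ζ : ℕ → G} (hζ : ∀ n, orderOf (ζ n) = l ^ n)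
    (z : ℤ_[l]) : (∀ n, ζ n ^ z.appr n = 1) ↔ z = 0 := by
  have h0 : ∀ n, ζ n ^ (0 : ℤ_[l]).appr n = 1 := by
    intro n
    have h1 : (0 : ℤ_[l]).appr n ≡ 0 [MOD l ^ n] := by
      rw [← ZMod.natCast_eq_natCast_iff, ← FormLim.toZModPow_appr, map_zero, Nat.cast_zero]
    rw [← pow_zero (ζ n), pow_eq_pow_iff_modEq, hζ]
    exact h1
  constructor
  · intro h
    exact FormLim.pow_appr_inj hζ fun n => by rw [h n, h0 n]
  · rintro rfl
    exact h0

variable (Ω l) in
/-- **The `l`-adic Riemann form** of a symmetric class. -/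
theorem exists_form [IsAlgClosed Ω] (hlk : (l : k) ≠ 0) (hsym : pl (𝟙 X)⁻¹ L = L) :
    ∃ (ζ : ℕ → Ωˣ) (_ : ∀ n, orderOf (ζ n) = l ^ n)
      (B : TateMod X l (SGA7.pt Ω) →ₗ[ℤ_[l]] TateMod X l (SGA7.pt Ω) →ₗ[ℤ_[l]] ℤ_[l]),
      ∀ n x y, E L n x y = ζ n ^ (B x y).appr n := by
  have hlΩ : (l : Ω) ≠ 0 := fun h0 => hlk ((algebraMap k Ω).injective (by
    rw [map_natCast, map_zero, h0]))
  obtain ⟨ζ, hζ, hζ'⟩ := exists_zeta Ω l hlΩ
  have hE : ∀ n (x y : TateMod X l (SGA7.pt Ω)), E L n x y ∈ Subgroup.zpowers (ζ n) := by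
    intro n x y
    have h1 : E L n x y ^ l ^ n = 1 := E_pow
    have h2 : IsPrimitiveRoot (ζ n) (l ^ n) := hζ n ▸ IsPrimitiveRoot.orderOf (ζ n)
    have : NeZero (l ^ n) := ⟨pow_ne_zero _ hl.out.ne_zero⟩
    rw [h2.zpowers_eq]
    exact (mem_rootsOfUnity _ _).mpr h1
  obtain ⟨B, hB⟩ := FormLim.exists_form hζ hζ' (E L) hE
    (fun n x y => E_succ hlΩ hsym) (fun n x x' y => E_add_left) (fun n x y y' => E_add_right)
  exact ⟨ζ, hζ, B, hB⟩

end K515.TateForm
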