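import Groth.Agent.AbVar.K515.Stable
import Groth.Agent.AbVar.K515.NumModel
import Groth.Agent.AbVar.K515.Integral
import Groth.Agent.AbVar.K515.RangeGlue
import Groth.Agent.AbVar.K522.TateAbs
import Groth.Agent.AbVar.K523.TateLim
import Groth.Agent.AbVar.K817.FiniteAV

/-!
# Tate's theorem over finite fields

Conditional form: hypotheses `FinHyp k` (finitely many abelian varieties of bounded degree), semisimplicity and
finiteness of `End⁰`.
-/

set_option autoImplicit false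
universe u

open CategoryTheory CategoryTheory.Limits MonoidalCategory CartesianMonoidalCategory
  AlgebraicGeometry MonObj
open AbDual
open scoped TensorProduct
open K515.Bc K515.TateRank K515.Pow8 K515.Isotrop K515.Stable

namespace K515.TateThm

variable {k Ω : Type u} [Field k] [Finite k] [Field Ω] [Algebra k Ω] [IsAlgClosure k Ω]
  {l : ℕ} [hl : Fact l.Prime]

theorem tateLim : TateLim k Ω l := by
  intro X _ _ _ _ ρ hρ _ _ W hW hFin
  exact K523.TateLim.exists_mem_span_range_eq ρ hρ W hW hFin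

theorem isGalois : IsGalois k Ω := by
  have : Algebra.IsAlgebraic k Ω := IsAlgClosure.isAlgebraic
  have : IsAlgClosed Ω := IsAlgClosure.isAlgClosed k
  infer_instance

theorem numModel : NumModel k Ω := by
  have : IsAlgClosed Ω := IsAlgClosure.isAlgClosed k
  have := isGalois (k := k) (Ω := Ω)
  exact K515.NumModel.numModel

theorem ranges (hFin : ∀ g c, FinAV k g c) (hlk : (l : k) ≠ 0)
    (X : Over (Spec (CommRingCat.of k))) [GrpObj X] [IsCommMonObj X]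
    [IsProper X.hom] [GeometricallyIntegral X.hom] (W : Submodule ℚ_[l] (V Ω l X))
    (hW : ∀ τ : Ω ≃ₐ[k] Ω, W.map ((galT τ X l).baseChange ℚ_[l]) ≤ W) :
    ∃ u : Fin 8 → (V Ω l X →ₗ[ℚ_[l]] V Ω l X), (∀ j, u j ∈ H Ω l X X) ∧
      ⨆ j, LinearMap.range (u j) = W :=
  exists_ranges hFin numModel tateLim hlk X W hW

theorem rangeProp (hFin : ∀ g c, FinAV k g c) (hlk : (l : k) ≠ 0)
    (X : Over (Spec (CommRingCat.of k))) [GrpObj X] [IsCommMonObj X]
    [IsProper X.hom] [GeometricallyIntegral X.hom]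
    (hss : IsSemisimpleRing (K522.VRep.EE l (SGA7.pt (K := k) Ω) X))
    (ρ : (Ω ≃ₐ[k] Ω) → Module.End ℤ_[l] (TateMod X l (SGA7.pt Ω)))
    (hρ : K522.TateAbs.IsGal ρ) : K522.TateAbs.RangeProp ρ := by
  intro W hW
  have hρ' : ∀ τ, ρ τ = galT τ X l := fun τ => by
    refine LinearMap.ext fun z => ?_
    exact TateMod.ext fun m => Additive.toMul.injective (hρ τ z m)
  obtain ⟨u, hu, hur⟩ := ranges hFin hlk X W (fun τ => by rw [← hρ' τ]; exact hW τ)
  obtain ⟨e, he, her⟩ := K515.RangeGlue.exists_single (K522.VRep.EE l (SGA7.pt (K := k) Ω) X) u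
    (fun j => (K522.VRep.mem_EE_iff l (SGA7.pt (K := k) Ω) X _).mpr (hu j))
  exact ⟨e, he, her.trans hur⟩

/-- The commutant of Galois on `V_l X` is generated by the endomorphisms of `X`. -/
theorem mem_EE (hFin : ∀ g c, FinAV k g c)
    (hss : ∀ (X : Over (Spec (CommRingCat.of k))) [GrpObj X] [IsCommMonObj X] [IsProper X.hom]
      [GeometricallyIntegral X.hom], IsSemisimpleRing (EndAV.End0 X) ∧
        Module.Finite ℚ (EndAV.End0 X)) (hlk : (l : k) ≠ 0)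
    (X : Over (Spec (CommRingCat.of k))) [GrpObj X] [IsCommMonObj X]
    [IsProper X.hom] [GeometricallyIntegral X.hom]
    (ρ : (Ω ≃ₐ[k] Ω) → Module.End ℤ_[l] (TateMod X l (SGA7.pt Ω)))
    (hρ : K522.TateAbs.IsGal ρ)
    (φ : Module.End ℚ_[l] (K522.VRep.Vl l (SGA7.pt (K := k) Ω) X))
    (hφ : ∀ τ : Ω ≃ₐ[k] Ω, φ ∘ₗ (ρ τ).baseChange ℚ_[l] = (ρ τ).baseChange ℚ_[l] ∘ₗ φ) :
    φ ∈ K522.VRep.EE l (SGA7.pt (K := k) Ω) X := by
  have : IsAlgClosed Ω := IsAlgClosure.isAlgClosed k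
  have := TateRank.finite Ω X l hlk
  have h1 : IsProper (X ⊗ X).hom := K520.Prod.isProper_tensor _ _
  have h2 : GeometricallyIntegral (X ⊗ X).hom := K520.Prod.geometricallyIntegral_tensor _ _
  have h3 := K522.VRep.isSemisimpleRing_EE l (SGA7.pt (K := k) Ω) X (hss X).1 (hss X).2
  have h4 := K522.VRep.isSemisimpleRing_EE l (SGA7.pt (K := k) Ω) (X ⊗ X) (hss _).1 (hss _).2
  exact K522.TateAbs.mem_EE hρ h3
    (rangeProp hFin hlk (X ⊗ X) h4 _ (K522.TateAbs.isGal_prodRho hρ hρ)) φ hφ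

theorem eq_zero_of_tmul {N : Type*} [AddCommGroup N] [Module ℤ_[l] N]
    (hN : ∀ (a : ℤ_[l]) (x : N), a ≠ 0 → a • x = 0 → x = 0) {x : N}
    (hx : (1 : ℚ_[l]) ⊗ₜ[ℤ_[l]] x = 0) : x = 0 := by
  obtain ⟨c, hc⟩ := (IsLocalizedModule.eq_zero_iff (nonZeroDivisors ℤ_[l])
    (TensorProduct.mk ℤ_[l] ℚ_[l] N 1)).mp hx
  exact hN _ x (nonZeroDivisors.ne_zero c.2) hc

/-- **Tate's theorem over finite fields**, surjectivity, conditional form. -/
theorem main (hFin : ∀ g c, FinAV k g c)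
    (hss : ∀ (X : Over (Spec (CommRingCat.of k))) [GrpObj X] [IsCommMonObj X] [IsProper X.hom]
      [GeometricallyIntegral X.hom], IsSemisimpleRing (EndAV.End0 X) ∧
        Module.Finite ℚ (EndAV.End0 X)) (hlk : (l : k) ≠ 0)
    (A B : Over (Spec (CommRingCat.of k)))
    [GrpObj A] [IsCommMonObj A] [IsProper A.hom] [GeometricallyIntegral A.hom]
    [GrpObj B] [IsCommMonObj B] [IsProper B.hom] [GeometricallyIntegral B.hom]
    (ρA : (Ω ≃ₐ[k] Ω) → Module.End ℤ_[l] (TateMod A l (SGA7.pt Ω)))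
    (hρA : K522.TateAbs.IsGal ρA)
    (ρB : (Ω ≃ₐ[k] Ω) → Module.End ℤ_[l] (TateMod B l (SGA7.pt Ω)))
    (hρB : K522.TateAbs.IsGal ρB)
    (u : TateMod A l (SGA7.pt (K := k) Ω) →ₗ[ℤ_[l]] TateMod B l (SGA7.pt (K := k) Ω))
    (hu : ∀ τ : Ω ≃ₐ[k] Ω, u ∘ₗ ρA τ = ρB τ ∘ₗ u) :
    u ∈ Submodule.span ℤ_[l]
      {v : TateMod A l (SGA7.pt (K := k) Ω) →ₗ[ℤ_[l]] TateMod B l (SGA7.pt (K := k) Ω) |
        ∃ (f : A ⟶ B) (_ : IsMonHom f), v = tateMapₗ (l := l) (T := SGA7.pt Ω) f} := by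
  have : IsAlgClosed Ω := IsAlgClosure.isAlgClosed k
  have h1 : IsProper (A ⊗ B).hom := K520.Prod.isProper_tensor _ _
  have h2 : GeometricallyIntegral (A ⊗ B).hom := K520.Prod.geometricallyIntegral_tensor _ _
  have hQ := K522.TateAbs.mem_span_hom hρA hρB (fun φ hφ => mem_EE hFin hss hlk (A ⊗ B) _
    (K522.TateAbs.isGal_prodRho hρA hρB) φ hφ) (u.baseChange ℚ_[l]) (fun τ v => by
      have h3 := congrArg (fun w => w.baseChange ℚ_[l]) (hu τ)
      simp only [LinearMap.baseChange_comp] at h3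
      exact LinearMap.congr_fun h3 v)
  have hset : {v : TateMod A l (SGA7.pt (K := k) Ω) →ₗ[ℤ_[l]] TateMod B l (SGA7.pt (K := k) Ω) |
        ∃ (f : A ⟶ B) (_ : IsMonHom f), v = tateMapₗ (l := l) (T := SGA7.pt Ω) f} =
      Set.range (EndAV.Hom.tateMap (A := A) (B := B) l (SGA7.pt (K := k) Ω)) := by
    ext v
    constructor
    · rintro ⟨f, hf, rfl⟩
      exact ⟨EndAV.Hom.of f, rfl⟩
    · rintro ⟨f, rfl⟩
      exact ⟨f.toHom, inferInstance, rfl⟩
  have hset' : {ψ : K522.VRep.Vl l (SGA7.pt (K := k) Ω) A →ₗ[ℚ_[l]] K522.VRep.Vl l (SGA7.pt (K := k) Ω) B |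
      ∃ (f : A ⟶ B) (_ : IsMonHom f), ψ = (tateMapₗ (l := l) (T := SGA7.pt Ω) f).baseChange ℚ_[l]} =
      (fun s => s.baseChange ℚ_[l]) ''
        Set.range (EndAV.Hom.tateMap (A := A) (B := B) l (SGA7.pt (K := k) Ω)) := by
    rw [← hset]
    ext ψ
    constructor
    · rintro ⟨f, hf, rfl⟩
      exact ⟨_, ⟨f, hf, rfl⟩, rfl⟩
    · rintro ⟨_, ⟨f, hf, rfl⟩, rfl⟩
      exact ⟨f, hf, rfl⟩
  rw [hset'] at hQ
  rw [hset]
  obtain ⟨n, s, hs, hns⟩ := K515.SpanZ.exists_pow_smul hQ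
  have hN : ∀ (a : ℤ_[l]) (x : TateMod B l (SGA7.pt (K := k) Ω)), a ≠ 0 → a • x = 0 → x = 0 :=
    fun a x ha h => K519.Tate.eq_zero_of_smul_eq_zero a ha x h
  have hus : (l : ℤ_[l]) ^ n • u = s := by
    refine LinearMap.ext fun x => sub_eq_zero.mp ?_
    refine eq_zero_of_tmul hN ?_
    have h3 := LinearMap.congr_fun hns ((1 : ℚ_[l]) ⊗ₜ[ℤ_[l]] x)
    rw [LinearMap.smul_apply, LinearMap.baseChange_tmul, LinearMap.baseChange_tmul] at h3
    rw [TensorProduct.tmul_sub, ← h3, LinearMap.smul_apply, TensorProduct.tmul_smul,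
      ← algebraMap_smul ℚ_[l] ((l : ℤ_[l]) ^ n), map_pow, map_natCast, sub_self]
  refine K515.SpanZ.mem_of_pow_smul ?_ n (hus ▸ hs)
  intro f w hfw
  have h4 : tateMapₗ (l := l) (T := SGA7.pt (K := k) Ω) f.toHom = ((l : ℤ_[l]) ^ 1) • w := by
    rw [pow_one]
    exact hfw
  obtain ⟨φ', hφ', h5⟩ := K515.Integral.exists_eq_pow_comp hlk f.toHom 1 w h4
  refine ⟨EndAV.Hom.of φ', ?_⟩
  have h6 : f = l • EndAV.Hom.of φ' := by
    apply EndAV.Hom.ext
    rw [h5, EndAV.Hom.toHom_nsmul, EndAV.Hom.toHom_of, MonObj.pow_comp, Category.id_comp, pow_one]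
  refine LinearMap.ext fun x => sub_eq_zero.mp (hN l _ (by exact_mod_cast hl.out.ne_zero) ?_)
  rw [h6, map_nsmul] at hfw
  have h7 := LinearMap.congr_fun hfw x
  rw [LinearMap.smul_apply, LinearMap.smul_apply] at h7
  rw [smul_sub, ← h7, Nat.cast_smul_eq_nsmul, sub_self]

end K515.TateThm
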