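import Groth.Agent.Sga7.H761.PairCore

/-!
# The commutator (theta) pairing of a line bundle, abstractly

`D : Core K F X G` is a function field `F/K` with local rings `O p` and a group `G` acting by
translations; `γ : X → F` is a family of local generators ("Cartier cocycle") of a line bundle.
-/

set_option autoImplicit false

namespace K515.ThetaAbs

open Groth.Agent.Sga7.H761.PairCore

variable {K F X G : Type*} [Field K] [Field F] [Algebra K F] [CommGroup G] (D : Core K F X G)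

/-- `f` is a lift of the translation `w` to the line bundle with local generators `γ`. -/
def Lift (γ : X → F) (w : G) (f : F) : Prop :=
  f ≠ 0 ∧ ∀ b, IsU D b (γ b * f * (D.τ w (γ (D.act w b)))⁻¹)

variable {D}

lemma isU_one (p : X) : IsU D p (1 : F) :=
  ⟨one_ne_zero, (D.O p).one_mem, by rw [inv_one]; exact (D.O p).one_mem⟩

lemma isU_algebraMap {c : K} (hc : c ≠ 0) (p : X) : IsU D p (algebraMap K F c) :=
  ⟨(map_ne_zero _).mpr hc, D.algebraMap_mem c p, by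
    rw [← map_inv₀]; exact D.algebraMap_mem _ p⟩

lemma isU_congr {p : X} {x y : F} (h : IsU D p x) (e : x = y) : IsU D p y := e ▸ h

variable {γ δ : X → F} {v w : G} {f g : F}

lemma Lift.ne (h : Lift D γ w f) : f ≠ 0 := h.1

lemma Lift.one (hγ : ∀ b, γ b ≠ 0) : Lift D γ 1 1 :=
  ⟨one_ne_zero, fun b => isU_congr (isU_one b) (by
    rw [D.act_one, map_one, AlgEquiv.one_apply, mul_one, mul_inv_cancel₀ (hγ b)])⟩

lemma Lift.mul (hγ : ∀ b, γ b ≠ 0) (hv : Lift D γ v f) (hw : Lift D γ w g) :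
    Lift D γ (v * w) (f * D.τ v g) := by
  refine ⟨mul_ne_zero hv.1 ((map_ne_zero _).mpr hw.1), fun b => ?_⟩
  have h1 := (hw.2 (D.act v b)).map
  refine isU_congr ((hv.2 b).mul h1) ?_
  have h2 : D.τ v (γ (D.act v b)) ≠ 0 := (map_ne_zero _).mpr (hγ _)
  rw [map_mul, map_mul, map_inv₀, D.act_mul, map_mul, AlgEquiv.mul_apply]
  field_simp

lemma Lift.smul {c : K} (hc : c ≠ 0) (hv : Lift D γ v f) : Lift D γ v (algebraMap K F c * f) :=
  ⟨mul_ne_zero ((map_ne_zero _).mpr hc) hv.1, fun b =>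
    isU_congr ((isU_algebraMap hc b).mul (hv.2 b)) (by ring)⟩

lemma Lift.unique (hγ : ∀ b, γ b ≠ 0) (hf : Lift D γ v f) (hg : Lift D γ v g) :
    ∃ c : Kˣ, f = algebraMap K F c * g := by
  have h : ∀ p, IsU D p (f * g⁻¹) := fun p => by
    refine isU_congr ((hf.2 p).mul (hg.2 p).inv) ?_
    have h1 := hγ p
    have h2 : D.τ v (γ (D.act v p)) ≠ 0 := (map_ne_zero _).mpr (hγ _)
    have h3 := hg.1
    field_simp
  obtain ⟨c, hc0, hc⟩ := exists_const h (mul_ne_zero hf.1 (inv_ne_zero hg.1))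
  refine ⟨Units.mk0 c hc0, ?_⟩
  rw [Units.val_mk0, hc, mul_assoc, inv_mul_cancel₀ hg.1, mul_one]

lemma Lift.inv (hv : Lift D γ v f) :
    Lift D γ v⁻¹ (D.τ v⁻¹ f)⁻¹ := by
  refine ⟨inv_ne_zero ((map_ne_zero _).mpr hv.1), fun b => ?_⟩
  have h1 := ((hv.2 (D.act v⁻¹ b)).map).inv
  refine isU_congr h1 ?_
  have h2 : D.act v (D.act v⁻¹ b) = b := by rw [← D.act_mul, inv_mul_cancel, D.act_one]
  have h3 : ∀ x, D.τ v⁻¹ (D.τ v x) = x := fun x => by
    rw [← AlgEquiv.mul_apply, ← map_mul, inv_mul_cancel, map_one, AlgEquiv.one_apply]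
  rw [h2, map_mul, map_mul, map_inv₀, h3, mul_inv, mul_inv, inv_inv]
  ring

lemma Lift.pow_fam (hv : Lift D γ v f) (n : ℕ) : Lift D (fun b => γ b ^ n) v (f ^ n) :=
  ⟨pow_ne_zero n hv.1, fun b => isU_congr ((hv.2 b).pow n) (by
    rw [map_pow, mul_pow, mul_pow, inv_pow])⟩

lemma Lift.mul_fam (hf : Lift D γ v f) (hg : Lift D δ v g) :
    Lift D (fun b => γ b * δ b) v (f * g) :=
  ⟨mul_ne_zero hf.1 hg.1, fun b => isU_congr ((hf.2 b).mul (hg.2 b)) (by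
    rw [map_mul, mul_inv]; ring)⟩

/-- change of the local generators -/
lemma Lift.change (hγ : ∀ b, γ b ≠ 0) (hf : Lift D γ v f) {c : F} (hc : c ≠ 0)
    (h : ∀ b, IsU D b (γ b * c * (δ b)⁻¹)) : Lift D δ v (f * (D.τ v c * c⁻¹)) := by
  have hδ : ∀ b, δ b ≠ 0 := fun b h0 => (h b).1 (by rw [h0, inv_zero, mul_zero])
  refine ⟨mul_ne_zero hf.1 (mul_ne_zero ((map_ne_zero _).mpr hc) (inv_ne_zero hc)), fun b => ?_⟩
  refine isU_congr ((h b).inv.mul ((hf.2 b).mul (h (D.act v b)).map)) ?_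
  have h1 := hγ b
  have h2 := hδ b
  have h3 : D.τ v (γ (D.act v b)) ≠ 0 := (map_ne_zero _).mpr (hγ _)
  have h4 : D.τ v (δ (D.act v b)) ≠ 0 := (map_ne_zero _).mpr (hδ _)
  rw [map_mul, map_mul, map_inv₀]
  field_simp

lemma Lift.comm (hγ : ∀ b, γ b ≠ 0) (hv : Lift D γ v f) (hw : Lift D γ w g) :
    ∃ c : Kˣ, f * D.τ v g = algebraMap K F c * (g * D.τ w f) := by
  have h1 := hv.mul hγ hw
  have h2 := hw.mul hγ hv
  rw [mul_comm w v] at h2
  exact h1.unique hγ h2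

variable (D γ) in
/-- The group of translations fixing the line bundle. -/
def KL (hγ : ∀ b, γ b ≠ 0) : Subgroup G where
  carrier := {w | ∃ f, Lift D γ w f}
  mul_mem' := by
    rintro v w ⟨f, hf⟩ ⟨g, hg⟩
    exact ⟨_, hf.mul hγ hg⟩
  one_mem' := ⟨1, Lift.one hγ⟩
  inv_mem' := by
    rintro v ⟨f, hf⟩
    exact ⟨_, hf.inv⟩

variable (D γ) in
open Classical in
/-- The commutator pairing. -/
noncomputable def e (v w : G) : Kˣ :=
  if h : ∃ c : Kˣ, ∃ f g, Lift D γ v f ∧ Lift D γ w g ∧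
    f * D.τ v g = algebraMap K F c * (g * D.τ w f) then h.choose else 1

lemma units_eq {c d : Kˣ} {x : F} (hx : x ≠ 0) (h : algebraMap K F c * x = algebraMap K F d * x) :
    c = d := by
  have h1 := (algebraMap K F).injective (mul_right_cancel₀ hx h)
  exact Units.ext h1

lemma e_spec (hγ : ∀ b, γ b ≠ 0) (hv : Lift D γ v f) (hw : Lift D γ w g) :
    f * D.τ v g = algebraMap K F (e D γ v w : Kˣ) * (g * D.τ w f) := by
  obtain ⟨c, hc⟩ := hv.comm hγ hw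
  have h : ∃ c : Kˣ, ∃ f g, Lift D γ v f ∧ Lift D γ w g ∧
    f * D.τ v g = algebraMap K F c * (g * D.τ w f) := ⟨c, f, g, hv, hw, hc⟩
  have h1 : e D γ v w = h.choose := dif_pos h
  obtain ⟨f', g', hf', hg', h2⟩ := h.choose_spec
  rw [← h1] at h2
  obtain ⟨a, rfl⟩ := hf'.unique hγ hv
  obtain ⟨b, rfl⟩ := hg'.unique hγ hw
  have h3 : algebraMap K F (a : K) ≠ 0 := (map_ne_zero _).mpr a.ne_zero
  have h4 : algebraMap K F (b : K) ≠ 0 := (map_ne_zero _).mpr b.ne_zero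
  rw [map_mul, map_mul, AlgEquiv.commutes, AlgEquiv.commutes] at h2
  have h5 : algebraMap K F (a : K) * algebraMap K F (b : K) * (f * D.τ v g) =
      algebraMap K F (a : K) * algebraMap K F (b : K) *
        (algebraMap K F (e D γ v w : Kˣ) * (g * D.τ w f)) := by
    calc _ = algebraMap K F (a : K) * f * (algebraMap K F (b : K) * D.τ v g) := by ring
      _ = _ := h2
      _ = _ := by ring
  exact mul_left_cancel₀ (mul_ne_zero h3 h4) h5

lemma e_eq_of (hγ : ∀ b, γ b ≠ 0) (hv : Lift D γ v f) (hw : Lift D γ w g) {c : Kˣ}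
    (h : f * D.τ v g = algebraMap K F c * (g * D.τ w f)) : e D γ v w = c := by
  refine units_eq (x := g * D.τ w f) (mul_ne_zero hw.1 ((map_ne_zero _).mpr hv.1)) ?_
  rw [← e_spec hγ hv hw, h]

lemma e_self (hγ : ∀ b, γ b ≠ 0) (hv : v ∈ KL D γ hγ) : e D γ v v = 1 := by
  obtain ⟨f, hf⟩ := hv
  exact e_eq_of hγ hf hf (by rw [Units.val_one, map_one, one_mul])

lemma e_swap (hγ : ∀ b, γ b ≠ 0) (hv : v ∈ KL D γ hγ) (hw : w ∈ KL D γ hγ) :
    e D γ v w * e D γ w v = 1 := by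
  obtain ⟨f, hf⟩ := hv
  obtain ⟨g, hg⟩ := hw
  refine units_eq (x := f * D.τ v g) (mul_ne_zero hf.1 ((map_ne_zero _).mpr hg.1)) ?_
  rw [Units.val_one, map_one, one_mul, Units.val_mul, map_mul, mul_assoc, ← e_spec hγ hg hf,
    ← e_spec hγ hf hg]

lemma e_mul_right (hγ : ∀ b, γ b ≠ 0) {u : G} (hu : u ∈ KL D γ hγ) (hv : v ∈ KL D γ hγ)
    (hw : w ∈ KL D γ hγ) : e D γ u (v * w) = e D γ u v * e D γ u w := by
  obtain ⟨f, hf⟩ := hu
  obtain ⟨g, hg⟩ := hv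
  obtain ⟨h, hh⟩ := hw
  refine e_eq_of hγ hf (hg.mul hγ hh) ?_
  have h1 := e_spec hγ hf hg
  have h2 := e_spec hγ hf hh
  have h3 := congrArg (D.τ v) h2
  rw [map_mul, map_mul, map_mul, AlgEquiv.commutes] at h3
  have h4 : D.τ v (D.τ u h) = D.τ u (D.τ v h) := by
    rw [← AlgEquiv.mul_apply, ← AlgEquiv.mul_apply, ← map_mul, ← map_mul, mul_comm]
  rw [h4] at h3
  rw [map_mul, Units.val_mul, map_mul, map_mul, AlgEquiv.mul_apply]
  calc f * (D.τ u g * D.τ u (D.τ v h)) = (f * D.τ u g) * D.τ u (D.τ v h) := by ring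
    _ = algebraMap K F (e D γ u v : Kˣ) * g * (D.τ v f * D.τ u (D.τ v h)) := by rw [h1]; ring
    _ = _ := by rw [h3]; ring

lemma e_mul_left (hγ : ∀ b, γ b ≠ 0) {u : G} (hu : u ∈ KL D γ hγ) (hv : v ∈ KL D γ hγ)
    (hw : w ∈ KL D γ hγ) : e D γ (u * v) w = e D γ u w * e D γ v w := by
  have h1 := e_swap hγ (mul_mem hu hv) hw
  have h2 := e_swap hγ hu hw
  have h3 := e_swap hγ hv hw
  rw [e_mul_right hγ hw hu hv] at h1
  rw [eq_inv_of_mul_eq_one_left h1, eq_inv_of_mul_eq_one_left h2, eq_inv_of_mul_eq_one_left h3,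
    mul_inv]

lemma e_one_right (hγ : ∀ b, γ b ≠ 0) (hv : v ∈ KL D γ hγ) : e D γ v 1 = 1 := by
  have h := e_mul_right hγ hv (one_mem _) (one_mem (KL D γ hγ))
  rw [mul_one] at h
  exact (left_eq_mul.mp h)

lemma e_one_left (hγ : ∀ b, γ b ≠ 0) (hv : v ∈ KL D γ hγ) : e D γ 1 v = 1 := by
  have h := e_mul_left hγ (one_mem (KL D γ hγ)) (one_mem _) hv
  rw [mul_one] at h
  exact (left_eq_mul.mp h)

lemma e_pow_right (hγ : ∀ b, γ b ≠ 0) (hv : v ∈ KL D γ hγ) (hw : w ∈ KL D γ hγ) (n : ℕ) :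
    e D γ v (w ^ n) = e D γ v w ^ n := by
  induction n with
  | zero => rw [pow_zero, pow_zero, e_one_right hγ hv]
  | succ n ih => rw [pow_succ, e_mul_right hγ hv (pow_mem hw n) hw, ih, pow_succ]

lemma e_pow_left (hγ : ∀ b, γ b ≠ 0) (hv : v ∈ KL D γ hγ) (hw : w ∈ KL D γ hγ) (n : ℕ) :
    e D γ (v ^ n) w = e D γ v w ^ n := by
  induction n with
  | zero => rw [pow_zero, pow_zero, e_one_left hγ hw]
  | succ n ih => rw [pow_succ, e_mul_left hγ (pow_mem hv n) hv hw, ih, pow_succ]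

lemma KL_le_pow (hγ : ∀ b, γ b ≠ 0) (n : ℕ) :
    KL D γ hγ ≤ KL D (fun b => γ b ^ n) (fun b => pow_ne_zero n (hγ b)) := by
  rintro v ⟨f, hf⟩
  exact ⟨_, hf.pow_fam n⟩

lemma e_pow_fam (hγ : ∀ b, γ b ≠ 0) (hv : v ∈ KL D γ hγ) (hw : w ∈ KL D γ hγ) (n : ℕ) :
    e D (fun b => γ b ^ n) v w = e D γ v w ^ n := by
  obtain ⟨f, hf⟩ := hv
  obtain ⟨g, hg⟩ := hw
  refine e_eq_of (fun b => pow_ne_zero n (hγ b)) (hf.pow_fam n) (hg.pow_fam n) ?_
  rw [Units.val_pow_eq_pow_val, map_pow, map_pow, map_pow, ← mul_pow, ← mul_pow, ← mul_pow,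
    e_spec hγ hf hg]

lemma e_mul_fam (hγ : ∀ b, γ b ≠ 0) (hδ : ∀ b, δ b ≠ 0) (hv : v ∈ KL D γ hγ)
    (hw : w ∈ KL D γ hγ) (hv' : v ∈ KL D δ hδ) (hw' : w ∈ KL D δ hδ) :
    e D (fun b => γ b * δ b) v w = e D γ v w * e D δ v w := by
  obtain ⟨f, hf⟩ := hv
  obtain ⟨g, hg⟩ := hw
  obtain ⟨f', hf'⟩ := hv'
  obtain ⟨g', hg'⟩ := hw'
  refine e_eq_of (fun b => mul_ne_zero (hγ b) (hδ b)) (hf.mul_fam hf') (hg.mul_fam hg') ?_
  rw [Units.val_mul, map_mul, map_mul, map_mul]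
  calc f * f' * (D.τ v g * D.τ v g') = (f * D.τ v g) * (f' * D.τ v g') := by ring
    _ = _ := by rw [e_spec hγ hf hg, e_spec hδ hf' hg']; ring

lemma KL_change (hγ : ∀ b, γ b ≠ 0) (hδ : ∀ b, δ b ≠ 0) {c : F} (hc : c ≠ 0)
    (h : ∀ b, IsU D b (γ b * c * (δ b)⁻¹)) : KL D γ hγ = KL D δ hδ := by
  apply le_antisymm
  · rintro v ⟨f, hf⟩
    exact ⟨_, hf.change hγ hc h⟩
  · rintro v ⟨f, hf⟩
    refine ⟨_, hf.change hδ (inv_ne_zero hc) (fun b => isU_congr (h b).inv ?_)⟩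
    have := hγ b
    have := hδ b
    field_simp

lemma e_change (hγ : ∀ b, γ b ≠ 0) (hδ : ∀ b, δ b ≠ 0) {c : F} (hc : c ≠ 0)
    (h : ∀ b, IsU D b (γ b * c * (δ b)⁻¹)) (hv : v ∈ KL D γ hγ) (hw : w ∈ KL D γ hγ) :
    e D δ v w = e D γ v w := by
  obtain ⟨f, hf⟩ := hv
  obtain ⟨g, hg⟩ := hw
  refine e_eq_of hδ (hf.change hγ hc h) (hg.change hγ hc h) ?_
  have h4 : D.τ v (D.τ w c) = D.τ w (D.τ v c) := by
    rw [← AlgEquiv.mul_apply, ← AlgEquiv.mul_apply, ← map_mul, ← map_mul, mul_comm]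
  have h5 := e_spec hγ hf hg
  have h6 : D.τ v c ≠ 0 := (map_ne_zero _).mpr hc
  have h7 : D.τ w c ≠ 0 := (map_ne_zero _).mpr hc
  rw [map_mul, map_mul, map_mul, map_mul, map_inv₀, map_inv₀, h4]
  calc f * (D.τ v c * c⁻¹) * (D.τ v g * (D.τ w (D.τ v c) * (D.τ v c)⁻¹))
      = (f * D.τ v g) * (c⁻¹ * D.τ w (D.τ v c)) := by field_simp
    _ = _ := by rw [h5]; field_simp

/-! ### Functoriality -/

section functorial

variable {F' X' G' : Type*} [Field F'] [Algebra K F'] [CommGroup G'] (D' : Core K F' X' G')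
  (σ : F →ₐ[K] F') (ν : X' → X) (φ : G' →* G)

variable (D) in
/-- `σ`, `ν`, `φ` come from a dominant homomorphism. -/
structure Compat : Prop where
  τσ : ∀ v x, D'.τ v (σ x) = σ (D.τ (φ v) x)
  act : ∀ v p, ν (D'.act v p) = D.act (φ v) (ν p)
  mem : ∀ p x, x ∈ D.O (ν p) → σ x ∈ D'.O p

variable {D' σ ν φ}

lemma Compat.isU (h : Compat D D' σ ν φ) {p : X'} {x : F} (hx : IsU D (ν p) x) :
    IsU D' p (σ x) :=
  ⟨(map_ne_zero _).mpr hx.1, h.mem _ _ hx.2.1, by rw [← map_inv₀]; exact h.mem _ _ hx.2.2⟩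

lemma Compat.lift (h : Compat D D' σ ν φ) {v : G'} (hf : Lift D γ (φ v) f) :
    Lift D' (fun p => σ (γ (ν p))) v (σ f) :=
  ⟨(map_ne_zero _).mpr hf.1, fun p => isU_congr (h.isU (hf.2 (ν p))) (by
    rw [map_mul, map_mul, map_inv₀]
    beta_reduce
    rw [h.act, h.τσ])⟩

lemma Compat.mem_KL (h : Compat D D' σ ν φ) (hγ : ∀ b, γ b ≠ 0) {v : G'}
    (hv : φ v ∈ KL D γ hγ) :
    v ∈ KL D' (fun p => σ (γ (ν p))) (fun _ => (map_ne_zero _).mpr (hγ _)) := by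
  obtain ⟨f, hf⟩ := hv
  exact ⟨_, h.lift hf⟩

lemma Compat.e_eq (h : Compat D D' σ ν φ) (hγ : ∀ b, γ b ≠ 0) {v w : G'}
    (hv : φ v ∈ KL D γ hγ) (hw : φ w ∈ KL D γ hγ) :
    e D' (fun p => σ (γ (ν p))) v w = e D γ (φ v) (φ w) := by
  obtain ⟨f, hf⟩ := hv
  obtain ⟨g, hg⟩ := hw
  refine e_eq_of (fun _ => (map_ne_zero _).mpr (hγ _)) (h.lift hf) (h.lift hg) ?_
  rw [h.τσ, h.τσ, ← map_mul, ← map_mul, e_spec hγ hf hg, map_mul, AlgHom.commutes]

end functorial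

/-! ### Multiplication by `n` and symmetric line bundles -/

section mulN

variable {σ : F →ₐ[K] F} {ν : X → X} {n : ℕ}

/-- The compatibilities of multiplication by `n`. -/
structure MulN (D : Core K F X G) (σ : F →ₐ[K] F) (ν : X → X) (n : ℕ) : Prop where
  compat : Compat D D σ ν (powMonoidHom n)
  descend : ∀ p x, σ x ∈ D.O p → x ∈ D.O (ν p)
  surj : Function.Surjective ν
  fix : ∀ φ, (∀ y : G, y ^ n = 1 → D.τ y φ = φ) → ∃ ψ, σ ψ = φ

/-- **Compatibility of the pairings of the powers of a symmetric line bundle.** -/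
theorem MulN.e_pow (h : MulN D σ ν n) (hγ : ∀ b, γ b ≠ 0) {c : F} (hc : c ≠ 0)
    (hsym : ∀ p, IsU D p (σ (γ (ν p)) * c * (γ p ^ (n * n))⁻¹)) (m : ℕ)
    (hv : v ∈ KL D (fun b => γ b ^ (m * n)) (fun b => pow_ne_zero _ (hγ b)))
    (hw : w ∈ KL D (fun b => γ b ^ (m * n)) (fun b => pow_ne_zero _ (hγ b)))
    (hv' : v ^ n ∈ KL D (fun b => γ b ^ m) (fun b => pow_ne_zero _ (hγ b)))
    (hw' : w ^ n ∈ KL D (fun b => γ b ^ m) (fun b => pow_ne_zero _ (hγ b))) :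
    e D (fun b => γ b ^ (m * n)) v w ^ n = e D (fun b => γ b ^ m) (v ^ n) (w ^ n) := by
  have h1 := h.compat.e_eq (γ := fun b => γ b ^ m) (fun b => pow_ne_zero _ (hγ b)) (v := v)
    (w := w) hv' hw'
  rw [powMonoidHom_apply, powMonoidHom_apply] at h1
  rw [← h1]
  have h2 := e_pow_fam (fun b => pow_ne_zero (m * n) (hγ b)) hv hw n
  rw [← h2]
  refine e_change (fun b => (map_ne_zero σ).mpr (pow_ne_zero m (hγ _)))
    (fun b => pow_ne_zero n (pow_ne_zero (m * n) (hγ b))) (c := c ^ m) (pow_ne_zero m hc) ?_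
    (h.compat.mem_KL (γ := fun b => γ b ^ m) (fun b => pow_ne_zero _ (hγ b)) hv')
    (h.compat.mem_KL (γ := fun b => γ b ^ m) (fun b => pow_ne_zero _ (hγ b)) hw')
  intro b
  refine isU_congr ((hsym b).pow m) ?_
  rw [mul_pow, mul_pow, inv_pow, map_pow, ← pow_mul, ← pow_mul]
  congr 3
  ring

/-- **Nondegeneracy**: if `w` is killed by `n` and pairs trivially with all `n`-torsion (for the
pairing of the `n`-th power of a symmetric line bundle) then `w` fixes the line bundle. -/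
theorem MulN.mem_KL (h : MulN D σ ν n) (hγ : ∀ b, γ b ≠ 0) {c : F} (hc : c ≠ 0)
    (hsym : ∀ p, IsU D p (σ (γ (ν p)) * c * (γ p ^ (n * n))⁻¹))
    (hdiv : ∀ x : G, ∃ y, y ^ n = x)
    (hn : ∀ y : G, y ^ n = 1 → y ∈ KL D (fun b => γ b ^ n) (fun b => pow_ne_zero _ (hγ b)))
    (hnn : ∀ y : G, y ^ (n * n) = 1 →
      y ∈ KL D (fun b => γ b ^ (n * n)) (fun b => pow_ne_zero _ (hγ b)))
    (hwn : w ^ n = 1) {g : F} (hg : g ≠ 0)
    (hrel : ∀ p, IsU D p (σ (γ (ν p)) * g * (σ (D.τ w (γ (D.act w (ν p)))))⁻¹))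
    (hw : ∀ y : G, y ^ n = 1 → e D (fun b => γ b ^ n) y w = 1) : w ∈ KL D γ hγ := by
  have hγ' : ∀ b, σ (γ (ν b)) ≠ 0 := fun b => (map_ne_zero _).mpr (hγ _)
  obtain ⟨w', rfl⟩ := hdiv w
  have hw'nn : w' ^ (n * n) = 1 := by rw [pow_mul]; exact hwn
  -- `g` is a lift of `w'` for the pulled back bundle
  have hL : Lift D (fun p => σ (γ (ν p))) w' g := by
    refine ⟨hg, fun p => isU_congr (hrel p) ?_⟩
    have h1 := h.compat.act w' p
    rw [powMonoidHom_apply] at h1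
    have h2 := h.compat.τσ w' (γ (ν (D.act w' p)))
    rw [powMonoidHom_apply] at h2
    rw [h2, h1]
  have hfix : ∀ y : G, y ^ n = 1 → D.τ y g = g := by
    intro y hy
    have hy1 : Lift D (fun p => σ (γ (ν p))) y 1 := by
      refine ⟨one_ne_zero, fun p => isU_congr (isU_one p) ?_⟩
      have h1 := h.compat.act y p
      rw [powMonoidHom_apply, hy, D.act_one] at h1
      have h2 := h.compat.τσ y (γ (ν (D.act y p)))
      rw [powMonoidHom_apply, hy, map_one, AlgEquiv.one_apply] at h2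
      rw [mul_one, h2, h1, mul_inv_cancel₀ (hγ' p)]
    have h3 := e_spec hγ' hy1 hL
    -- the pairing is trivial
    have h4 : e D (fun p => σ (γ (ν p))) y w' = 1 := by
      obtain ⟨y', rfl⟩ := hdiv y
      have hy'nn : y' ^ (n * n) = 1 := by rw [pow_mul]; exact hy
      have h5 : e D (fun b => γ b ^ (n * n)) (y' ^ n) w' = e D (fun p => σ (γ (ν p))) (y' ^ n) w' :=
        e_change hγ' (fun b => pow_ne_zero _ (hγ b)) hc hsym ⟨1, hy1⟩ ⟨g, hL⟩
      rw [← h5, e_pow_left (fun b => pow_ne_zero _ (hγ b)) (hnn _ hy'nn) (hnn _ hw'nn),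
        h.e_pow hγ hc hsym n (hnn _ hy'nn) (hnn _ hw'nn) (hn _ hy) (hn _ hwn)]
      exact hw _ hy
    rw [h4, one_mul, Units.val_one, map_one, one_mul, map_one, mul_one] at h3
    exact h3
  obtain ⟨ψ, rfl⟩ := h.fix g hfix
  refine ⟨ψ, fun h0 => hg (by rw [h0, map_zero]), fun b => ?_⟩
  obtain ⟨p, rfl⟩ := h.surj b
  have h3 := hrel p
  have h4 : σ (γ (ν p)) * σ ψ * (σ (D.τ (w' ^ n) (γ (D.act (w' ^ n) (ν p)))))⁻¹ =
      σ (γ (ν p) * ψ * (D.τ (w' ^ n) (γ (D.act (w' ^ n) (ν p))))⁻¹) := by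
    rw [map_mul, map_mul, map_inv₀]
  rw [h4] at h3
  refine ⟨fun h0 => h3.1 (by rw [h0, map_zero]), h.descend _ _ h3.2.1, h.descend _ _ ?_⟩
  rw [map_inv₀]
  exact h3.2.2

end mulN

end K515.ThetaAbs
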